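import Cfsg.Agent.Lib.Invol.AschCrit.EndOne.Translate
import Cfsg.Agent.Lib.Invol.AschCrit.AffineProof

/-!
Owner: helper8. Aschbacher's criterion, end game of type one with `q ^ 3` other points: the classes in `u X`.

The normaliser of `P` at `a` acts affinely on `E` (square of the shift, conjugation); without translations
there are eight classes, and then the determinant on `X` of exponent four contradicts Thompson transfer.
-/

set_option autoImplicit false
set_option linter.unusedSectionVars false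
set_option linter.style.haveILetI false

namespace CfsgLib.AschCrit

open Subgroup MulAction

universe u v

variable {G : Type u} [Group G] [Finite G] {Ω : Type v} [MulAction G Ω]

theorem unit_sq_zmod_four : ∀ x y : ZMod 4, x * y = 1 → x * x = 1 := by decide

namespace OneModel

variable {D : Set G} {u : G} {a b : Ω} {E : Subgroup G} {q : ℕ} {P R X : Subgroup G} {η : G}
  (M : OneModel D u a b E q P R X η)
include M

theorem conj_u_inv (hinv : ∀ x ∈ X, br u x * (x * x) = 1) {x : G} (hx : x ∈ X) : u * x * u⁻¹ = x⁻¹ := by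
  rw [M.conj_eq_br, eq_inv_of_mul_eq_one_left (hinv x hx)]
  group

set_option maxHeartbeats 1000000 in
/-- With eight classes and no translations the determinant gives a subgroup avoiding all conjugates of `u`. -/
theorem no_eight (hR : Nat.card R = 2) (hg4 : ∀ x ∈ mems D a, ¬ 4 ∣ orderOf (u * x)) (hq : q = 8)
    (hinv : ∀ x ∈ X, br u x * (x * x) = 1)
    (hfix : ∀ g : G, g • a = a → g ∈ normalizer (P : Set G) → (∀ e ∈ E, Commute g e) → u * (g * u * g⁻¹) ∈ E) :
    False := by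
  classical
  haveI := Fact.mk Nat.prime_two
  obtain ⟨T, hPT, hTa⟩ := M.inp.exists_sylow_at P M.mod.two (fun g hg => M.fixP hg)
  have hET := M.E_le_P.trans hPT
  have hcl := M.stronglyClosed hg4 T hTa hPT
  have hC := M.cent_eq _ T.2 hTa hPT fun g hg => hfix g (hTa g hg)
  have hTE : ∀ g ∈ (T : Subgroup G), ∀ e ∈ E, g * e * g⁻¹ ∈ E := fun g hg e he =>
    hcl g e he (mul_mem (mul_mem hg (hET he)) (inv_mem hg))
  have hTN : ∀ g ∈ (T : Subgroup G), g ∈ normalizer (P : Set G) := fun g hg =>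
    mem_normalizer_of_mapsTo fun x hx => hC _ (mul_mem (mul_mem hg (hPT hx)) (inv_mem hg)) fun e he => by
      have h1 : g⁻¹ * e * g ∈ E := by
        have := hTE g⁻¹ (inv_mem hg) e he
        rwa [inv_inv] at this
      have h2 := (Commute.conj_iff g).2 (M.centE hx h1)
      rwa [show g * (g⁻¹ * e * g) * g⁻¹ = e by group] at h2
  -- `X` as a module of exponent four
  letI : CommGroup X := { (inferInstance : Group X) with mul_comm := fun x y => Subtype.ext (M.mod.X_comm x x.2 y y.2).eq }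
  letI : CommGroup E := { (inferInstance : Group E) with mul_comm := fun x y => Subtype.ext (M.commE x.2 y.2).eq }
  have h4 : ∀ x : Additive X, 4 • x = 0 := fun x => by
    apply Additive.toMul.injective
    show (Additive.toMul x : X) ^ 4 = 1
    refine Subtype.ext ?_
    rw [SubgroupClass.coe_pow, show (4 : ℕ) = 2 * 2 by norm_num, pow_mul, pow_two (Additive.toMul x : X).1, pow_two]
    exact M.sqE (M.mod.X_sq _ (Additive.toMul x).2)
  letI : Module (ZMod 4) (Additive X) := AddCommGroup.zmodModule h4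
  have h2 : ∀ e : Additive E, 2 • e = 0 := fun e => by
    apply Additive.toMul.injective
    show (Additive.toMul e : E) ^ 2 = 1
    exact Subtype.ext (by rw [SubgroupClass.coe_pow, pow_two]; exact M.sqE (Additive.toMul e).2)
  letI : Module (ZMod 2) (Additive E) := AddCommGroup.zmodModule h2
  haveI : Finite (Additive X) := Finite.of_equiv X Additive.ofMul
  haveI : Finite (Additive E) := Finite.of_equiv E Additive.ofMul
  -- squares cover `E`
  have hroot : ∀ e ∈ E, ∃ y ∈ X, y * y = e := fun e he => by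
    obtain ⟨y, hy, hye⟩ := M.mod.RX_onto u M.mod.u_mem M.u_ne e he
    refine ⟨y, hy, ?_⟩
    have h1 : br u y = e := hye
    have h2' := hinv y hy
    rw [h1] at h2'
    rw [eq_inv_of_mul_eq_one_right h2', inv_eq_of_mul_eq_one_right (M.sqE he)]
  let sq : Additive X →+ Additive E := MonoidHom.toAdditive
    (MonoidHom.mk' (fun x : X => (⟨(x : G) * x, M.mod.X_sq x x.2⟩ : E)) fun x y => Subtype.ext (M.sq_mul x.2 y.2))
  have hsq : Function.Surjective sq := fun e => by
    obtain ⟨y, hy, hye⟩ := hroot _ (Additive.toMul e).2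
    exact ⟨Additive.ofMul ⟨y, hy⟩, Additive.toMul.injective (Subtype.ext hye)⟩
  -- a basis
  have hrank : Module.finrank (ZMod 2) (Additive E) = 3 := by
    have h1 := Module.natCard_eq_pow_finrank (K := ZMod 2) (V := Additive E)
    rw [Nat.card_zmod, Nat.card_congr Additive.toMul, M.fr.data.card_E, hq] at h1
    exact (Nat.pow_right_injective (le_refl 2) (h1.symm.trans (by norm_num : 8 = 2 ^ 3)))
  let bE := Module.finBasisOfFinrankEq (ZMod 2) (Additive E) hrank
  choose y hy using fun i => hsq (bE i)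
  let f := Fintype.linearCombination (ZMod 4) y
  have hrangeE : ∀ e : Additive E, ∃ z ∈ LinearMap.range f, sq z = e := by
    intro e
    refine ⟨∑ i, (bE.repr e i).val • y i, Submodule.sum_mem _ fun i _ => nsmul_mem ?_ _, ?_⟩
    · exact ⟨Pi.single i 1, by simp [f, Fintype.linearCombination_apply_single]⟩
    · rw [map_sum]
      conv_rhs => rw [← bE.sum_repr e]
      refine Finset.sum_congr rfl fun i _ => ?_
      rw [map_nsmul, hy]
      conv_rhs => rw [← ZMod.natCast_zmod_val (bE.repr e i), Nat.cast_smul_eq_nsmul]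
  have hsurj : Function.Surjective f := fun x => by
    obtain ⟨z, hz, hze⟩ := hrangeE (sq x)
    -- the difference is in `E`, a double
    have hd : ((Additive.toMul (x - z) : X) : G) ∈ E := by
      refine M.mem_E_of_sq hinv (Additive.toMul (x - z) : X).2 ?_
      have h1 : sq (x - z) = 0 := by rw [map_sub, hze, sub_self]
      exact congrArg (fun e : Additive E => ((Additive.toMul e : E) : G)) h1
    obtain ⟨y', hy', hye'⟩ := hroot _ hd
    obtain ⟨z', hz', hze'⟩ := hrangeE (sq (Additive.ofMul ⟨y', hy'⟩))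
    have hd' : ((Additive.toMul (Additive.ofMul (⟨y', hy'⟩ : X) - z') : X) : G) ∈ E := by
      refine M.mem_E_of_sq hinv (Additive.toMul (Additive.ofMul (⟨y', hy'⟩ : X) - z') : X).2 ?_
      have h1 : sq (Additive.ofMul ⟨y', hy'⟩ - z') = 0 := by rw [map_sub, hze', sub_self]
      exact congrArg (fun e : Additive E => ((Additive.toMul e : E) : G)) h1
    have h3 : 2 • z' = x - z := by
      have h5 : 2 • (Additive.ofMul (⟨y', hy'⟩ : X)) = x - z := by
        apply Additive.toMul.injective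
        show (⟨y', hy'⟩ : X) ^ 2 = _
        exact Subtype.ext (by rw [SubgroupClass.coe_pow, pow_two]; exact hye')
      have h6 : 2 • (Additive.ofMul (⟨y', hy'⟩ : X) - z') = 0 := by
        apply Additive.toMul.injective
        show (Additive.toMul (Additive.ofMul (⟨y', hy'⟩ : X) - z') : X) ^ 2 = 1
        exact Subtype.ext (by rw [SubgroupClass.coe_pow, pow_two]; exact M.sqE hd')
      rw [nsmul_sub, sub_eq_zero] at h6
      rw [← h6, h5]
    obtain ⟨c, hc⟩ : x ∈ LinearMap.range f := by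
      rw [← sub_add_cancel x z, ← h3]
      exact add_mem (nsmul_mem hz' 2) hz
    exact ⟨c, hc⟩
  have hbij : Function.Bijective f := (Nat.bijective_iff_surjective_and_card f).2 ⟨hsurj, by
    rw [Nat.card_fun, Nat.card_fin, Nat.card_zmod, Nat.card_congr Additive.toMul, M.mod.X_card, hq]; norm_num⟩
  haveI : Module.Free (ZMod 4) (Additive X) := Module.Free.of_equiv (LinearEquiv.ofBijective f hbij)
  haveI : Nontrivial (ZMod 4) := ⟨⟨0, 1, by decide⟩⟩
  have hrank4 : Module.finrank (ZMod 4) (Additive X) = 3 := by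
    rw [← (LinearEquiv.ofBijective f hbij).finrank_eq, Module.finrank_fin_fun]
  -- the determinant
  let lin : (T : Subgroup G) →* Module.End (ZMod 4) (Additive X) :=
    { toFun := fun n => (MonoidHom.toAdditive (MonoidHom.mk'
        (fun x : X => (⟨(n : G) * x * (n : G)⁻¹, M.norm_X hR (hTN n n.2) x.2⟩ : X))
        fun x y => Subtype.ext (by push_cast; group))).toZModLinearMap 4
      map_one' := LinearMap.ext fun x => Additive.toMul.injective (Subtype.ext (by
        show (1 : G) * (Additive.toMul x : X) * (1 : G)⁻¹ = (Additive.toMul x : X); simp))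
      map_mul' := fun n k => LinearMap.ext fun x => Additive.toMul.injective (Subtype.ext (by
        show ((n : G) * k) * (Additive.toMul x : X) * ((n : G) * k)⁻¹ =
          (n : G) * ((k : G) * (Additive.toMul x : X) * (k : G)⁻¹) * (n : G)⁻¹
        group)) }
  let ρ : (T : Subgroup G) →* ZMod 4 := (LinearMap.det).comp lin
  have hρu : ρ ⟨u, hPT M.uP⟩ = -1 := by
    have h1 : lin ⟨u, hPT M.uP⟩ = (-1 : ZMod 4) • LinearMap.id := LinearMap.ext fun x => by
      rw [LinearMap.smul_apply, LinearMap.id_apply, neg_smul, one_smul]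
      apply Additive.toMul.injective
      exact Subtype.ext (M.conj_u_inv hinv (Additive.toMul x).2)
    show LinearMap.det (lin _) = -1
    rw [h1, LinearMap.det_smul, hrank4, LinearMap.det_id]
    decide
  have hρX : ∀ x (hx : x ∈ X), ρ ⟨x, hPT (M.mod.X_le hx)⟩ = 1 := fun x hx => by
    show LinearMap.det (lin _) = 1
    rw [show lin ⟨x, hPT (M.mod.X_le hx)⟩ = 1 from LinearMap.ext fun z => Additive.toMul.injective (Subtype.ext (by
      show x * (Additive.toMul z : X) * x⁻¹ = (Additive.toMul z : X)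
      rw [(M.mod.X_comm x hx _ (Additive.toMul z).2).eq, mul_inv_cancel_right])), map_one]
  have hρ2 : ∀ n, ρ n * ρ n = 1 := fun n => unit_sq_zmod_four _ (ρ n⁻¹) (by rw [← map_mul, mul_inv_cancel, map_one])
  set N₀ : Subgroup G := ρ.ker.map (T : Subgroup G).subtype
  have hmemN : ∀ g (hg : g ∈ (T : Subgroup G)), ρ ⟨g, hg⟩ = 1 → g ∈ N₀ := fun g hg he =>
    Subgroup.mem_map.2 ⟨⟨g, hg⟩, MonoidHom.mem_ker.2 he, rfl⟩
  obtain ⟨N, hN₀N, hNT, huN, hNi⟩ := CfsgLib.ThreeTrans.SylowSmallFrattini.exists_index_two (R := (T : Subgroup G))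
    (D := N₀) (map_subtype_le _) (hPT M.uP) (fun huN0 => by
      obtain ⟨⟨g, hg⟩, hgk, hgu⟩ := Subgroup.mem_map.1 huN0
      obtain rfl : g = u := hgu
      exact absurd (hρu.symm.trans (MonoidHom.mem_ker.1 hgk)) (by decide))
    (fun c hc => hmemN _ (mul_mem hc hc) ((map_mul ρ ⟨c, hc⟩ ⟨c, hc⟩).trans (hρ2 _)))
    (fun c hc d hd => hmemN _ (mul_mem (mul_mem (mul_mem hc hd) (inv_mem hc)) (inv_mem hd)) (by
      have e1 : (⟨c * d * c⁻¹ * d⁻¹, mul_mem (mul_mem (mul_mem hc hd) (inv_mem hc)) (inv_mem hd)⟩ : (T : Subgroup G)) =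
          ⟨c, hc⟩ * ⟨d, hd⟩ * ⟨c, hc⟩⁻¹ * ⟨d, hd⟩⁻¹ := rfl
      rw [e1, map_mul, map_mul, map_mul, mul_right_comm (ρ ⟨c, hc⟩) (ρ ⟨d, hd⟩), ← map_mul, mul_inv_cancel, map_one,
        one_mul, ← map_mul, mul_inv_cancel, map_one]))
  obtain ⟨d, d', hd, hd', hne, hc⟩ := M.exists_pair
  obtain ⟨g, hg⟩ := M.crit.exists_conj_mem (M.crit.commMul M.inp.faith) M.inp.top hd hd' hne hc T N hNi
    M.fr.multi.1
  set w := g * u * g⁻¹ with hw
  have hwT := hNT hg
  have hwm : IsMulti Ω w := M.fr.multi.conj g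
  have hww : w * w = 1 := by rw [← pow_two, ← hwm.1, pow_orderOf_eq_one]
  have hwE : w ∉ E := fun hE => M.not_mem_D hwm (M.memE hE fun e => by
    have := hwm.1
    rw [e, orderOf_one] at this
    omega).1
  have hwP : w ∈ P := by
    by_contra hwP
    obtain ⟨e, he, hee⟩ : ∃ e ∈ E, w * e * w⁻¹ ≠ e := by
      by_contra hall
      push Not at hall
      exact hwP (hC w hwT fun e he => mul_inv_eq_iff_eq_mul.1 (hall e he))
    obtain ⟨y', hy', hye⟩ := hroot e he
    have hwy := M.norm_X hR (hTN w hwT) hy'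
    set z := y' * (w * y' * w⁻¹) with hz
    have hzX : z ∈ X := mul_mem hy' hwy
    have hzw : Commute z w := by
      have hcz := M.mod.X_comm y' hy' _ hwy
      have h1 : w * z * w⁻¹ = z := by
        calc w * z * w⁻¹ = w * y' * w⁻¹ * (w * w * y' * (w * w)⁻¹) := by rw [hz]; group
          _ = z := by rw [hww, one_mul, inv_one, mul_one, hz, hcz.eq]
      exact (mul_inv_eq_iff_eq_mul.1 h1).symm
    have hzz : z * z ≠ 1 := by
      rw [hz, M.sq_mul hy' hwy, show w * y' * w⁻¹ * (w * y' * w⁻¹) = w * (y' * y') * w⁻¹ by group, hye]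
      intro h1
      exact hee (by rw [eq_inv_of_mul_eq_one_right h1, inv_eq_of_mul_eq_one_right (M.sqE he)])
    obtain ⟨m, hma, hm⟩ := M.crit.fus M.usq M.fr.data.fix_a (g := g) (hTa w hwT)
    rw [← hw] at hm
    set z' := m⁻¹ * z * m
    have hz'u : Commute z' u := by
      have h1 := (Commute.conj_iff m⁻¹).2 hzw
      rw [inv_inv] at h1
      rwa [show m⁻¹ * w * m = u by rw [← hm]; group] at h1
    have hz'a : z' • a = a := by rw [mul_smul, mul_smul, hma, M.fixP (M.mod.X_le hzX), inv_smul_eq_iff, hma]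
    set Xu : Subgroup G := stabilizer G a ⊓ centralizer ({u} : Set G)
    have hPu : P ⊓ centralizer ({u} : Set G) ≤ Xu := inf_le_inf_right _ fun x hx => M.fixP hx
    obtain ⟨S, hS⟩ := ((M.mod.two.to_le (inf_le_left : P ⊓ centralizer ({u} : Set G) ≤ P)).comap_subtype
      (K := Xu)).exists_le_sylow
    have hz'4 : z' * z' * (z' * z') = 1 := by
      rw [show z' * z' * (z' * z') = m⁻¹ * (z * z * (z * z)) * m by simp only [z']; group,
        M.sqE (M.mod.X_sq z hzX)]
      group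
    obtain ⟨T', hT'⟩ := (IsPGroup.of_card (n := _) (Nat.card_zpowers (⟨z', hz'a, mem_centralizer_singleton_iff.2 hz'u.eq⟩ : Xu) |>.trans
      ((Nat.dvd_prime_pow Nat.prime_two).1 (orderOf_dvd_of_pow_eq_one (n := 2 ^ 2) (Subtype.ext (by
        rw [SubgroupClass.coe_pow, show (2 : ℕ) ^ 2 = 2 * 2 by norm_num, pow_mul, pow_two (z' : G), pow_two]
        exact hz'4)))).choose_spec.2)).exists_le_sylow
    obtain ⟨k, hk⟩ := MulAction.exists_smul_eq Xu T' S
    set S' : Subgroup G := (S : Subgroup Xu).map Xu.subtype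
    have hS'2 : IsPGroup 2 S' := S.isPGroup'.map _
    have hS'a : ∀ x ∈ S', x • a = a := fun x hx => (map_subtype_le _ hx).1
    have hS'u : ∀ x ∈ S', Commute x u := fun x hx => mem_centralizer_singleton_iff.1 (map_subtype_le _ hx).2
    have hin : ∀ x (hx : x ∈ P), Commute x u → x ∈ S' := fun x hx hxu =>
      ⟨⟨x, hPu ⟨hx, mem_centralizer_singleton_iff.2 hxu.eq⟩⟩, hS ⟨hx, mem_centralizer_singleton_iff.2 hxu.eq⟩, rfl⟩
    have hES' : E ≤ S' := fun x hx => hin x (M.E_le_P hx) ((M.centE M.uP hx).symm)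
    set z'' := (k : G) * z' * (k : G)⁻¹
    have hz''S : z'' ∈ S' := by
      refine ⟨k * ⟨z', hz'a, mem_centralizer_singleton_iff.2 hz'u.eq⟩ * k⁻¹, ?_, rfl⟩
      rw [← hk, SetLike.mem_coe, Sylow.coe_subgroup_smul, Subgroup.mem_pointwise_smul_iff_inv_smul_mem]
      show (MulAut.conj k)⁻¹ _ ∈ _
      rw [← map_inv, MulAut.conj_apply, inv_inv]
      simpa [mul_assoc] using hT' (mem_zpowers _)
    obtain ⟨τ, hτ, -, -, -, -, hτn⟩ := M.exists_torus
    have hnorm : ∀ x ∈ S', NormTorus E τ x := fun x hx => hτn x (hS'u x hx) (hS'a x hx)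
      fun e he => M.norm_E_of_commute S' hS'2 hS'a hES' hx (hS'u x hx) he
    have hinvol : ∀ x ∈ S', (∀ e ∈ E, x * (x * e * x⁻¹) * x⁻¹ = e) → ∀ e ∈ E, x * e * x⁻¹ = e := by
      intro x hx hx2 e he
      by_contra hne'
      have h1 := hτ.half_fix (M.fr.data.pow.imp fun _ h => h.2) M.fr.data.card_E (hnorm x hx) hx2 ⟨e, he, hne'⟩
      rw [hq] at h1
      have hb : Nat.card (E ⊓ centralizer {x} : Subgroup G) ≤ 8 := Nat.le_of_dvd (by norm_num) ⟨_, h1.symm⟩
      interval_cases (Nat.card (E ⊓ centralizer {x} : Subgroup G)) <;> omega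
    have hz''4 : z'' * z'' * (z'' * z'') = 1 := by
      rw [show z'' * z'' * (z'' * z'') = (k : G) * (z' * z' * (z' * z')) * (k : G)⁻¹ by simp only [z'']; group, hz'4]
      group
    have hsqc : ∀ e ∈ E, z'' * z'' * e * (z'' * z'')⁻¹ = e := hinvol _ (mul_mem hz''S hz''S) fun e he => by
      rw [show z'' * z'' * (z'' * z'' * e * (z'' * z'')⁻¹) * (z'' * z'')⁻¹ =
        z'' * z'' * (z'' * z'') * e * (z'' * z'' * (z'' * z''))⁻¹ by group, hz''4]
      simp
    have hz''E : ∀ e ∈ E, Commute z'' e := fun e he => mul_inv_eq_iff_eq_mul.1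
      (hinvol _ hz''S (fun e he => by
        rw [show z'' * (z'' * e * z''⁻¹) * z''⁻¹ = z'' * z'' * e * (z'' * z'')⁻¹ by group]
        exact hsqc e he) e he)
    have h1 := M.sq_eq_one_of_cent hR S' hS'2 hS'a hES' M.fr.multi (hin u M.uP (Commute.refl u))
      (fun e he => M.centE M.uP he) hz''S (hS'u _ hz''S) hz''E
    refine hzz ?_
    calc z * z = m * ((k : G)⁻¹ * (z'' * z'') * (k : G)) * m⁻¹ := by simp only [z'', z']; group
      _ = 1 := by rw [h1]; group
  -- involutions of `P` outside `E` are in `u X`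
  rcases M.gen_two hR hwP with h1 | h1
  · exact hwE (M.mem_E_of_sq hinv h1 hww)
  · exact huN (by simpa using mul_mem (hN₀N (hmemN _ _ (hρX _ h1))) (inv_mem hg))

set_option maxHeartbeats 1000000 in
/-- With `q ^ 3` other points there is no model of type one. -/
theorem case_cube (hn : Nat.card Ω - 1 = q ^ 3) (hg4 : ∀ x ∈ mems D a, ¬ 4 ∣ orderOf (u * x)) : False := by
  classical
  haveI := Fact.mk Nat.prime_two
  have hR := M.card_R_two hn
  have hno : ∀ g : G, g • a = a → g ∈ normalizer (P : Set G) → (∀ e ∈ E, Commute g e) →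
      u * (g * u * g⁻¹) ∈ E := fun g h1 h2 h3 => by
    by_contra h4
    exact M.no_translation hR hn hg4 h1 h2 h3 h4
  obtain ⟨g₁, hg₁a, hg₁N, hg₁⟩ := M.exists_shift hR hg4
  have hinv := M.inverts hR hg₁N hg₁
  set N₀ : Subgroup G := stabilizer G a ⊓ normalizer (P : Set G)
  let sh : N₀ → G := fun g => u * ((g : G) * u * (g : G)⁻¹)
  have hshX : ∀ g : N₀, sh g ∈ X := fun g => M.shift_mem hR g.2.2
  have hnE : ∀ (g : N₀), ∀ e ∈ E, (g : G) * e * (g : G)⁻¹ ∈ E := fun g e he => M.norm_E hR g.2.2 he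
  letI : CommGroup E := { (inferInstance : Group E) with mul_comm := fun x y => Subtype.ext (M.commE x.2 y.2).eq }
  haveI : Finite (Additive E) := Finite.of_equiv E Additive.ofMul
  let tr : N₀ → E := fun g => ⟨sh g * sh g, M.mod.X_sq _ (hshX g)⟩
  let lc : N₀ → E → E := fun g e => ⟨(g : G) * e * (g : G)⁻¹, hnE g e e.2⟩
  have htr : ∀ g k : N₀, tr (g * k) = tr g * lc g (tr k) := fun g k => Subtype.ext (by
    have e1 : sh (g * k) = sh g * ((g : G) * sh k * (g : G)⁻¹) := by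
      show u * ((g : G) * k * u * ((g : G) * k)⁻¹) = _
      calc u * ((g : G) * k * u * ((g : G) * k)⁻¹) = u * ((g : G) * ((k : G) * u * (k : G)⁻¹) * (g : G)⁻¹) := by group
        _ = u * ((g : G) * (u * sh k) * (g : G)⁻¹) := by rw [← M.conj_u_eq]
        _ = _ := by simp only [sh]; group
    show sh (g * k) * sh (g * k) = sh g * sh g * ((g : G) * (sh k * sh k) * (g : G)⁻¹)
    rw [e1, M.sq_mul (hshX g) (M.norm_X hR g.2.2 (hshX k))]
    group)
  have hlc : ∀ (g : N₀) (e f : E), lc g (e * f) = lc g e * lc g f := fun g e f => Subtype.ext (by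
    show (g : G) * ((e : G) * f) * (g : G)⁻¹ = (g : G) * e * (g : G)⁻¹ * ((g : G) * f * (g : G)⁻¹)
    group)
  have hlc1 : ∀ g : N₀, lc g 1 = 1 := fun g => Subtype.ext (by
    show (g : G) * (1 : G) * (g : G)⁻¹ = 1
    simp)
  have hinj : ∀ g : N₀, Function.Injective (fun e : E => tr g * lc g e) := fun g e f h1 =>
    Subtype.ext ((MulAut.conj (g : G)).injective (congrArg Subtype.val (mul_left_cancel h1) :))
  let π : N₀ → Equiv.Perm (Additive E) := fun g => Equiv.ofBijective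
    (fun e => Additive.ofMul (tr g * lc g (Additive.toMul e))) (Finite.injective_iff_bijective.1 fun e f h1 =>
      Additive.toMul.injective (hinj g (Additive.ofMul.injective h1)))
  let Φ : N₀ →* Equiv.Perm (Additive E) := MonoidHom.mk' π fun g k => Equiv.ext fun e => Additive.toMul.injective (by
    show tr (g * k) * lc (g * k) (Additive.toMul e) = tr g * lc g (tr k * lc k (Additive.toMul e))
    rw [htr, hlc, mul_assoc]
    congr 2
    exact Subtype.ext (by show ((g : G) * k) * (Additive.toMul e : E) * ((g : G) * k)⁻¹ = _; simp only [lc]; group))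
  have hΦ : ∀ g (e : Additive E), Additive.toMul (Φ g e) = tr g * lc g (Additive.toMul e) := fun g e => rfl
  have hesq : ∀ e : E, e * e = 1 := fun e => Subtype.ext (M.sqE e.2)
  have htr0 : ∀ g : N₀, tr g = 1 → u * ((g : G) * u * (g : G)⁻¹) ∈ E := fun g hg =>
    M.mem_E_of_sq hinv (hshX g) (congrArg Subtype.val hg)
  have hη : ∀ j : ℕ, η ^ j ∈ N₀ := fun j => pow_mem (show η ∈ N₀ from ⟨M.mod.h_fix.1, M.eta_normalizer⟩) j
  -- the torus of the data inside the normaliser
  obtain ⟨τ, hτ, -, hτu, hτa, -, hτn⟩ := M.exists_torus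
  set L₀ : Subgroup G := transSubOne u a E
  have hPL : P ≤ L₀ := fun x hx => M.mod.sub x hx
  have hτL : P.map (MulAut.conj τ).toMonoidHom ≤ L₀ := by
    rintro _ ⟨x, hx, rfl⟩
    obtain ⟨hxa, hxE, hxu⟩ := mem_transSub_one.1 (hPL hx)
    have hτ' := hτ.mem_normalizer
    refine mem_transSub_one.2 ⟨?_, fun e he => ?_, ?_⟩
    · show (τ * x * τ⁻¹) • a = a
      rw [mul_smul, mul_smul, inv_smul_eq_iff.2 hτa.symm, hxa, hτa]
    · have h1 : τ⁻¹ * e * τ ∈ E := by
        have := (mem_normalizer_iff.1 (inv_mem hτ') e).1 he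
        rwa [inv_inv] at this
      have h2 := (Commute.conj_iff τ).2 (hxE _ h1)
      rwa [show τ * (τ⁻¹ * e * τ) * τ⁻¹ = e by group] at h2
    · show u⁻¹ * (τ * x * τ⁻¹ * u * (τ * x * τ⁻¹)⁻¹) ∈ E
      rw [show u⁻¹ * (τ * x * τ⁻¹ * u * (τ * x * τ⁻¹)⁻¹) = τ * (u⁻¹ * (x * u * x⁻¹)) * τ⁻¹ from ?_]
      · exact hτ.norm _ hxu
      calc u⁻¹ * (τ * x * τ⁻¹ * u * (τ * x * τ⁻¹)⁻¹) = (u⁻¹ * τ) * x * (τ⁻¹ * u * τ) * x⁻¹ * τ⁻¹ := by group
        _ = τ * u⁻¹ * x * u * x⁻¹ * τ⁻¹ := by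
          rw [hτu.inv_right.eq, show τ⁻¹ * u * τ = u by rw [mul_assoc, ← hτu.eq, inv_mul_cancel_left]]
        _ = _ := by group
  obtain ⟨S₁, hS₁⟩ := (M.mod.two.comap_subtype (K := L₀)).exists_le_sylow
  obtain ⟨S₂, hS₂⟩ := ((M.mod.two.map (MulAut.conj τ).toMonoidHom).comap_subtype (K := L₀)).exists_le_sylow
  have hfull : (S₁ : Subgroup L₀).map L₀.subtype = P := (Subgroup.eq_of_le_of_card_ge
    (show P ≤ (S₁ : Subgroup L₀).map L₀.subtype from fun x hx => ⟨⟨x, hPL hx⟩, hS₁ hx, rfl⟩)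
    (M.mod.sylow _ (S₁.isPGroup'.map _) fun x hx => map_subtype_le _ hx)).symm
  obtain ⟨l, hl⟩ := MulAction.exists_smul_eq L₀ S₂ S₁
  obtain ⟨hla, hlE, hlu⟩ := mem_transSub_one.1 l.2
  set τ' : G := (l : G) * τ
  have hτ'N : τ' ∈ normalizer (P : Set G) := by
    refine mem_normalizer_of_mapsTo fun x hx => ?_
    rw [← hfull]
    refine ⟨l * ⟨τ * x * τ⁻¹, hτL ⟨x, hx, rfl⟩⟩ * l⁻¹, ?_, by show (l : G) * (τ * x * τ⁻¹) * (l : G)⁻¹ = _; simp only [τ']; group⟩
    rw [← hl, SetLike.mem_coe, Sylow.coe_subgroup_smul, Subgroup.mem_pointwise_smul_iff_inv_smul_mem]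
    show (MulAut.conj l)⁻¹ _ ∈ _
    rw [← map_inv, MulAut.conj_apply, inv_inv]
    simpa [mul_assoc] using hS₂ (show (⟨τ * x * τ⁻¹, hτL ⟨x, hx, rfl⟩⟩ : L₀) ∈
      (P.map (MulAut.conj τ).toMonoidHom).comap L₀.subtype from ⟨x, hx, rfl⟩)
  have hτ'a : τ' • a = a := by show ((l : G) * τ) • a = a; rw [mul_smul, hτa, hla]
  let c₀ : N₀ := ⟨τ', hτ'a, hτ'N⟩
  have hc₀t : tr c₀ = 1 := by
    have h1 : u * (τ' * u * τ'⁻¹) ∈ E := by
      rw [show τ' * u * τ'⁻¹ = (l : G) * (τ * u * τ⁻¹) * (l : G)⁻¹ by simp only [τ']; group, hτu.eq,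
        mul_inv_cancel_right]
      rwa [M.uinv] at hlu
    exact Subtype.ext (M.sqE h1)
  have hc₀E : ∀ e ∈ E, τ' * e * τ'⁻¹ = τ * e * τ⁻¹ := fun e he => by
    rw [show τ' * e * τ'⁻¹ = (l : G) * (τ * e * τ⁻¹) * (l : G)⁻¹ by simp only [τ']; group,
      (hlE _ (hτ.norm e he)).eq, mul_inv_cancel_right]
  have hc₀pow : ∀ j : ℕ, tr (c₀ ^ j) = 1 ∧ ∀ e : E, (lc (c₀ ^ j) e : G) = τ ^ j * e * (τ ^ j)⁻¹ := by
    intro j
    induction j with
    | zero =>
      refine ⟨Subtype.ext ?_, fun e => by simp [lc]⟩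
      show u * (((c₀ ^ 0 : N₀) : G) * u * ((c₀ ^ 0 : N₀) : G)⁻¹) * _ = 1
      simp [sh, M.usq]
    | succ j ih =>
      refine ⟨by rw [pow_succ', htr, hc₀t, ih.1, hlc1, one_mul], fun e => ?_⟩
      have h1 : (lc (c₀ ^ (j + 1)) e : G) = τ' * (lc (c₀ ^ j) e : G) * τ'⁻¹ := by
        show ((c₀ ^ (j + 1) : N₀) : G) * e * ((c₀ ^ (j + 1) : N₀) : G)⁻¹ =
          τ' * (((c₀ ^ j : N₀) : G) * e * ((c₀ ^ j : N₀) : G)⁻¹) * τ'⁻¹
        rw [pow_succ', Subgroup.coe_mul]
        show τ' * _ * _ * (τ' * _)⁻¹ = _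
        group
      rw [h1, hc₀E _ (lc (c₀ ^ j) e).2, ih.2, pow_succ']
      group
  have hc₀0 : Φ c₀ 0 = 0 := Additive.toMul.injective (by rw [hΦ, hc₀t, one_mul]; exact hlc1 c₀)
  rcases translationsOrEight (Additive E) Φ.range (fun e => Additive.toMul.injective (hesq _))
    (by
      rintro _ ⟨g, rfl⟩ x y
      apply Additive.toMul.injective
      show tr g * lc g (Additive.toMul x * Additive.toMul y) =
        tr g * lc g (Additive.toMul x) * (tr g * lc g (Additive.toMul y)) * (tr g * lc g 1)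
      rw [hlc, hlc1, mul_one, mul_mul_mul_comm, hesq, one_mul, mul_comm])
    (by
      intro x
      rcases eq_or_ne x 0 with rfl | hx
      · exact ⟨1, one_mem _, rfl⟩
      let g₀ : N₀ := ⟨g₁, hg₁a, hg₁N⟩
      have hx₁ : tr g₀ ≠ 1 := fun e => hg₁ (htr0 g₀ e)
      obtain ⟨j, hj⟩ := M.mod.h_trans _ (tr g₀).2 _ (Additive.toMul x).2 (fun e => hx₁ (Subtype.ext e))
        (fun e => hx (Additive.toMul.injective (Subtype.ext e)))
      refine ⟨Φ (⟨η ^ j, hη j⟩ * g₀ * ⟨η ^ j, hη j⟩⁻¹), MonoidHom.mem_range.2 ⟨_, rfl⟩,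
        Additive.toMul.injective ?_⟩
      rw [hΦ]
      refine Subtype.ext ?_
      have hcu : Commute (η ^ j) u := M.mod.h_cent.1.pow_left j
      have e2 : sh (⟨η ^ j, hη j⟩ * g₀ * ⟨η ^ j, hη j⟩⁻¹) = η ^ j * sh g₀ * (η ^ j)⁻¹ := by
        show u * (η ^ j * g₁ * (η ^ j)⁻¹ * u * (η ^ j * g₁ * (η ^ j)⁻¹)⁻¹) = η ^ j * (u * (g₁ * u * g₁⁻¹)) * (η ^ j)⁻¹
        calc u * (η ^ j * g₁ * (η ^ j)⁻¹ * u * (η ^ j * g₁ * (η ^ j)⁻¹)⁻¹)
            = u * η ^ j * g₁ * ((η ^ j)⁻¹ * u * η ^ j) * g₁⁻¹ * (η ^ j)⁻¹ := by group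
          _ = η ^ j * u * g₁ * u * g₁⁻¹ * (η ^ j)⁻¹ := by
            rw [← hcu.eq, show (η ^ j)⁻¹ * u * η ^ j = u by rw [mul_assoc, ← hcu.eq, inv_mul_cancel_left]]
          _ = _ := by group
      show sh (⟨η ^ j, hη j⟩ * g₀ * ⟨η ^ j, hη j⟩⁻¹) * sh (⟨η ^ j, hη j⟩ * g₀ * ⟨η ^ j, hη j⟩⁻¹) *
        ((lc _ (1 : E) : E) : G) = _
      rw [hlc1, OneMemClass.coe_one, mul_one, e2]
      refine Eq.trans ?_ hj
      show _ = η ^ j * (sh g₀ * sh g₀) * (η ^ j)⁻¹
      group)
    (by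
      refine ⟨Φ c₀, ⟨c₀, rfl⟩, hc₀0, ?_, ?_⟩
      · intro x y hx hy
        obtain ⟨j, hj⟩ := hτ.trans _ (Additive.toMul x).2 _ (Additive.toMul y).2
          (fun e => hx (Additive.toMul.injective (Subtype.ext e)))
          (fun e => hy (Additive.toMul.injective (Subtype.ext e)))
        refine ⟨j, Additive.toMul.injective ?_⟩
        rw [← map_pow, hΦ, (hc₀pow j).1, one_mul]
        exact Subtype.ext (((hc₀pow j).2 _).trans hj)
      · rintro _ ⟨g, rfl⟩ hg0
        have hgt : tr g = 1 := by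
          have := congrArg Additive.toMul hg0
          rwa [hΦ, show Additive.toMul (0 : Additive E) = 1 from rfl, hlc1, mul_one] at this
        obtain ⟨y, hy, hye⟩ := M.exists_conj_u (htr0 g hgt)
        rw [← M.conj_u_eq] at hye
        have hgu : Commute (y⁻¹ * (g : G)) u := by
          show y⁻¹ * (g : G) * u = u * (y⁻¹ * g)
          calc y⁻¹ * (g : G) * u = y⁻¹ * ((g : G) * u * (g : G)⁻¹) * g := by group
            _ = y⁻¹ * (y * u * y⁻¹) * g := by rw [hye]
            _ = u * (y⁻¹ * g) := by group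
        have hyg : ∀ e ∈ E, y⁻¹ * (g : G) * e * (y⁻¹ * (g : G))⁻¹ = (g : G) * e * (g : G)⁻¹ := fun e he => by
          rw [show y⁻¹ * (g : G) * e * (y⁻¹ * (g : G))⁻¹ = y⁻¹ * ((g : G) * e * (g : G)⁻¹) * y by group,
            (M.centE (M.mod.X_le (inv_mem hy)) (hnE g e he)).eq, inv_mul_cancel_right]
        have hya : y • a = a := M.fixP (M.mod.X_le hy)
        obtain ⟨-, j, hj⟩ := hτn _ hgu (by rw [mul_smul, g.2.1, inv_smul_eq_iff, hya])
          (fun e he => by rw [hyg e he]; exact hnE g e he)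
        refine ⟨(j : ℤ), ?_⟩
        show Φ c₀ ^ (j : ℤ) = _
        rw [zpow_natCast, ← map_pow, ← map_inv, ← map_mul, ← map_mul]
        have hginv : tr g⁻¹ = 1 := by
          have h1 := htr g⁻¹ g
          rw [inv_mul_cancel, hgt, hlc1, mul_one] at h1
          rw [← h1]
          exact Subtype.ext (by show u * ((1 : G) * u * (1 : G)⁻¹) * _ = _; simp [sh, M.usq])
        have ht1 : tr (g * c₀ * g⁻¹) = 1 := by rw [htr, htr, hgt, hc₀t, hginv, hlc1, hlc1, one_mul, one_mul]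
        refine Equiv.ext fun e => Additive.toMul.injective ?_
        rw [hΦ, hΦ, ht1, (hc₀pow j).1, one_mul, one_mul]
        refine Subtype.ext ?_
        set e' : E := Additive.toMul e
        rw [(hc₀pow j).2]
        have hge : (g : G)⁻¹ * e' * g ∈ E := by
          have := hnE g⁻¹ e' e'.2
          rwa [InvMemClass.coe_inv, inv_inv] at this
        have hτ'conj : ((g * c₀ * g⁻¹ : N₀) : G) = (g : G) * τ' * (g : G)⁻¹ := rfl
        show _ = ((g * c₀ * g⁻¹ : N₀) : G) * e' * ((g * c₀ * g⁻¹ : N₀) : G)⁻¹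
        rw [hτ'conj, show (g : G) * τ' * (g : G)⁻¹ * e' * ((g : G) * τ' * (g : G)⁻¹)⁻¹ =
          (g : G) * (τ' * ((g : G)⁻¹ * e' * g) * τ'⁻¹) * (g : G)⁻¹ by group, hc₀E _ hge, ← hj e' e'.2]
        have hw' : y⁻¹ * (g : G) * τ * (y⁻¹ * (g : G))⁻¹ * e' * (y⁻¹ * (g : G) * τ * (y⁻¹ * (g : G))⁻¹)⁻¹ =
          y⁻¹ * (g : G) * (τ * ((y⁻¹ * (g : G))⁻¹ * e' * (y⁻¹ * g)) * τ⁻¹) * (y⁻¹ * (g : G))⁻¹ := by group
        rw [hw']
        have h1 : (y⁻¹ * (g : G))⁻¹ * e' * (y⁻¹ * g) = (g : G)⁻¹ * e' * g := by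
          have := hyg _ hge
          rw [show (g : G) * ((g : G)⁻¹ * e' * g) * (g : G)⁻¹ = e' by group] at this
          calc (y⁻¹ * (g : G))⁻¹ * e' * (y⁻¹ * g)
              = (y⁻¹ * (g : G))⁻¹ * (y⁻¹ * g * ((g : G)⁻¹ * e' * g) * (y⁻¹ * (g : G))⁻¹) * (y⁻¹ * g) := by rw [this]
            _ = _ := by group
        rw [h1]
        exact hyg _ (hτ.norm _ hge))
    with hall | h8
  · obtain ⟨e₀, he₀, he₀1⟩ := M.exists_ne_one
    obtain ⟨g, hg⟩ := hall (Additive.ofMul ⟨e₀, he₀⟩)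
    have h0 : tr g = ⟨e₀, he₀⟩ := by
      have h1 := congrArg Additive.toMul (Equiv.ext_iff.1 hg 0)
      rw [hΦ, show Additive.toMul (0 : Additive E) = 1 from rfl, hlc1, mul_one] at h1
      rw [h1]
      exact one_mul (⟨e₀, he₀⟩ : E)
    have hlin : ∀ e ∈ E, Commute (g : G) e := fun e he => by
      have h1 := congrArg Additive.toMul (Equiv.ext_iff.1 hg (Additive.ofMul ⟨e, he⟩))
      rw [hΦ, h0] at h1
      change (⟨e₀, he₀⟩ : E) * lc g ⟨e, he⟩ = ⟨e, he⟩ * ⟨e₀, he₀⟩ at h1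
      rw [mul_comm (⟨e, he⟩ : E)] at h1
      exact mul_inv_eq_iff_eq_mul.1 (congrArg Subtype.val (mul_left_cancel h1))
    refine he₀1 ?_
    have h1 := hno g g.2.1 g.2.2 hlin
    have h2 : tr g = 1 := Subtype.ext (M.sqE h1)
    rw [h0] at h2
    exact congrArg Subtype.val h2
  · refine M.no_eight hR hg4 ?_ hinv hno
    rw [← h8, Nat.card_congr Additive.toMul, M.fr.data.card_E]

end OneModel

end CfsgLib.AschCrit
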