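import Cfsg.Agent.Lib.Invol.AschCrit.AffineField
import Mathlib.GroupTheory.PGroup
import Mathlib.Algebra.Group.Subgroup.Finite
import Mathlib.GroupTheory.GroupAction.Defs

/-!
Owner: helper8. Aschbacher's criterion, end game of type one: two-elements normalising a torus of `E`.

* `cyclic_on`: a two-group normalising `E` and the torus induces a cyclic group on `E`.
* `half_fix`: an element of it inducing an involution fixes a subgroup of order `√q`.
-/

set_option autoImplicit false
set_option linter.unusedSectionVars false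
set_option linter.style.haveILetI false

namespace CfsgLib.AschCrit

open Subgroup

universe u

variable {G : Type u} [Group G] [Finite G]

/-- A transitive torus on `E` and what it means to normalise it. -/
structure TorusOn (E : Subgroup G) (η : G) : Prop where
  sq : ∀ e ∈ E, e * e = 1
  comm : ∀ e ∈ E, ∀ f ∈ E, Commute e f
  norm : ∀ e ∈ E, η * e * η⁻¹ ∈ E
  trans : ∀ e ∈ E, ∀ f ∈ E, e ≠ 1 → f ≠ 1 → ∃ j : ℕ, η ^ j * e * (η ^ j)⁻¹ = f

/-- `g` normalises `E` and the action of the torus on it. -/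
def NormTorus (E : Subgroup G) (η g : G) : Prop :=
  g ∈ normalizer (E : Set G) ∧
    ∃ j : ℕ, ∀ e ∈ E, g * η * g⁻¹ * e * (g * η * g⁻¹)⁻¹ = η ^ j * e * (η ^ j)⁻¹

theorem mem_normalizer_of_mapsTo {E : Subgroup G} {g : G} (hg : ∀ e ∈ E, g * e * g⁻¹ ∈ E) :
    g ∈ normalizer (E : Set G) :=
  mem_normalizer_iff_map_conj_eq.2 (eq_of_le_of_card_ge (by rintro _ ⟨b, hb, rfl⟩; exact hg b hb)
    (card_map_of_injective (MulAut.conj g).injective).ge)

namespace TorusOn

variable {E : Subgroup G} {η : G} (hT : TorusOn E η)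
include hT

theorem pow_norm (j : ℕ) : ∀ e ∈ E, η ^ j * e * (η ^ j)⁻¹ ∈ E := by
  induction j with
  | zero => intro e he; simpa using he
  | succ j ih =>
    intro e he
    rw [pow_succ', show η * η ^ j * e * (η * η ^ j)⁻¹ = η * (η ^ j * e * (η ^ j)⁻¹) * η⁻¹ by group]
    exact hT.norm _ (ih e he)

theorem mem_normalizer : η ∈ normalizer (E : Set G) := mem_normalizer_of_mapsTo hT.norm

/-- A two-group normalising `E` fixes a non-trivial element. -/
theorem exists_fixed (A : Subgroup G) (hA : IsPGroup 2 A) (hAN : A ≤ normalizer (E : Set G))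
    (hE : 2 ∣ Nat.card E) : ∃ v ∈ E, v ≠ 1 ∧ ∀ g ∈ A, g * v * g⁻¹ = v := by
  haveI := Fact.mk Nat.prime_two
  letI : MulAction A E :=
    { smul := fun g e => ⟨(g : G) * e * (g : G)⁻¹, (mem_normalizer_iff.1 (hAN g.2) e).1 e.2⟩
      one_smul := fun e => Subtype.ext (by show (1 : G) * e * (1 : G)⁻¹ = e; simp)
      mul_smul := fun g k e => Subtype.ext (by
        show ((g : G) * k) * e * ((g : G) * k)⁻¹ = (g : G) * ((k : G) * e * (k : G)⁻¹) * (g : G)⁻¹
        group) }
  have h1 : (1 : E) ∈ MulAction.fixedPoints A E := fun g => Subtype.ext (by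
    show (g : G) * (1 : G) * (g : G)⁻¹ = 1
    simp)
  obtain ⟨⟨v, hv⟩, hfix, hne⟩ := hA.exists_fixed_point_of_prime_dvd_card_of_fixed_point E hE h1
  exact ⟨v, hv, fun e => hne (Subtype.ext e.symm), fun g hg => congrArg Subtype.val (hfix ⟨g, hg⟩)⟩

/-- A two-group normalising `E` and the torus induces a cyclic group on `E`. -/
theorem cyclic_on (A : Subgroup G) (hA : IsPGroup 2 A) (hAN : ∀ g ∈ A, NormTorus E η g)
    (hE : 2 ∣ Nat.card E) :
    ∃ σ ∈ A, ∀ g ∈ A, ∃ j : ℕ, ∀ e ∈ E, g * e * g⁻¹ = σ ^ j * e * (σ ^ j)⁻¹ := by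
  classical
  have hAN' : A ≤ normalizer (E : Set G) := fun g hg => (hAN g hg).1
  obtain ⟨v, hv, hv1, hvfix⟩ := hT.exists_fixed A hA hAN' hE
  letI : CommGroup E := { (inferInstance : Group E) with mul_comm := fun x y => Subtype.ext (hT.comm x x.2 y y.2).eq }
  let φ : A →* MulAut E := (E.normalizerMonoidHom).comp (Subgroup.inclusion hAN')
  let S : Subgroup (MulAut E) := φ.range
  letI : DistribMulAction S (Additive E) :=
    { smul := fun s x => Additive.ofMul ((s : MulAut E) (Additive.toMul x))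
      one_smul := fun x => rfl
      mul_smul := fun s t x => rfl
      smul_zero := fun s => congrArg Additive.ofMul (map_one (s : MulAut E))
      smul_add := fun s x y => congrArg Additive.ofMul (map_mul (s : MulAut E) _ _) }
  haveI : FaithfulSMul S (Additive E) := ⟨fun {s t} hst => Subtype.ext (MulEquiv.ext fun x =>
    Additive.ofMul.injective (hst (Additive.ofMul x)))⟩
  haveI : Finite (Additive E) := Finite.of_equiv E Additive.ofMul
  let c : Additive E →+ Additive E :=
    MonoidHom.toAdditive ((E.normalizerMonoidHom ⟨η, hT.mem_normalizer⟩ : MulAut E) : E ≃* E).toMonoidHom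
  have hc : ∀ (j : ℕ) (x : Additive E), ((Additive.toMul (c^[j] x) : E) : G) = η ^ j * (Additive.toMul x : E) * (η ^ j)⁻¹ := by
    intro j
    induction j with
    | zero => intro x; simp
    | succ j ih =>
      intro x
      rw [Function.iterate_succ_apply']
      show η * ((Additive.toMul (c^[j] x) : E) : G) * η⁻¹ = _
      rw [ih, pow_succ']
      group
  have hφ : ∀ (g : A) (x : E), ((φ g x : E) : G) = (g : G) * x * (g : G)⁻¹ := fun g x => rfl
  have hcyc : IsCyclic S := (singer_facts (V := Additive E) (fun x => by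
      apply Additive.toMul.injective
      exact Subtype.ext (hT.sq _ (Additive.toMul x).2)) c (Additive.ofMul (⟨v, hv⟩ : E))
    (fun e => hv1 (congrArg (fun x : Additive E => ((Additive.toMul x : E) : G)) e))
    (fun x y hx hy => by
      obtain ⟨j, hj⟩ := hT.trans _ (Additive.toMul x).2 _ (Additive.toMul y).2
        (fun e => hx (Additive.toMul.injective (Subtype.ext e)))
        (fun e => hy (Additive.toMul.injective (Subtype.ext e)))
      exact ⟨j, Additive.toMul.injective (Subtype.ext ((hc j x).trans hj))⟩)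
    S (fun s => by
      obtain ⟨g, hg⟩ := s.2
      refine Additive.toMul.injective (Subtype.ext ?_)
      show (((s : MulAut E) ⟨v, hv⟩ : E) : G) = v
      rw [← hg, hφ]
      exact hvfix g g.2)
    (fun s => by
      obtain ⟨g, hg⟩ := s.2
      obtain ⟨-, j, hj⟩ := hAN g g.2
      refine ⟨j, fun x => Additive.toMul.injective (Subtype.ext ?_)⟩
      rw [hc]
      show (((s : MulAut E) (Additive.toMul (c x)) : E) : G) = η ^ j * ((s : MulAut E) (Additive.toMul x) : E) * (η ^ j)⁻¹
      have h1 := hj _ ((φ g (Additive.toMul x)).2)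
      rw [← hg, hφ, ← h1, hφ]
      show (g : G) * (η * (Additive.toMul x : E) * η⁻¹) * (g : G)⁻¹ = _
      group)).1
  obtain ⟨⟨s₀, σ, hσ⟩, hs₀⟩ := hcyc.exists_generator
  refine ⟨σ, σ.2, fun g hg => ?_⟩
  obtain ⟨i, hi⟩ := mem_powers_iff_mem_zpowers.2 (hs₀ ⟨φ ⟨g, hg⟩, ⟨g, hg⟩, rfl⟩)
  refine ⟨i, fun e he => ?_⟩
  have h2 : φ (σ ^ i) = φ ⟨g, hg⟩ := by
    rw [map_pow, hσ]
    exact congrArg Subtype.val hi
  have h3 := congrArg (fun f : MulAut E => ((f ⟨e, he⟩ : E) : G)) h2
  simp only [hφ, SubgroupClass.coe_pow] at h3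
  exact h3.symm

/-- An involutory action normalising the torus fixes exactly `√q` elements. -/
theorem half_fix {q : ℕ} (hpow : ∃ s : ℕ, q = 2 ^ s) (hq : Nat.card E = q) {g : G} (hg : NormTorus E η g)
    (h2 : ∀ e ∈ E, g * (g * e * g⁻¹) * g⁻¹ = e) (hne : ∃ e ∈ E, g * e * g⁻¹ ≠ e) :
    Nat.card (E ⊓ centralizer {g} : Subgroup G) * Nat.card (E ⊓ centralizer {g} : Subgroup G) = q := by
  classical
  obtain ⟨hgN, jt, hjt⟩ := hg
  obtain ⟨s, rfl⟩ := hpow
  set W : Subgroup E := (E ⊓ centralizer {g}).subgroupOf E with hW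
  have hWc : Nat.card W = Nat.card (E ⊓ centralizer {g} : Subgroup G) :=
    Nat.card_congr (subgroupOfEquivOfLe inf_le_left).toEquiv
  rw [← hWc]
  set φg : MulAut E := E.normalizerMonoidHom ⟨g, hgN⟩ with hφg
  set φη : MulAut E := E.normalizerMonoidHom ⟨η, hT.mem_normalizer⟩ with hφη
  have hmemW : ∀ x : E, x ∈ W ↔ φg x = x := by
    intro x
    rw [hW, mem_subgroupOf, Subtype.ext_iff]
    show (x : G) ∈ E ⊓ centralizer {g} ↔ g * (x : G) * g⁻¹ = x
    rw [mul_inv_eq_iff_eq_mul]
    exact ⟨fun hx => (mem_centralizer_singleton_iff.1 hx.2).symm,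
      fun hx => ⟨x.2, mem_centralizer_singleton_iff.2 hx.symm⟩⟩
  letI : CommGroup E := { (inferInstance : Group E) with mul_comm := fun x y => Subtype.ext (hT.comm x x.2 y y.2).eq }
  have hsq : ∀ x : E, x * x = 1 := fun x => Subtype.ext (hT.sq x x.2)
  have hgg : ∀ x : E, φg (φg x) = x := fun x => Subtype.ext (h2 x x.2)
  -- the image of `x ↦ x · g x` lies in the fixed subgroup
  let f : E →* E := MonoidHom.mk' (fun x => x * φg x) (fun x y => by rw [map_mul, mul_mul_mul_comm])
  have hker : f.ker = W := by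
    ext x
    rw [MonoidHom.mem_ker, hmemW]
    show x * φg x = 1 ↔ _
    rw [mul_eq_one_iff_eq_inv, show (φg x)⁻¹ = φg x from inv_eq_of_mul_eq_one_right (hsq _)]
    exact eq_comm
  have hrange : Nat.card f.range ≤ Nat.card W := card_le_of_le (by
    rintro _ ⟨x, rfl⟩
    rw [hmemW]
    show φg (x * φg x) = x * φg x
    rw [map_mul, hgg, mul_comm])
  have hidx : W.index = Nat.card f.range := by rw [← hker, index_ker]
  have hprod : Nat.card W * W.index = 2 ^ s := by rw [card_mul_index, hq]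
  have hlow : 2 ^ s ≤ Nat.card W * Nat.card W := by
    rw [← hprod, hidx]; exact Nat.mul_le_mul_left _ hrange
  obtain ⟨m, -, hWm⟩ := (Nat.dvd_prime_pow Nat.prime_two).1 (hprod ▸ dvd_mul_right _ _ : Nat.card W ∣ 2 ^ s)
  have hms : m < s := by
    by_contra hge
    obtain ⟨e, he, hee⟩ := hne
    have htop : W = ⊤ := eq_top_of_le_card _ (by rw [hWm, hq]; exact Nat.pow_le_pow_right two_pos (by omega))
    exact hee (congrArg Subtype.val ((hmemW ⟨e, he⟩).1 (htop ▸ mem_top _)))
  have hs0 : 0 < s := by omega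
  -- a fixed element and the torus
  have hE2 : 2 ∣ Nat.card E := by rw [hq]; exact dvd_pow_self 2 hs0.ne'
  obtain ⟨v, hv, hv1, hvg⟩ : ∃ v : E, v ∈ W ∧ v ≠ 1 ∧ φg v = v := by
    obtain ⟨v, hv, hv1⟩ := W.bot_or_exists_ne_one.resolve_left (by
      intro hb
      rw [hb, card_bot] at hlow
      have := Nat.one_lt_two_pow hs0.ne'
      omega)
    exact ⟨v, hv, hv1, (hmemW v).1 hv⟩
  set C : Subgroup (MulAut E) := zpowers φη
  have hCcomm : ∀ k ∈ C, ∀ l ∈ C, k * l = l * k := by
    rintro _ ⟨i, rfl⟩ _ ⟨j, rfl⟩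
    exact zpow_mul_comm φη i j
  have horb : ∀ x : E, x ≠ 1 → ∃ k ∈ C, k v = x := by
    intro x hx
    obtain ⟨j, hj⟩ := hT.trans v v.2 x x.2 (fun e => hv1 (Subtype.ext e)) (fun e => hx (Subtype.ext e))
    refine ⟨φη ^ j, pow_mem (mem_zpowers _) j, Subtype.ext ?_⟩
    rw [hφη, ← map_pow]
    exact hj
  have hinj : ∀ k ∈ C, ∀ l ∈ C, k v = l v → k = l := by
    intro k hk l hl e
    refine MulEquiv.ext fun x => ?_
    rcases eq_or_ne x 1 with rfl | hx
    · rw [map_one, map_one]
    · obtain ⟨k', hk', rfl⟩ := horb x hx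
      show (k * k') v = (l * k') v
      rw [hCcomm k hk k' hk', hCcomm l hl k' hk']
      exact congrArg k' e
  have hconj : φg * φη * φg⁻¹ = φη ^ jt := by
    refine MulEquiv.ext fun x => Subtype.ext ?_
    rw [hφg, hφη, ← map_inv, ← map_mul, ← map_mul, ← map_pow]
    exact hjt x x.2
  have hnormC : ∀ k ∈ C, φg * k * φg⁻¹ ∈ C := by
    rintro _ ⟨i, rfl⟩
    show φg * φη ^ i * φg⁻¹ ∈ C
    rw [← conj_zpow, hconj]
    exact zpow_mem (pow_mem (mem_zpowers _) _) i
  set Z : Subgroup (MulAut E) := C ⊓ centralizer {φg}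
  have cardC : Nat.card C = 2 ^ s - 1 := by
    rw [← hq, Nat.card_congr (Equiv.ofBijective (fun k : C => (⟨(k : MulAut E) v, by
      rw [Ne, EmbeddingLike.map_eq_one_iff]; exact hv1⟩ : {x : E // x ≠ 1}))
      ⟨fun k l e => Subtype.ext (hinj k k.2 l l.2 (congrArg Subtype.val e)), fun x => by
        obtain ⟨k, hk, hkx⟩ := horb x x.2
        exact ⟨⟨k, hk⟩, Subtype.ext hkx⟩⟩)]
    have := Nat.card_congr (Equiv.optionSubtypeNe (1 : E))
    rw [Finite.card_option] at this
    omega
  have cardZ : Nat.card Z = Nat.card W - 1 := by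
    have h1 : Nat.card {x : W // x ≠ 1} + 1 = Nat.card W := by
      have := Nat.card_congr (Equiv.optionSubtypeNe (1 : W))
      rwa [Finite.card_option] at this
    rw [← h1, Nat.add_sub_cancel]
    refine Nat.card_congr (Equiv.ofBijective (fun k : Z => (⟨⟨(k : MulAut E) v, (hmemW _).2 ?_⟩, ?_⟩ : {x : W // x ≠ 1})) ⟨?_, ?_⟩)
    · have h := mem_centralizer_singleton_iff.1 k.2.2
      calc φg ((k : MulAut E) v) = (φg * (k : MulAut E)) v := rfl
        _ = ((k : MulAut E) * φg) v := by rw [h]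
        _ = (k : MulAut E) v := by show (k : MulAut E) (φg v) = _; rw [hvg]
    · intro e
      exact hv1 ((EmbeddingLike.map_eq_one_iff (f := (k : MulAut E))).1 (congrArg Subtype.val e))
    · intro k l e
      exact Subtype.ext (hinj k k.2.1 l l.2.1 (congrArg (fun x : {x : W // x ≠ 1} => ((x : W) : E)) e))
    · rintro ⟨⟨x, hxW⟩, hx⟩
      obtain ⟨k, hk, hkx⟩ := horb x fun e => hx (Subtype.ext e)
      refine ⟨⟨k, hk, mem_centralizer_singleton_iff.2 ?_⟩, Subtype.ext (Subtype.ext hkx)⟩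
      have hgv : φg⁻¹ v = v := by
        apply φg.injective
        rw [MulAut.apply_inv_self, hvg]
      have h := hinj _ (hnormC k hk) k hk (by
        show φg (k (φg⁻¹ v)) = k v
        rw [hgv, hkx]
        exact (hmemW x).1 hxW)
      exact (mul_inv_eq_iff_eq_mul.1 h).symm
  have hdvd : 2 ^ m - 1 ∣ 2 ^ s - 1 := by
    rw [← hWm, ← cardZ, ← cardC]
    exact card_dvd_of_le inf_le_left
  rw [hWm, ← pow_add] at hlow ⊢
  have hsm : s ≤ m + m := (Nat.pow_le_pow_iff_right (by norm_num)).1 hlow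
  have hsplit : 2 ^ s - 1 = 2 ^ (s - m) * (2 ^ m - 1) + (2 ^ (s - m) - 1) := by
    rw [Nat.mul_sub_one, ← pow_add, Nat.sub_add_cancel hms.le]
    have := Nat.one_le_two_pow (n := s - m)
    have := Nat.pow_le_pow_right (show 0 < 2 by norm_num) (show s - m ≤ s by omega)
    omega
  have h4 : 2 ^ m - 1 ∣ 2 ^ (s - m) - 1 := by
    rw [hsplit] at hdvd
    exact (Nat.dvd_add_right (dvd_mul_left _ _)).1 hdvd
  have h5 : 2 ^ m - 1 ≤ 2 ^ (s - m) - 1 := Nat.le_of_dvd (by
    have := Nat.one_lt_two_pow (show s - m ≠ 0 by omega)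
    omega) h4
  have := Nat.one_le_two_pow (n := s - m)
  have := Nat.one_le_two_pow (n := m)
  have h6 : m ≤ s - m := (Nat.pow_le_pow_iff_right (by norm_num)).1 (show 2 ^ m ≤ 2 ^ (s - m) by omega)
  rw [show m + m = s by omega]

end TorusOn

end CfsgLib.AschCrit
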