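import Cfsg.Agent.Lib.Invol.AschCrit.FrameBasic
import Cfsg.Agent.Lib.Invol.AschCrit.Model
import Cfsg.Agent.Lib.Invol.AschCrit.RankOne
import Cfsg.Agent.Lib.Invol.AschCrit.Sub
import Cfsg.Agent.Lib.Invol.AschCrit.Swap
import Cfsg.Agent.Lib.Invol.AschCrit.ToolsDef

/-!
Owner: helper8. Aschbacher's criterion, end game of type one: generalities.

* `Crit.exists_swapper`, `Crit.fus`: the stabiliser controls the fusion of involutions at its point.
* `Crit.count_one`: with `q ^ 2` dividing, the number of other points is `q ^ 3` or `q ^ 2`.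
* `Crit.type_one_of_le`: then every multi with the largest group has type one.
* `Crit.card_le_of_cent`: a two-group centralising such a multi and `E` is small.
-/

set_option autoImplicit false
set_option linter.unusedSectionVars false
set_option linter.style.haveILetI false

namespace CfsgLib.AschCrit

open Subgroup MulAction

universe u v

variable {G : Type u} [Group G] [Finite G] {Ω : Type v} [MulAction G Ω]

/-- The statements of the other slices used by the end game of type one. -/
structure OneInput (Ω : Type v) [MulAction G Ω] (D : Set G) : Prop where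
  crit : Crit Ω D
  faith : Faithful G Ω
  top : Subgroup.closure D = ⊤
  ld : LocalDichotomy Ω D
  form : Formula Ω D
  orb : OrbitBound Ω D
  sz : SuzukiBound Ω D
  tc : TorusCent Ω D
  hp : HyperplaneProduct.{u}
  xt : ExtremalTransfer.{u}
  below : Below.{v, v} (Nat.card G)

namespace Crit

variable {D : Set G} (h : Crit Ω D)
include h

/-- An involution fixing two points commutes with a member swapping them. -/
theorem exists_swapper {w : G} (hw : w * w = 1) {a b : Ω} (hab : a ≠ b) (ha : w • a = a) (hb : w • b = b) :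
    ∃ t ∈ D, Commute t w ∧ t • a = b := by
  obtain ⟨d, hd, hda, hdw⟩ := h.exists_mem_commute hw ha
  obtain ⟨e, he, heb, hew⟩ := h.exists_mem_commute hw hb
  obtain ⟨t, ht, htK, -, hfix⟩ := h.exists_swapper_in (K := centralizer ({w} : Set G)) hd he
    (mem_centralizer_singleton_iff.2 hdw) (mem_centralizer_singleton_iff.2 hew) hda
    (fun e1 => hab (h.fix_unique e he a b e1 heb))
  exact ⟨t, ht, mem_centralizer_singleton_iff.1 htK, h.fix_unique e he _ _ hfix heb⟩

/-- A conjugate of an involution at `a` fixing `a` is conjugate in the stabiliser. -/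
theorem fus {w : G} (hw : w * w = 1) {a : Ω} (ha : w • a = a) {g : G} (hg : (g * w * g⁻¹) • a = a) :
    ∃ m : G, m • a = a ∧ m * w * m⁻¹ = g * w * g⁻¹ := by
  rcases eq_or_ne (g • a) a with hga | hga
  · exact ⟨g, hga, rfl⟩
  have hgw : (g * w * g⁻¹) * (g * w * g⁻¹) = 1 := by
    rw [show g * w * g⁻¹ * (g * w * g⁻¹) = g * (w * w) * g⁻¹ by group, hw, mul_one, mul_inv_cancel]
  obtain ⟨t, ht, htc, hta⟩ := h.exists_swapper hgw hga.symm hg
    (by rw [mul_smul, mul_smul, inv_smul_smul, ha])
  refine ⟨t * g, by rw [mul_smul, h.swap_back' ht hta], ?_⟩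
  calc t * g * w * (t * g)⁻¹ = t * (g * w * g⁻¹) * t⁻¹ := by group
    _ = g * w * g⁻¹ := by rw [htc.eq, mul_inv_cancel_right]

end Crit

namespace OneInput

variable {D : Set G} (H : OneInput Ω D)
include H

/-- A multi with a member group of the largest order has the data of the largest group. -/
theorem top_of_group {u : G} {a b : Ω} {E : Subgroup G} {q i : ℕ} (ht : TopFrame D u a b E q i) {v : G} {x : Ω}
    (hv : IsMulti Ω v) (hvx : v • x = x) {F : Subgroup G} (hF : MemGroup D v x F) (hFq : Nat.card F = q) :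
    ∃ (y : Ω) (j : ℕ), TopFrame D v x y F q j := by
  obtain ⟨y₀, E', q', j, hl⟩ := H.crit.exists_lData_of_memGroup H.ld hv hvx hF (hFq ▸ Crit.four_le_q ht.data)
  obtain ⟨hle, hmove⟩ := H.crit.memGroupLe v x y₀ E' q' j hl F hF
  have hq : q' = q := le_antisymm (hl.card_E ▸ ht.top v x E' hv hvx ⟨hl.mem, hl.comm⟩) (hFq ▸ hle)
  subst hq
  obtain ⟨y, hy⟩ := hmove hFq
  exact ⟨y, j, hv, hy, ht.top⟩

/-- The count of the other points in type one. -/
theorem count_one {u : G} {a b : Ω} {E : Subgroup G} {q : ℕ} (ht : TopFrame D u a b E q 1)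
    (hdvd : q ^ 2 ∣ Nat.card Ω - 1) :
    (Nat.card Ω - 1 = q ^ 3 ∧ ∀ x ∈ mems D a, ¬ 4 ∣ orderOf (u * x)) ∨
      (Nat.card Ω - 1 = q ^ 2 ∧
        (q - 1) * Nat.card (mems D a) = (q + 1) * Nat.card (memsC D u a) ^ 2) := by
  have hu2 : u * u = 1 := by rw [← pow_two, ← ht.multi.1, pow_orderOf_eq_one]
  obtain ⟨t, htD, htu, hta⟩ := H.crit.exists_swapper hu2 ht.data.ne ht.data.fix_a ht.data.fix_b
  obtain ⟨g, r, c, c', -, hrc, hgo, hro, hrg, hg, hku, hk, hn, hiff⟩ := H.form u a b E q 1 ht t htD htu hta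
  obtain ⟨m, hm⟩ := hdvd
  have hq4 := Crit.four_le_q ht.data
  simp only [pow_one] at hn hg
  rw [hm] at hn
  have hn' : g * q * m = g + (q + 1) * (q - 1) * r := by
    refine Nat.eq_of_mul_eq_mul_left (show 0 < q by omega) ?_
    rw [← hn]; ring
  obtain ⟨q', rfl⟩ : ∃ q', q = q' + 1 := ⟨q - 1, by omega⟩
  simp only [Nat.add_sub_cancel] at hn' hk hku ⊢
  rcases hrg.eq_or_lt with he | hlt
  · left
    subst he
    refine ⟨?_, hiff.1 rfl⟩
    have h1 : r * ((q' + 1) * m) = r * ((q' + 1) * (q' + 1)) := by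
      rw [← mul_assoc, hn']; ring
    rw [hm, Nat.eq_of_mul_eq_mul_left (by omega) (Nat.eq_of_mul_eq_mul_left hro.pos h1)]
    ring
  · right
    have hdv : (q' + 1) ∣ g - r := by
      rw [← Int.natCast_dvd_natCast, Nat.cast_sub hrg]
      refine ⟨(g : ℤ) * m - (q' + 1) * r, ?_⟩
      have h' : ((g * (q' + 1) * m : ℕ) : ℤ) = ((g + (q' + 1 + 1) * q' * r : ℕ) : ℤ) := by rw [hn']
      push_cast at h' ⊢
      linear_combination -h'
    have hge := Nat.le_of_dvd (by omega) hdv
    obtain rfl : r = 1 := by have := hro.pos; omega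
    obtain rfl : g = q' + 1 + 1 := by omega
    have h1 : (q' + 1 + 1) * ((q' + 1) * m) = (q' + 1 + 1) * ((q' + 1) * 1) := by
      rw [← mul_assoc, hn']; ring
    refine ⟨by rw [hm, Nat.eq_of_mul_eq_mul_left (by omega) (Nat.eq_of_mul_eq_mul_left (by omega) h1), mul_one], ?_⟩
    rw [one_mul] at hrc
    subst hrc
    rw [hk, hku]
    ring

/-- With at most `q ^ 3` other points every largest group has type one. -/
theorem type_one_of_le {v : G} {x y : Ω} {F : Subgroup G} {q j : ℕ} (ht : TopFrame D v x y F q j)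
    (hle : Nat.card Ω - 1 ≤ q ^ 3) : j = 1 := by
  have hv2 : v * v = 1 := by rw [← pow_two, ← ht.multi.1, pow_orderOf_eq_one]
  obtain ⟨t, htD, htv, htx⟩ := H.crit.exists_swapper hv2 ht.data.ne ht.data.fix_a ht.data.fix_b
  obtain ⟨g, r, c, c', hg, -, hgo, hro, hrg, hgle, -, -, hn, -⟩ := H.form v x y F q j ht t htD htv htx
  have hq4 := Crit.four_le_q ht.data
  have hn1 : g * (Nat.card Ω - 1) ≤ g * q ^ 3 := Nat.mul_le_mul_left g hle
  obtain ⟨q', rfl⟩ : ∃ q', q = q' + 1 := ⟨q - 1, by omega⟩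
  simp only [Nat.add_sub_cancel] at hn
  have hq0 : 0 < (q' + 1) := by omega
  rcases ht.data.type with h1 | h2 | h3
  · exact h1
  · exfalso
    subst h2
    obtain ⟨w, hw, hbd⟩ := H.sz v x y F (q' + 1) ht t htD htv htx
    rw [← hg] at hbd
    have h4 : (q' + 1) ^ 2 * (g + ((q' + 1) ^ 2 + 1) * q' * r) ≤ (q' + 1) ^ 2 * (g * (q' + 1)) := by
      rw [← hn, show (q' + 1) ^ 2 * (g * (q' + 1)) = g * (q' + 1) ^ 3 by ring]
      exact hn1
    have h5 := Nat.le_of_mul_le_mul_left h4 (by positivity)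
    have h6 : ((q' + 1) ^ 2 + 1) * q' * 1 ≤ ((q' + 1) ^ 2 + 1) * q' * r := Nat.mul_le_mul_left _ hro.pos
    have h7 : g * (q' + 1) = g + g * q' := by ring
    have h8 : ((q' + 1) ^ 2 + 1) * q' ≤ g * q' := by omega
    have h9 := Nat.le_of_mul_le_mul_right h8 (by omega)
    have h10 : w ≤ q' + 1 := by
      by_contra hlt
      push Not at hlt
      nlinarith
    nlinarith
  · exfalso
    subst h3
    have h4 : (q' + 1) ^ 3 * (g + ((q' + 1) ^ 3 + 1) * q' * r) ≤ (q' + 1) ^ 3 * g := by
      rw [← hn, mul_comm _ g]; exact hn1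
    have h5 := Nat.le_of_mul_le_mul_left h4 (by positivity)
    have h6 : ((q' + 1) ^ 3 + 1) * q' * 1 ≤ ((q' + 1) ^ 3 + 1) * q' * r := Nat.mul_le_mul_left _ hro.pos
    have h7 : 0 < ((q' + 1) ^ 3 + 1) * q' := by
      have : 0 < q' := by omega
      positivity
    omega

/-- A two-group at `a` centralising `w` and the group of the frame has order at most `q` times the two-part
of `fixGrp`, for a multi `w` with `q` further fixed points. -/
theorem card_le_of_cent {u : G} {a b : Ω} {E : Subgroup G} {q i : ℕ} (hF : Frame D u a b E q i) {w : G}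
    (hwa : w • a = a) (hfix : Nat.card {x : Ω // w • x = x} = q + 1)
    (K : Subgroup G) (hK : IsPGroup 2 K) (hKa : ∀ g ∈ K, g • a = a) (hKw : ∀ g ∈ K, Commute g w)
    (hKE : ∀ g ∈ K, ∀ e ∈ E, Commute g e) :
    Nat.card K ≤ q * 2 ^ padicValNat 2 (Nat.card (fixGrp u a b E)) := by
  classical
  haveI := H.crit.finite_points
  have hq4 := Crit.four_le_q hF.data
  set S : Set Ω := {x | w • x = x ∧ x ≠ a} with hS
  have hScard : S.ncard = q := by
    have h1 : ({x : Ω | w • x = x} : Set Ω).ncard = q + 1 := by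
      rw [← Nat.card_coe_set_eq]; exact hfix
    have h2 : S = {x : Ω | w • x = x} \ {a} := rfl
    rw [h2, Set.ncard_sdiff (by simpa using hwa), Set.ncard_singleton, h1, Nat.add_sub_cancel]
  obtain ⟨p, hp, hpa⟩ : S.Nonempty := Set.nonempty_of_ncard_ne_zero (by omega)
  have hsub : orbit K p ⊆ S := by
    rintro _ ⟨g, rfl⟩
    refine ⟨?_, fun e => hpa (MulAction.injective (g : G) (e.trans (hKa g g.2).symm))⟩
    show w • (g : G) • p = (g : G) • p
    rw [← mul_smul, ← (hKw g g.2).eq, mul_smul, hp]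
  have hidx : (stabilizer K p).index ≤ q := by
    rw [index_stabilizer, ← hScard]
    exact Set.ncard_le_ncard hsub
  have hst := (H.orb u a b E q i hF K hK (fun g hg => ⟨hKa g hg, hKE g hg⟩)).1 p hpa
  rw [← card_mul_index (stabilizer K p), mul_comm]
  exact Nat.mul_le_mul hidx hst

end OneInput

end CfsgLib.AschCrit
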