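import Cfsg.Agent.Lib.Invol.AschCrit.EndOne.Facts
import Cfsg.Agent.Lib.LocalEven.Factor.Controls

/-!
Owner: helper8. Aschbacher's criterion, end game of type one: a strongly closed `E` with a cyclic automizer.

`N(E)` controls the fusion and its automizer has a normal complement to the image of the Sylow group, so the
focal subgroup centralises `E`; as there is no subgroup of index two, so does the Sylow group.
-/

set_option autoImplicit false
set_option linter.unusedSectionVars false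
set_option linter.style.haveILetI false

namespace CfsgLib.AschCrit

open Subgroup MulAction

universe u v

variable {G : Type u} [Group G] [Finite G] {Ω : Type v} [MulAction G Ω]

namespace OneInput

variable {D : Set G} (H : OneInput Ω D)
include H

/-- A Sylow group inducing a cyclic group on a strongly closed elementary subgroup centralises it. -/
theorem centralizes_of_cyclic (T : Sylow 2 G) (E : Subgroup G) (hET : E ≤ T)
    (hsq : ∀ e ∈ E, e * e = 1) (hcomm : ∀ e ∈ E, ∀ f ∈ E, Commute e f)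
    (hcl : ∀ (g : G), ∀ e ∈ E, g * e * g⁻¹ ∈ (T : Subgroup G) → g * e * g⁻¹ ∈ E)
    {σ : G} (hσ : σ ∈ (T : Subgroup G))
    (hgen : ∀ g ∈ (T : Subgroup G), ∃ j : ℕ, ∀ e ∈ E, g * e * g⁻¹ = σ ^ j * e * (σ ^ j)⁻¹)
    {d d' : G} (hd : d ∈ D) (hd' : d' ∈ D) (hne : d ≠ d') (hc : Commute d d') :
    ∀ g ∈ (T : Subgroup G), ∀ e ∈ E, Commute g e := by
  classical
  haveI := Fact.mk Nat.prime_two
  have hN : ∀ g ∈ (T : Subgroup G), g ∈ normalizer (E : Set G) := fun g hg =>
    mem_normalizer_of_mapsTo fun e he => hcl g e he (mul_mem (mul_mem hg (hET he)) (inv_mem hg))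
  -- the automizer
  let ψ : normalizer (E : Set G) →* MulAut E := E.normalizerMonoidHom
  set A := ψ.range
  let ψ' : normalizer (E : Set G) →* A := ψ.rangeRestrict
  have hψs : Function.Surjective ψ' := MonoidHom.rangeRestrict_surjective _
  let T' : Sylow 2 (normalizer (E : Set G)) := T.subtype hN
  let P' : Sylow 2 A := T'.mapSurjective hψs
  have hmem : ∀ g (hg : g ∈ (T : Subgroup G)), ψ' ⟨g, hN g hg⟩ ∈ (P' : Subgroup A) := fun g hg =>
    Subgroup.mem_map.2 ⟨⟨g, hN g hg⟩, hg, rfl⟩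
  have happ : ∀ (n : normalizer (E : Set G)) (e : E),
      (((ψ' n : MulAut E) e : E) : G) = n * e * (n : G)⁻¹ := fun n e => rfl
  have hcyc : IsCyclic (P' : Subgroup A) := by
    refine ⟨⟨⟨ψ' ⟨σ, hN σ hσ⟩, hmem σ hσ⟩, ?_⟩⟩
    rintro ⟨_, hx⟩
    obtain ⟨⟨g, hgN⟩, hg, rfl⟩ := Subgroup.mem_map.1 hx
    obtain ⟨j, hj⟩ := hgen g hg
    refine ⟨(j : ℤ), Subtype.ext ?_⟩
    show (ψ' ⟨σ, hN σ hσ⟩) ^ (j : ℤ) = _
    rw [zpow_natCast, ← map_pow]
    refine Subtype.ext (MulEquiv.ext fun e => Subtype.ext ?_)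
    rw [happ, happ]
    exact (hj e e.2).symm
  suffices hfoc : (T : Subgroup G) ≤ (T : Subgroup G) ⊓ centralizer (E : Set G) from
    fun g hg e he => (mem_centralizer_iff.1 (hfoc hg).2 e he).symm
  refine H.focal_eq T _ hd hd' hne hc fun x hx g hgx => Subgroup.mem_inf.2 ⟨mul_mem (inv_mem hx) hgx, ?_⟩
  obtain ⟨T₁, hET₁, hctrl⟩ := CfsgLib.LocalEven.Factor.controls_of_stronglyClosed T hET
    ⟨⟨⟨fun x y => Subtype.ext (hcomm x x.2 y y.2).eq⟩⟩, fun e he => by rw [pow_two]; exact hsq e he⟩ hcl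
  obtain ⟨k, hk⟩ := MulAction.exists_smul_eq G T T₁
  have hT₁ : ∀ y : G, y ∈ (T₁ : Subgroup G) ↔ k⁻¹ * y * k ∈ (T : Subgroup G) := fun y => by
    rw [← hk, Sylow.coe_subgroup_smul, Subgroup.mem_pointwise_smul_iff_inv_smul_mem]
    show (MulAut.conj k)⁻¹ y ∈ _ ↔ _
    rw [← map_inv, MulAut.conj_apply, inv_inv]
  have hkE : ∀ e ∈ E, k * e * k⁻¹ ∈ E ∧ k⁻¹ * e * k ∈ E := by
    have h1 : ∀ e ∈ E, k⁻¹ * e * k ∈ E := fun e he => by
      have := hcl k⁻¹ e he (by rw [inv_inv]; exact (hT₁ e).1 (hET₁ he))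
      rwa [inv_inv] at this
    intro e he
    refine ⟨?_, h1 e he⟩
    have := (mem_normalizer_iff.1 (inv_mem (mem_normalizer_of_mapsTo (g := k⁻¹) (by simpa using h1))) e).1 he
    simpa using this
  have hkN : k ∈ normalizer (E : Set G) := mem_normalizer_of_mapsTo fun e he => (hkE e he).1
  -- fusion inside the normaliser
  obtain ⟨-, hof⟩ := hctrl {k * x * k⁻¹} (by
    rw [Set.singleton_subset_iff, SetLike.mem_coe, hT₁]; simpa [mul_assoc] using hx)
  obtain ⟨n, hn, hnx⟩ := hof (k * g⁻¹ * k⁻¹) (by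
    rw [Set.image_singleton, Set.singleton_subset_iff, SetLike.mem_coe, hT₁]; simpa [mul_assoc] using hgx)
  set n' : normalizer (E : Set G) := ⟨k⁻¹ * n * k, mul_mem (mul_mem (inv_mem hkN) hn) hkN⟩
  have hy : (n' : G) * x * (n' : G)⁻¹ = g⁻¹ * x * g := by
    have h1 := hnx _ (Set.mem_singleton _)
    calc k⁻¹ * n * k * x * (k⁻¹ * n * k)⁻¹ = k⁻¹ * (n * (k * x * k⁻¹) * n⁻¹) * k := by group
      _ = g⁻¹ * x * g := by rw [← h1]; group
  rcases eq_or_ne (Nat.card A % 2) 1 with hodd | heven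
  · -- an odd automizer
    have htriv : ∀ y (hy' : y ∈ (T : Subgroup G)), ψ' ⟨y, hN y hy'⟩ = 1 := fun y hy' => by
      obtain ⟨j, hj⟩ := P'.2 ⟨_, hmem y hy'⟩
      have h1 : orderOf (ψ' ⟨y, hN y hy'⟩) ∣ 2 ^ j := orderOf_dvd_of_pow_eq_one (congrArg Subtype.val hj)
      have h2 := orderOf_dvd_natCard (ψ' ⟨y, hN y hy'⟩)
      refine orderOf_eq_one_iff.1 (Nat.eq_one_of_dvd_coprimes ?_ h1 h2)
      exact Nat.Coprime.pow_left _ ((Nat.Prime.coprime_iff_not_dvd Nat.prime_two).2 (by omega))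
    have h3 := htriv _ (mul_mem (inv_mem hx) hgx)
    refine mem_centralizer_iff.2 fun e he => ?_
    have h4 := congrArg (fun f : A => (((f : MulAut E) ⟨e, he⟩ : E) : G)) h3
    simp only [happ, OneMemClass.coe_one, MulAut.one_apply] at h4
    exact (mul_inv_eq_iff_eq_mul.1 h4).symm
  · have hmin : (Nat.card A).minFac = 2 := (Nat.minFac_eq_two_iff _).2 (by omega)
    set τ := MonoidHom.transferSylow P' (hcyc.normalizer_le_centralizer hmin)
    have hdisj := MonoidHom.ker_transferSylow_disjoint P' (hcyc.normalizer_le_centralizer hmin)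
      (P' : Subgroup A) P'.isPGroup'
    have hker : ψ' ⟨x⁻¹ * (g⁻¹ * x * g), hN _ (mul_mem (inv_mem hx) hgx)⟩ ∈ τ.ker := by
      rw [MonoidHom.mem_ker]
      have e1 : (⟨x⁻¹ * (g⁻¹ * x * g), hN _ (mul_mem (inv_mem hx) hgx)⟩ : normalizer (E : Set G)) =
          ⟨x, hN x hx⟩⁻¹ * (n' * ⟨x, hN x hx⟩ * n'⁻¹) := Subtype.ext (by
        show _ = x⁻¹ * ((n' : G) * x * (n' : G)⁻¹)
        rw [hy])
      rw [e1]
      simp only [map_mul, map_inv]
      haveI : IsMulCommutative (P' : Subgroup A) := by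
        haveI := hcyc; exact IsCyclic.commutative
      rw [mul_comm' (τ (ψ' n')) (τ (ψ' ⟨x, hN x hx⟩))]
      group
    have h3 : ψ' ⟨x⁻¹ * (g⁻¹ * x * g), hN _ (mul_mem (inv_mem hx) hgx)⟩ = 1 := by
      rw [← Subgroup.mem_bot, ← disjoint_iff.1 hdisj]
      exact ⟨hker, hmem _ (mul_mem (inv_mem hx) hgx)⟩
    refine mem_centralizer_iff.2 fun e he => ?_
    have h4 := congrArg (fun f : A => (((f : MulAut E) ⟨e, he⟩ : E) : G)) h3
    simp only [happ, OneMemClass.coe_one, MulAut.one_apply] at h4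
    exact (mul_inv_eq_iff_eq_mul.1 h4).symm

end OneInput

end CfsgLib.AschCrit
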