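import Cfsg.Agent.Lib.Invol.AschCrit.EndOne.Basic
import Cfsg.Agent.Lib.Invol.AschCrit.EndOne.Auto
import Cfsg.Agent.Lib.Invol.AschCrit.Transfer
import Cfsg.Agent.Lib.Transfer.Fusion
import Cfsg.Agent.Lib.ThreeTrans.SylowSmallFrattini

/-!
Owner: helper8. Aschbacher's criterion, end game of type one: first facts about a model.

`P = R X` with `E` central, `[r, x] x x` the square of `r x`, and the count of the other points.
-/

set_option autoImplicit false
set_option linter.unusedSectionVars false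
set_option linter.style.haveILetI false

namespace CfsgLib.AschCrit

open Subgroup MulAction

universe u v

variable {G : Type u} [Group G] [Finite G] {Ω : Type v} [MulAction G Ω]

/-- A model of type one. -/
structure OneModel (D : Set G) (u : G) (a b : Ω) (E : Subgroup G) (q : ℕ) (P R X : Subgroup G) (η : G) : Prop where
  inp : OneInput Ω D
  fr : Frame D u a b E q 1
  mod : ModelAt D u a b E q 1 P R X E η

/-- The commutator as used by the models. -/
abbrev br (r x : G) : G := r * x * r⁻¹ * x⁻¹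

namespace OneInput

variable {D : Set G} (H : OneInput Ω D)
include H

/-- A Sylow group over a two-group at a point, at that point. -/
theorem exists_sylow_at {a : Ω} (K : Subgroup G) (hK : IsPGroup 2 K) (hKa : ∀ g ∈ K, g • a = a) :
    ∃ T : Sylow 2 G, K ≤ T ∧ ∀ g ∈ (T : Subgroup G), g • a = a := by
  haveI := Fact.mk Nat.prime_two
  haveI := H.crit.finite_points
  haveI : IsPretransitive G Ω := ⟨H.crit.trans⟩
  have hle : K ≤ stabilizer G a := hKa
  obtain ⟨S, hS⟩ := (hK.comap_subtype (K := stabilizer G a)).exists_le_sylow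
  let T₀ : Subgroup G := (S : Subgroup (stabilizer G a)).map (stabilizer G a).subtype
  have hT : IsPGroup 2 T₀ := S.isPGroup'.map _
  have hidx : ¬ 2 ∣ T₀.index := by
    rw [index_map_subtype, index_stabilizer_of_transitive]
    exact fun h2 => (Nat.prime_two.dvd_mul.1 h2).elim S.not_dvd_index
      (fun h3 => Nat.not_even_iff_odd.2 (H.crit.odd_points a).1 (even_iff_two_dvd.2 h3))
  refine ⟨hT.toSylow hidx, fun g hg => ?_, fun g hg => ?_⟩
  · exact ⟨⟨g, hle hg⟩, hS (show (⟨g, hle hg⟩ : stabilizer G a) ∈ K.comap (stabilizer G a).subtype from hg), rfl⟩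
  · exact map_subtype_le (H := stabilizer G a) _ (show g ∈ T₀ from hg)

/-- Differences of fusion lie in no proper subgroup of a Sylow group. -/
theorem focal_eq (T : Sylow 2 G) (C : Subgroup G) {d e : G} (hd : d ∈ D) (he : e ∈ D) (hne : d ≠ e)
    (hc : Commute d e)
    (hC : ∀ x ∈ (T : Subgroup G), ∀ g : G, g⁻¹ * x * g ∈ (T : Subgroup G) → x⁻¹ * (g⁻¹ * x * g) ∈ C) :
    (T : Subgroup G) ≤ C := by
  haveI := Fact.mk Nat.prime_two
  refine le_trans ?_ (CfsgLib.Transfer.commutator_inf_le_of_fusion T C hC)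
  refine le_inf ?_ le_rfl
  intro x hx
  by_contra hxc
  set π : G →* Abelianization G := Abelianization.of
  have hπ : π x ≠ 1 := fun e1 => hxc (by rwa [← MonoidHom.mem_ker, Abelianization.ker_of] at e1)
  obtain ⟨k, hk⟩ := IsPGroup.iff_orderOf.1 T.2 ⟨x, hx⟩
  rw [Subgroup.orderOf_mk] at hk
  have hdvd := orderOf_map_dvd π x
  rw [hk] at hdvd
  obtain ⟨j, -, hj⟩ := (Nat.dvd_prime_pow Nat.prime_two).1 hdvd
  have hj0 : j ≠ 0 := fun e1 => hπ (orderOf_eq_one_iff.1 (by rw [hj, e1, pow_zero]))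
  have h2 : 2 ∣ Nat.card (Abelianization G) :=
    dvd_trans (hj ▸ dvd_pow_self 2 hj0) (orderOf_dvd_natCard (π x))
  obtain ⟨N, hN⟩ : ∃ N : Subgroup (Abelianization G), N.index = 2 := by
    obtain ⟨w, hw⟩ := exists_prime_orderOf_dvd_card' 2 h2
    -- the squaring map is not onto
    set f : Abelianization G →* Abelianization G := powMonoidHom 2
    obtain ⟨y, hy⟩ : ∃ y, y ∉ f.range := by
      by_contra hall
      push Not at hall
      have hsurj : Function.Surjective f := hall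
      have hinj := Finite.injective_iff_surjective.2 hsurj
      have hw1 : w = 1 := hinj (by
        show w ^ 2 = 1 ^ 2
        rw [one_pow, ← hw, pow_orderOf_eq_one])
      rw [hw1, orderOf_one] at hw
      omega
    obtain ⟨N, hfN, -, hyN, hN⟩ := CfsgLib.ThreeTrans.SylowSmallFrattini.exists_index_two (R := ⊤) (D := f.range)
      le_top (mem_top y) hy (fun a _ => ⟨a, by show a ^ 2 = a * a; rw [pow_two]⟩)
      (fun a _ c _ => by rw [mul_comm a c, mul_inv_cancel_right, mul_inv_cancel]; exact one_mem _)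
    exact ⟨N, by rwa [relIndex_top_right] at hN⟩
  haveI : (N.comap π).Normal := Subgroup.Normal.comap inferInstance π
  refine H.crit.no_index_two (H.crit.commMul H.faith) H.top hd he hne hc (N.comap π) ?_
  rw [index_comap_of_surjective _ (QuotientGroup.mk_surjective), hN]

end OneInput

namespace OneModel

variable {D : Set G} {u : G} {a b : Ω} {E : Subgroup G} {q : ℕ} {P R X : Subgroup G} {η : G}
  (M : OneModel D u a b E q P R X η)
include M

theorem crit : Crit Ω D := M.inp.crit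

theorem q4 : 4 ≤ q := Crit.four_le_q M.fr.data

theorem usq : u * u = 1 := by rw [← pow_two, ← M.fr.multi.1, pow_orderOf_eq_one]

theorem not_mem_D {w : G} (hw : IsMulti Ω w) : w ∉ D := M.crit.multi_not_mem hw

theorem u_ne : u ≠ 1 := fun e => by
  have := M.fr.multi.1
  rw [e, orderOf_one] at this
  omega

theorem memE {e : G} (he : e ∈ E) (he1 : e ≠ 1) : e ∈ D ∧ e • a = a ∧ Commute e u :=
  M.fr.data.mem e he he1

theorem sqE {e : G} (he : e ∈ E) : e * e = 1 := by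
  rcases eq_or_ne e 1 with e1 | e1
  · rw [e1, one_mul]
  · exact M.crit.sq (M.memE he e1).1

theorem commE {e f : G} (he : e ∈ E) (hf : f ∈ E) : Commute e f := M.fr.data.comm e he f hf

theorem torusOn : TorusOn E η where
  sq _ he := M.sqE he
  comm _ he _ hf := M.commE he hf
  norm := M.mod.h_norm.1
  trans e he f hf he1 hf1 := M.mod.h_trans e he f hf he1 hf1

theorem isP2E : IsPGroup 2 E := M.crit.isPGroup_memGroup (F := E) ⟨M.fr.data.mem, M.fr.data.comm⟩

theorem two_dvd_E : 2 ∣ Nat.card E := by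
  obtain ⟨s, hs, rfl⟩ := M.fr.data.pow
  rw [M.fr.data.card_E]
  exact dvd_pow_self 2 (by omega)

theorem exists_ne_one : ∃ e ∈ E, e ≠ 1 := by
  have := M.q4
  refine E.bot_or_exists_ne_one.resolve_left fun hb => ?_
  have hc := M.fr.data.card_E
  rw [hb, card_bot] at hc
  omega

/-- Two different commuting members. -/
theorem exists_pair : ∃ d e : G, d ∈ D ∧ e ∈ D ∧ d ≠ e ∧ Commute d e := by
  obtain ⟨e, he, he1⟩ := M.exists_ne_one
  obtain ⟨f, hf, hf1, hfe⟩ : ∃ f ∈ E, f ≠ 1 ∧ f ≠ e := by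
    by_contra hc
    push Not at hc
    have hsub : (E : Set G) ⊆ {1, e} := fun x hx => by
      rcases eq_or_ne x 1 with h1 | h1
      · exact Or.inl h1
      · exact Or.inr (hc x hx h1)
    have h3 := Set.ncard_le_ncard hsub
    rw [← Nat.card_coe_set_eq] at h3
    have h5 := Set.ncard_insert_le (1 : G) {e}
    rw [Set.ncard_singleton] at h5
    have h6 := M.fr.data.card_E
    have h7 : Nat.card (E : Set G) = Nat.card E := rfl
    have := M.q4
    omega
  exact ⟨e, f, (M.memE he he1).1, (M.memE hf hf1).1, hfe.symm, M.commE he hf⟩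

theorem E_le_P : E ≤ P := M.mod.Q_le

theorem fixP {g : G} (hg : g ∈ P) : g • a = a := (M.mod.sub g hg).1

theorem centE {g : G} (hg : g ∈ P) {e : G} (he : e ∈ E) : Commute g e := (M.mod.sub g hg).2.1 e he

theorem gen' {g : G} (hg : g ∈ P) : ∃ r ∈ R, ∃ x ∈ X, g = r * x := by
  obtain ⟨r, hr, x, hx, y, hy, rfl⟩ := M.mod.gen g hg
  exact ⟨r, hr, x * y, mul_mem hx (M.mod.E_X hy), mul_assoc r x y⟩

theorem fixR {r : G} (hr : r ∈ R) : r • a = a ∧ r • b = b :=
  ⟨(M.mod.R_sub hr).1.1, (M.mod.R_sub hr).1.2⟩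

theorem commR {r s : G} (hr : r ∈ R) (hs : s ∈ R) : Commute r s := by
  have h1 := M.mod.R_sq _ (mul_mem hr hs)
  show r * s = s * r
  calc r * s = r * (r * s * (r * s)) * s := by rw [h1, mul_one]
    _ = r * r * (s * r) * (s * s) := by group
    _ = s * r := by rw [M.mod.R_sq r hr, M.mod.R_sq s hs, one_mul, mul_one]

theorem commRu {r : G} (hr : r ∈ R) : Commute r u := M.commR hr M.mod.u_mem

/-- Members and one fix only `a`. -/
theorem semiregE {e : G} (he : e ∈ E) {p : Ω} (hpa : p ≠ a) (hp : e • p = p) : e = 1 := by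
  by_contra he1
  obtain ⟨hD, hea, -⟩ := M.memE he he1
  exact hpa (M.crit.fix_unique e hD p a hp hea)

theorem R_inf_E {r : G} (hr : r ∈ R) (hrE : r ∈ E) : r = 1 :=
  M.semiregE hrE M.fr.data.ne.symm (M.fixR hr).2

theorem R_inf_X {r : G} (hr : r ∈ R) (hrX : r ∈ X) : r = 1 := by
  by_contra hr1
  exact hr1 (M.R_inf_E hr (M.mod.RX_ker r hr hr1 r hrX (Commute.refl r)))

theorem decomp_unique {r r' x x' : G} (hr : r ∈ R) (hr' : r' ∈ R) (hx : x ∈ X) (hx' : x' ∈ X)
    (e : r * x = r' * x') : r = r' ∧ x = x' := by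
  have h1 : r'⁻¹ * r = x' * x⁻¹ := by
    calc r'⁻¹ * r = r'⁻¹ * (r * x) * x⁻¹ := by group
      _ = x' * x⁻¹ := by rw [e]; group
  have h2 : r = r' := (inv_mul_eq_one.1 (M.R_inf_X (mul_mem (inv_mem hr') hr)
    (h1 ▸ mul_mem hx' (inv_mem hx)))).symm
  exact ⟨h2, mul_left_cancel (h2 ▸ e)⟩

theorem br_mem {r x : G} (hr : r ∈ R) (hx : x ∈ X) : br r x ∈ E := M.mod.RX r hr x hx

theorem br_E {r e : G} (hr : r ∈ R) (he : e ∈ E) : br r e = 1 := by
  rw [br, (M.centE (M.mod.R_le hr) he).eq, mul_inv_cancel_right, mul_inv_cancel]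

theorem br_mul {r x x' : G} (hr : r ∈ R) (hx : x ∈ X) (hx' : x' ∈ X) :
    br r (x * x') = br r x * br r x' := by
  have hc : Commute x (br r x') := M.mod.X_comm x hx _ (M.mod.E_X (M.br_mem hr hx'))
  calc br r (x * x') = r * x * r⁻¹ * x⁻¹ * (x * (r * x' * r⁻¹ * x'⁻¹) * x⁻¹) := by rw [br]; group
    _ = br r x * br r x' := by
      rw [show x * (r * x' * r⁻¹ * x'⁻¹) * x⁻¹ = br r x' from by rw [hc.eq, mul_inv_cancel_right]]

theorem conj_eq_br {r x : G} : r * x * r⁻¹ = br r x * x := (inv_mul_cancel_right _ x).symm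

theorem sq_rx {r x : G} (hr : r ∈ R) : r * x * (r * x) = br r x * (x * x) := by
  have hri : r⁻¹ = r := inv_eq_of_mul_eq_one_right (M.mod.R_sq r hr)
  rw [br, hri]; group

theorem sq_mul {x x' : G} (hx : x ∈ X) (hx' : x' ∈ X) : x * x' * (x * x') = x * x * (x' * x') := by
  have hc : Commute x' x := M.mod.X_comm x' hx' x hx
  calc x * x' * (x * x') = x * (x' * x) * x' := by group
    _ = x * x * (x' * x') := by rw [hc.eq]; group

theorem eta_pow_X (j : ℕ) : ∀ x ∈ X, η ^ j * x * (η ^ j)⁻¹ ∈ X := by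
  induction j with
  | zero => intro x hx; simpa using hx
  | succ j ih =>
    intro x hx
    rw [pow_succ', show η * η ^ j * x * (η * η ^ j)⁻¹ = η * (η ^ j * x * (η ^ j)⁻¹) * η⁻¹ by group]
    exact M.mod.h_norm.2.1 _ (ih x hx)

theorem br_eta {r x : G} (hr : r ∈ R) (j : ℕ) :
    br r (η ^ j * x * (η ^ j)⁻¹) = η ^ j * br r x * (η ^ j)⁻¹ := by
  have hc : Commute (η ^ j) r := (M.mod.h_cent.2 r hr).pow_left j
  have h1 : (η ^ j)⁻¹ * r = r * (η ^ j)⁻¹ := hc.inv_left.eq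
  have h2 : (η ^ j)⁻¹ * r⁻¹ = r⁻¹ * (η ^ j)⁻¹ := hc.inv_left.inv_right.eq
  calc br r (η ^ j * x * (η ^ j)⁻¹) = r * η ^ j * x * ((η ^ j)⁻¹ * r⁻¹) * η ^ j * x⁻¹ * (η ^ j)⁻¹ := by
        rw [br]; group
    _ = η ^ j * r * x * (r⁻¹ * (η ^ j)⁻¹) * η ^ j * x⁻¹ * (η ^ j)⁻¹ := by rw [h2, hc.eq]
    _ = η ^ j * br r x * (η ^ j)⁻¹ := by rw [br]; group

theorem eta_E (j : ℕ) {e : G} (he : e ∈ E) : η ^ j * e * (η ^ j)⁻¹ ∈ E := M.torusOn.pow_norm j e he

/-- An equivariant homomorphism from `X` to `E` killing `E` is injective on `X` modulo `E` or trivial. -/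
theorem dichotomy (f : G → G) (hmul : ∀ x ∈ X, ∀ y ∈ X, f (x * y) = f x * f y) (hE : ∀ e ∈ E, f e = 1)
    (heq : ∀ x ∈ X, ∀ j : ℕ, f (η ^ j * x * (η ^ j)⁻¹) = η ^ j * f x * (η ^ j)⁻¹) :
    (∀ x ∈ X, f x = 1 → x ∈ E) ∨ ∀ x ∈ X, f x = 1 := by
  refine or_iff_not_imp_left.2 fun hno y hy => ?_
  push Not at hno
  obtain ⟨x, hx, hfx, hxE⟩ := hno
  rcases em (y ∈ E) with hyE | hyE
  · exact hE y hyE
  have hbx : br u x ≠ 1 := fun e => hxE (M.mod.RX_ker u M.mod.u_mem M.u_ne x hx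
    (mul_inv_eq_iff_eq_mul.1 (mul_inv_eq_one.1 e)))
  have hby : br u y ≠ 1 := fun e => hyE (M.mod.RX_ker u M.mod.u_mem M.u_ne y hy
    (mul_inv_eq_iff_eq_mul.1 (mul_inv_eq_one.1 e)))
  obtain ⟨j, hj⟩ := M.mod.h_trans _ (M.br_mem M.mod.u_mem hy) _ (M.br_mem M.mod.u_mem hx) hby hbx
  set y' := η ^ j * y * (η ^ j)⁻¹ with hy'
  have hy'X : y' ∈ X := M.eta_pow_X j y hy
  have hdX : y' * x⁻¹ ∈ X := mul_mem hy'X (inv_mem hx)
  have hinv : ∀ z ∈ X, br u z⁻¹ = (br u z)⁻¹ := fun z hz => eq_inv_of_mul_eq_one_left (by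
    rw [← M.br_mul M.mod.u_mem (inv_mem hz) hz, inv_mul_cancel, M.br_E M.mod.u_mem (one_mem E)])
  have hd : br u (y' * x⁻¹) = 1 := by
    rw [M.br_mul M.mod.u_mem hy'X (inv_mem hx), hinv x hx, hy', M.br_eta M.mod.u_mem, hj, mul_inv_cancel]
  have hdE : y' * x⁻¹ ∈ E := M.mod.RX_ker u M.mod.u_mem M.u_ne _ hdX
    (mul_inv_eq_iff_eq_mul.1 (mul_inv_eq_one.1 hd))
  have hfy' : f y' = 1 := by
    rw [show y' = y' * x⁻¹ * x by rw [inv_mul_cancel_right], hmul _ hdX x hx, hE _ hdE, hfx, one_mul]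
  rw [hy', heq y hy j] at hfy'
  calc f y = (η ^ j)⁻¹ * (η ^ j * f y * (η ^ j)⁻¹) * η ^ j := by group
    _ = 1 := by rw [hfy']; group

/-- A group of members of order `q` makes a multi. -/
theorem memGroup_cent {g : G} (hg : ∀ e ∈ E, Commute g e) : MemGroup D g a E :=
  ⟨fun e he he1 => ⟨(M.memE he he1).1, (M.memE he he1).2.1, (hg e he).symm⟩, M.fr.data.comm⟩

theorem R2_eq : 2 ^ padicValNat 2 (Nat.card (fixGrp u a b E)) = Nat.card R := M.mod.R_card.symm

/-- Stabilisers of other points in a two-group centralising `E`. -/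
theorem stab_le (K : Subgroup G) (hK : IsPGroup 2 K) (hKa : ∀ g ∈ K, g • a = a)
    (hKE : ∀ g ∈ K, ∀ e ∈ E, Commute g e) {p : Ω} (hp : p ≠ a) :
    Nat.card (stabilizer K p) ≤ Nat.card R :=
  M.R2_eq ▸ (M.inp.orb u a b E q 1 M.fr K hK (fun g hg => ⟨hKa g hg, hKE g hg⟩)).1 p hp

theorem card_dvd (K : Subgroup G) (hK : IsPGroup 2 K) (hKa : ∀ g ∈ K, g • a = a)
    (hKE : ∀ g ∈ K, ∀ e ∈ E, Commute g e) : Nat.card K ∣ (Nat.card Ω - 1) * Nat.card R :=
  M.R2_eq ▸ (M.inp.orb u a b E q 1 M.fr K hK (fun g hg => ⟨hKa g hg, hKE g hg⟩)).2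

theorem cardP : Nat.card P = q ^ 2 * Nat.card R := by simpa using M.mod.P_card

theorem sq_dvd : q ^ 2 ∣ Nat.card Ω - 1 := by
  have h1 := M.card_dvd P M.mod.two (fun g hg => M.fixP hg) (fun g hg e he => M.centE hg he)
  rw [M.cardP] at h1
  exact Nat.dvd_of_mul_dvd_mul_right Nat.card_pos h1

theorem count : (Nat.card Ω - 1 = q ^ 3 ∧ ∀ x ∈ mems D a, ¬ 4 ∣ orderOf (u * x)) ∨
    (Nat.card Ω - 1 = q ^ 2 ∧
      (q - 1) * Nat.card (mems D a) = (q + 1) * Nat.card (memsC D u a) ^ 2) :=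
  M.inp.count_one M.fr.toTopFrame M.sq_dvd

theorem points_le : Nat.card Ω - 1 ≤ q ^ 3 := by
  rcases M.count with ⟨h1, -⟩ | ⟨h1, -⟩ <;> rw [h1]
  exact Nat.pow_le_pow_right (by have := M.q4; omega) (by norm_num)

/-- A multi at `a` with a group of members of order `q` has a top frame of type one. -/
theorem top_one {w : G} (hw : IsMulti Ω w) (hwa : w • a = a) {F : Subgroup G} (hF : MemGroup D w a F)
    (hFq : Nat.card F = q) : ∃ y : Ω, TopFrame D w a y F q 1 := by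
  obtain ⟨y, j, ht⟩ := M.inp.top_of_group M.fr.toTopFrame hw hwa hF hFq
  obtain rfl := M.inp.type_one_of_le ht M.points_le
  exact ⟨y, ht⟩

theorem fix_card {w : G} (hw : IsMulti Ω w) (hwa : w • a = a) (hwE : ∀ e ∈ E, Commute w e) :
    Nat.card {x : Ω // w • x = x} = q + 1 := by
  obtain ⟨y, ht⟩ := M.top_one hw hwa (M.memGroup_cent hwE) M.fr.data.card_E
  simpa using ht.data.card_fix

/-- A two-group centralising a multi and `E`. -/
theorem card_cent_le {w : G} (hw : IsMulti Ω w) (hwa : w • a = a) (hwE : ∀ e ∈ E, Commute w e)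
    (K : Subgroup G) (hK : IsPGroup 2 K) (hKa : ∀ g ∈ K, g • a = a) (hKw : ∀ g ∈ K, Commute g w)
    (hKE : ∀ g ∈ K, ∀ e ∈ E, Commute g e) : Nat.card K ≤ q * Nat.card R :=
  M.R2_eq ▸ M.inp.card_le_of_cent M.fr hwa (M.fix_card hw hwa hwE) K hK hKa hKw hKE

theorem orderOf_R {r : G} (hr : r ∈ R) (hr1 : r ≠ 1) : orderOf r = 2 :=
  orderOf_eq_prime (by rw [pow_two]; exact M.mod.R_sq r hr) hr1

theorem multi_R {r : G} (hr : r ∈ R) (hr1 : r ≠ 1) : IsMulti Ω r :=
  ⟨M.orderOf_R hr hr1, a, b, M.fr.data.ne, (M.fixR hr).1, (M.fixR hr).2⟩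

/-- The elements of `R` have the fixed points of `u`. -/
theorem R_fix_eq {r : G} (hr : r ∈ R) (hr1 : r ≠ 1) (x : Ω) : r • x = x ↔ u • x = x := by
  haveI := M.crit.finite_points
  refine ⟨fun hx => ?_, M.mod.R_fix r hr x⟩
  have hsub : {x : Ω | u • x = x} ⊆ {x : Ω | r • x = x} := fun y hy => M.mod.R_fix r hr y hy
  have h1 : ({x : Ω | r • x = x} : Set Ω).ncard = q + 1 := by
    rw [← Nat.card_coe_set_eq]
    exact M.fix_card (M.multi_R hr hr1) (M.fixR hr).1 (fun e he => M.centE (M.mod.R_le hr) he)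
  have h2 : ({x : Ω | u • x = x} : Set Ω).ncard = q + 1 := by
    rw [← Nat.card_coe_set_eq]
    exact (M.fr.data.card_fix.trans (by rw [pow_one]) :)
  have := Set.eq_of_subset_of_ncard_le hsub (by omega)
  exact (Set.ext_iff.1 this x).2 hx

/-- `E` is transitive on the other fixed points of `u`. -/
theorem E_trans {x : Ω} (hx : u • x = x) (hxa : x ≠ a) : ∃ e ∈ E, e • b = x := M.mod.Q_trans x hx hxa

end OneModel

end CfsgLib.AschCrit
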