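import Cfsg.Agent.Lib.Invol.AschCrit.EndOne.Facts
import Cfsg.Agent.Lib.Invol.AschCrit.FormulaSwap
import Cfsg.Agent.Lib.Invol.AschCrit.CentBend
import Cfsg.Agent.Lib.Invol.AschCrit.FormulaCount

/-!
Owner: helper8. Aschbacher's criterion, end game of type one: members at a point centralising a set `W`.

* `Crit.four_count`: for a four group `⟨u, w⟩` fixing two points `k k_V^2 = k_u k_w k_uw`.
* `OneInput.memsW_power`: the members centralising `W` fall into fibres of a size `y ^ (|C_E(W)| / 2)`.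
-/

set_option autoImplicit false
set_option linter.unusedSectionVars false
set_option linter.style.haveILetI false

namespace CfsgLib.AschCrit

open Subgroup MulAction

universe u v

variable {G : Type u} [Group G] [Finite G] {Ω : Type v} [MulAction G Ω]

/-- The members at `x` centralising `W`. -/
def memsW (D : Set G) (W : Set G) (x : Ω) : Set G := {d | d ∈ D ∧ d • x = x ∧ ∀ w ∈ W, Commute d w}

theorem memsW_singleton (D : Set G) (w : G) (x : Ω) : memsW D {w} x = memsC D w x := by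
  ext d
  exact ⟨fun h => ⟨h.1, h.2.1, h.2.2 w rfl⟩, fun h => ⟨h.1, h.2.1, fun w' hw => hw ▸ h.2.2⟩⟩

theorem memsW_empty (D : Set G) (x : Ω) : memsW D (∅ : Set G) x = mems D x := by
  ext d
  exact ⟨fun h => ⟨h.1, h.2.1⟩, fun h => ⟨h.1, h.2, fun w hw => absurd hw (Set.notMem_empty w)⟩⟩

/-- The odd core of a subgroup is normalised by what normalises the subgroup. -/
theorem conj_mem_oddCore {K : Subgroup G} {g : G} (hg : g ∈ normalizer (K : Set G)) {x : G}
    (hx : x ∈ (Cfsg.oddCore K).map K.subtype) : g * x * g⁻¹ ∈ (Cfsg.oddCore K).map K.subtype := by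
  let φ : K ≃* K :=
    { toFun := fun y => ⟨g * y * g⁻¹, (mem_normalizer_iff.1 hg y).1 y.2⟩
      invFun := fun y => ⟨g⁻¹ * y * g, (mem_normalizer_iff.1 hg _).2 (by simp [mul_assoc])⟩
      left_inv := fun y => Subtype.ext (by simp [mul_assoc])
      right_inv := fun y => Subtype.ext (by simp [mul_assoc])
      map_mul' := fun y z => Subtype.ext (by simp [mul_assoc]) }
  obtain ⟨y, hy, rfl⟩ := hx
  refine ⟨φ y, ZStar.le_oddCore ?_ ?_ (mem_map_of_mem φ.toMonoidHom hy), rfl⟩
  · exact (inferInstance : (Cfsg.oddCore K).Normal).map _ φ.surjective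
  · rw [card_map_of_injective φ.injective]
    exact ZStar.odd_card_oddCore _

theorem isPGroup_pair {u w : G} (hu : orderOf u = 2) (hw : orderOf w = 2) (hc : Commute u w) :
    IsPGroup 2 ↥(zpowers u ⊔ zpowers w) := by
  haveI := Fact.mk Nat.prime_two
  refine (IsPGroup.of_card (n := 1) (by rw [Nat.card_zpowers, hu, pow_one])).to_sup_of_normal_right'
    (IsPGroup.of_card (n := 1) (by rw [Nat.card_zpowers, hw, pow_one])) ?_
  refine zpowers_le.2 ((centralizer_le_normalizer _) (mem_centralizer_iff.2 fun y hy => ?_))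
  obtain ⟨i, rfl⟩ := hy
  exact (hc.zpow_right i).eq.symm

namespace Crit

variable {D : Set G} (h : Crit Ω D)
include h

theorem card_swappersW (hf : Faithful G Ω) {a b : Ω} (hab : a ≠ b) {t : G} (W : Set G) (ht : t ∈ D)
    (hta : t • a = b) (htW : ∀ w ∈ W, Commute t w) :
    Nat.card {s : G // s ∈ D ∧ s • a = b ∧ ∀ w ∈ W, Commute s w} =
      Nat.card (invertedIn (pairCore a b ⊓ centralizer W) t) := by
  have hti : t⁻¹ = t := inv_eq_of_mul_eq_one_right (h.sq ht)
  refine Nat.card_congr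
    { toFun := fun s => ⟨s.1 * t, ⟨?_, ?_⟩, ?_⟩
      invFun := fun y => ⟨y.1 * t, ?_, ?_, ?_⟩
      left_inv := fun s => Subtype.ext (by simp only [mul_assoc, h.sq ht, mul_one])
      right_inv := fun y => Subtype.ext (by simp only [mul_assoc, h.sq ht, mul_one]) }
  · exact h.mul_mem_pairCore hf hab ht s.2.1 hta s.2.2.1
  · exact mem_centralizer_iff.2 fun w hw => ((s.2.2.2 w hw).mul_left (htW w hw)).eq.symm
  · have hsi : (s.1)⁻¹ = s.1 := inv_eq_of_mul_eq_one_right (h.sq s.2.1)
    rw [mul_inv_rev, hti, hsi]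
    simp only [mul_assoc, h.sq ht, mul_one]
  · obtain ⟨⟨hyN, -⟩, hinv⟩ := y.2
    obtain ⟨x, -, hx⟩ := exists_conj_of_inverted (h.sq ht)
      ((odd_pairCore a b).of_dvd_nat (by
        rw [← Subgroup.orderOf_mk (y : G) hyN]
        exact orderOf_dvd_natCard _)) hinv
    rw [← hx]
    exact h.conj t ht x
  · have := pairCore_le a b y.2.1.1
    rw [mul_smul, hta]
    exact this.2
  · exact fun w hw => (show Commute (y : G) w from (mem_centralizer_iff.1 y.2.1.2 w hw).symm).mul_left (htW w hw)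

/-- Members centralising `W` at a point correspond to swappers centralising `W`. -/
theorem card_swappersW_mems {a b : Ω} (hab : a ≠ b) (W : Set G) (K : Subgroup G) (hK : IsPGroup 2 K)
    (hWK : W ⊆ K) (hKab : ∀ x ∈ K, x • a = a ∧ x • b = b) :
    Nat.card {s : G // s ∈ D ∧ s • a = b ∧ ∀ w ∈ W, Commute s w} = Nat.card (memsW D W a) := by
  obtain ⟨t, ht, hta, htc⟩ := h.exists_swapper_centralised hab K hK hKab
  obtain ⟨d, hd, hda, hdc⟩ := h.exists_mem_centralizing K hK (fun x hx => (hKab x hx).1)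
  have hdW : ∀ w ∈ W, Commute d w := fun w hw => (hdc w (hWK hw)).symm
  have htW : ∀ w ∈ W, Commute t w := fun w hw => (htc w (hWK hw)).symm
  have htb := h.swap_back' ht hta
  let f : {s : G // s ∈ D ∧ s • a = b ∧ ∀ w ∈ W, Commute s w} → memsW D W b := fun s =>
    ⟨s.1 * d * s.1, (by
      have := h.conj d hd s.1
      rwa [inv_eq_of_mul_eq_one_right (h.sq s.2.1)] at this),
      (by rw [mul_smul, mul_smul, h.swap_back' s.2.1 s.2.2.1, hda, s.2.2.1]),
      fun w hw => ((s.2.2.2 w hw).mul_left (hdW w hw)).mul_left (s.2.2.2 w hw)⟩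
  have hf : Function.Bijective f := by
    refine ⟨fun s s' e => Subtype.ext ?_, fun e => ?_⟩
    · have h1 := (h.swap_bijective hab hd hda).1 (a₁ := ⟨s.1, s.2.1, s.2.2.1⟩)
        (a₂ := ⟨s'.1, s'.2.1, s'.2.2.1⟩) (Subtype.ext (congrArg Subtype.val e :))
      simpa using h1
    · obtain ⟨s, hs, hsK, hsd, hfix⟩ := h.exists_swapper_in (K := centralizer W) hd e.2.1
        (mem_centralizer_iff.2 fun w hw => (hdW w hw).eq.symm)
        (mem_centralizer_iff.2 fun w hw => (e.2.2.2 w hw).eq.symm) hda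
        (fun e1 => hab (h.fix_unique e.1 e.2.1 a b e1 e.2.2.1))
      refine ⟨⟨s, hs, h.fix_unique e.1 e.2.1 _ _ hfix e.2.2.1,
        fun w hw => (mem_centralizer_iff.1 hsK w hw).symm⟩, Subtype.ext hsd⟩
  rw [Nat.card_eq_of_bijective f hf]
  have hti : t⁻¹ = t := inv_eq_of_mul_eq_one_right (h.sq ht)
  have hmap : ∀ (x y : Ω), t • x = y → t • y = x → ∀ d' ∈ memsW D W x, t * d' * t ∈ memsW D W y := by
    intro x y hxy hyx d' hd'
    refine ⟨?_, by rw [mul_smul, mul_smul, hyx, hd'.2.1, hxy],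
      fun w hw => ((htW w hw).mul_left (hd'.2.2 w hw)).mul_left (htW w hw)⟩
    have := h.conj d' hd'.1 t
    rwa [hti] at this
  exact Nat.card_congr
    { toFun := fun e => ⟨t * e.1 * t, hmap b a htb hta e.1 e.2⟩
      invFun := fun e => ⟨t * e.1 * t, hmap a b hta htb e.1 e.2⟩
      left_inv := fun e => Subtype.ext (by
        show t * (t * e.1 * t) * t = e.1
        rw [show t * (t * e.1 * t) * t = (t * t) * e.1 * (t * t) by group, h.sq ht, one_mul, mul_one])
      right_inv := fun e => Subtype.ext (by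
        show t * (t * e.1 * t) * t = e.1
        rw [show t * (t * e.1 * t) * t = (t * t) * e.1 * (t * t) by group, h.sq ht, one_mul, mul_one]) }

/-- Brauer-Wielandt for a four group on `O(G_ab)` and on its part centralising a swapper. -/
theorem four_count (hf : Faithful G Ω) {a b : Ω} (hab : a ≠ b) {u w : G} (hu : orderOf u = 2) (hw : orderOf w = 2)
    (huw : Commute u w) (hua : u • a = a) (hub : u • b = b) (hwa : w • a = a) (hwb : w • b = b) :
    Nat.card (mems D a) * Nat.card (memsW D {u, w} a) ^ 2 =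
      Nat.card (memsC D u a) * Nat.card (memsC D w a) * Nat.card (memsC D (u * w) a) := by
  haveI := Fintype.ofFinite G
  have hu2 : u * u = 1 := by rw [← pow_two, ← hu, pow_orderOf_eq_one]
  have hw2 : w * w = 1 := by rw [← pow_two, ← hw, pow_orderOf_eq_one]
  set K := zpowers u ⊔ zpowers w with hK
  have hKp : IsPGroup 2 K := isPGroup_pair hu hw huw
  have huK : u ∈ K := mem_sup_left (mem_zpowers u)
  have hwK : w ∈ K := mem_sup_right (mem_zpowers w)
  have hKab : ∀ x ∈ K, x • a = a ∧ x • b = b := by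
    have : K ≤ stabilizer G a ⊓ stabilizer G b :=
      sup_le (zpowers_le.2 ⟨hua, hub⟩) (zpowers_le.2 ⟨hwa, hwb⟩)
    exact fun x hx => ⟨(this hx).1, (this hx).2⟩
  obtain ⟨t, ht, hta, htc⟩ := h.exists_swapper_centralised hab K hKp hKab
  have htu : Commute t u := (htc u huK).symm
  have htw : Commute t w := (htc w hwK).symm
  set N := pairCore (G := G) a b with hN
  have hNodd : Odd (Nat.card N) := odd_pairCore a b
  have htN := mem_normalizer_pairCore (Or.inr ⟨hta, h.swap_back' ht hta⟩ : t ∈ pairSet (G := G) a b)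
  have huN := mem_normalizer_pairCore (Or.inl ⟨hua, hub⟩ : u ∈ pairSet (G := G) a b)
  have hwN := mem_normalizer_pairCore (Or.inl ⟨hwa, hwb⟩ : w ∈ pairSet (G := G) a b)
  have hinter : ∀ (g : G), g ∈ normalizer (N : Set G) → ∀ W : Set G, (∀ x ∈ W, Commute g x) →
      g ∈ normalizer ((N ⊓ centralizer W : Subgroup G) : Set G) := by
    intro g hgN W hgW
    refine mem_normalizer_of_mapsTo fun y hy => ⟨(mem_normalizer_iff.1 hgN y).1 hy.1, ?_⟩
    refine mem_centralizer_iff.2 fun x hx => ?_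
    have h1 := (Commute.conj_iff g).2 (show Commute y x from (mem_centralizer_iff.1 hy.2 x hx).symm)
    rw [(hgW x hx).eq, mul_inv_cancel_right] at h1
    exact h1.eq.symm
  have hodd : ∀ W : Set G, Odd (Nat.card (N ⊓ centralizer W : Subgroup G)) := fun W =>
    hNodd.of_dvd_nat (card_dvd_of_le inf_le_left)
  -- fixed times inverted
  have hfi : ∀ W : Set G, W ⊆ K →
      Nat.card (N ⊓ centralizer W ⊓ centralizer ({t} : Set G) : Subgroup G) * Nat.card (memsW D W a) =
        Nat.card (N ⊓ centralizer W : Subgroup G) := by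
    intro W hW
    rw [← h.card_swappersW_mems hab W K hKp hW hKab, h.card_swappersW hf hab W ht hta
      (fun x hx => (htc x (hW hx)).symm)]
    exact card_invertedIn_mul (hodd W) (h.sq ht) (hinter t htN W fun x hx => (htc x (hW hx)).symm)
  set N' : Subgroup G := N ⊓ centralizer ({t} : Set G)
  have hN'odd : Odd (Nat.card N') := hodd {t}
  have b1 := CfsgLib.HallNumber.brauer_wielandt_subgroup N hNodd hu2 hw2 huw.eq huN hwN
  have b2 := CfsgLib.HallNumber.brauer_wielandt_subgroup N' hN'odd hu2 hw2 huw.eq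
    (hinter u huN _ fun x hx => by rw [Set.mem_singleton_iff.1 hx]; exact htu.symm)
    (hinter w hwN _ fun x hx => by rw [Set.mem_singleton_iff.1 hx]; exact htw.symm)
  have hsplit : (centralizer ({u, w} : Set G)) = centralizer ({u} : Set G) ⊓ centralizer ({w} : Set G) := by
    ext x
    simp only [mem_centralizer_iff, mem_inf, Set.mem_insert_iff, Set.mem_singleton_iff, forall_eq_or_imp, forall_eq]
  have hempty : (centralizer (∅ : Set G)) = ⊤ :=
    eq_top_iff.2 fun x _ => mem_centralizer_iff.2 fun y hy => absurd hy (Set.notMem_empty y)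
  have f0 := hfi ∅ (Set.empty_subset _)
  have fu := hfi {u} (Set.singleton_subset_iff.2 huK)
  have fw := hfi {w} (Set.singleton_subset_iff.2 hwK)
  have fuw := hfi {u * w} (Set.singleton_subset_iff.2 (mul_mem huK hwK))
  have fV := hfi {u, w} (Set.insert_subset huK (Set.singleton_subset_iff.2 hwK))
  rw [memsW_empty, hempty, inf_top_eq] at f0
  rw [memsW_singleton] at fu fw fuw
  rw [hsplit, ← inf_assoc N] at fV
  have e1 : ∀ W : Set G, N' ⊓ centralizer W = N ⊓ centralizer W ⊓ centralizer ({t} : Set G) :=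
    fun W => inf_right_comm _ _ _
  have e2 : N' ⊓ centralizer ({u} : Set G) ⊓ centralizer ({w} : Set G) =
      N ⊓ centralizer ({u} : Set G) ⊓ centralizer ({w} : Set G) ⊓ centralizer ({t} : Set G) := by
    rw [e1, inf_right_comm]
  rw [e2, e1, e1, e1] at b2
  rw [← fu, ← fw, ← fuw, ← f0, ← fV] at b1
  set n0 := Nat.card N'
  set nu := Nat.card (N ⊓ centralizer ({u} : Set G) ⊓ centralizer ({t} : Set G) : Subgroup G)
  set nw := Nat.card (N ⊓ centralizer ({w} : Set G) ⊓ centralizer ({t} : Set G) : Subgroup G)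
  set nuw := Nat.card (N ⊓ centralizer ({u * w} : Set G) ⊓ centralizer ({t} : Set G) : Subgroup G)
  set nV := Nat.card (N ⊓ centralizer ({u} : Set G) ⊓ centralizer ({w} : Set G) ⊓ centralizer ({t} : Set G) : Subgroup G)
  refine Nat.eq_of_mul_eq_mul_left (show 0 < nu * nw * nuw from
    Nat.mul_pos (Nat.mul_pos Nat.card_pos Nat.card_pos) Nat.card_pos) ?_
  calc nu * nw * nuw * (Nat.card (mems D a) * Nat.card (memsW D {u, w} a) ^ 2)
      = n0 * Nat.card (mems D a) * (nV * Nat.card (memsW D {u, w} a)) ^ 2 := by rw [← b2]; ring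
    _ = nu * Nat.card (memsC D u a) * (nw * Nat.card (memsC D w a)) * (nuw * Nat.card (memsC D (u * w) a)) := b1
    _ = _ := by ring

end Crit

namespace OneInput

variable {D : Set G} (H : OneInput Ω D)
include H

/-- The members centralising `W` fall into `|C_E(W)| - 1` fibres of the same size, a `|C_E(W)| / 2`-th power. -/
theorem memsW_power {u : G} {a b : Ω} {E : Subgroup G} {q i : ℕ} (hu : IsMulti Ω u) (hl : LData D u a b E q i)
    (W : Set G) (huW : u ∈ W) (hW : ∀ w ∈ W, w • a = a ∧ ∀ e ∈ E, w * e * w⁻¹ ∈ E)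
    {η : G} (hηa : η • a = a) (hηW : ∀ w ∈ W, Commute η w) (hηE : ∀ e ∈ E, η * e * η⁻¹ ∈ E)
    (hηt : ∀ e ∈ E, ∀ f ∈ E, e ≠ 1 → f ≠ 1 → (∀ w ∈ W, Commute e w ∧ Commute f w) →
      ∃ j : ℕ, η ^ j * e * (η ^ j)⁻¹ = f)
    (hne : ∃ e ∈ E, e ≠ 1 ∧ ∀ w ∈ W, Commute e w) :
    ∃ y : ℕ, Odd y ∧ Nat.card (memsW D W a) =
      (Nat.card (E ⊓ centralizer W : Subgroup G) - 1) * y ^ (Nat.card (E ⊓ centralizer W : Subgroup G) / 2) := by
  classical
  have h := H.crit
  set E₀ : Subgroup G := E ⊓ centralizer W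
  have hmemE₀ : ∀ e, e ∈ E₀ ↔ e ∈ E ∧ ∀ w ∈ W, Commute e w := fun e =>
    ⟨fun he => ⟨he.1, fun w hw => (mem_centralizer_iff.1 he.2 w hw).symm⟩,
      fun he => ⟨he.1, mem_centralizer_iff.2 fun w hw => (he.2 w hw).eq.symm⟩⟩
  have hsq : ∀ e ∈ E, e * e = 1 := fun e he => by
    rcases eq_or_ne e 1 with e1 | e1
    · rw [e1, one_mul]
    · exact h.sq (hl.mem e he e1).1
  have hηu : Commute η u := hηW u huW
  -- the kernel
  set K : Subgroup G := centralizer W ⊓ fixingSubgroup G {x : Ω | u • x = x}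
  have hKfix : ∀ g ∈ K, ∀ x : Ω, u • x = x → g • x = x := fun g hg x hx =>
    (mem_fixingSubgroup_iff G).1 hg.2 x hx
  have hnormK : ∀ g : G, (∀ w ∈ W, Commute g w) → g ∈ normalizer (K : Set G) := by
    intro g hg
    refine mem_normalizer_of_mapsTo fun k hk => ⟨?_, ?_⟩
    · refine mem_centralizer_iff.2 fun w hw => ?_
      have h1 := (Commute.conj_iff g).2 (show Commute k w from (mem_centralizer_iff.1 hk.1 w hw).symm)
      rw [(hg w hw).eq, mul_inv_cancel_right] at h1
      exact h1.eq.symm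
    · refine (mem_fixingSubgroup_iff G).2 fun x hx => ?_
      have hx' : u • (g⁻¹ • x) = g⁻¹ • x := by
        rw [← mul_smul, ← (hg u huW).inv_left.eq, mul_smul, show u • x = x from hx]
      rw [mul_smul, mul_smul, hKfix k hk _ hx', smul_inv_smul]
  set O : Subgroup G := (Cfsg.oddCore K).map K.subtype
  have hOK : O ≤ K := map_subtype_le _
  have hOodd : Odd (Nat.card O) := by
    rw [card_map_of_injective K.subtype_injective]; exact ZStar.odd_card_oddCore _
  -- a fibre is the inverted part of `O`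
  let F : G → Set G := fun e => {d | d ∈ memsW D W a ∧ Odd (orderOf (d * e))}
  have hfib : ∀ e ∈ E₀, e ≠ 1 → Nat.card (F e) = Nat.card (invertedIn O e) := by
    intro e he he1
    obtain ⟨heE, heW⟩ := (hmemE₀ e).1 he
    obtain ⟨heD, hea, heu⟩ := hl.mem e heE he1
    have he2 := hsq e heE
    have hei : e⁻¹ = e := inv_eq_of_mul_eq_one_right he2
    refine Nat.card_congr
      { toFun := fun d => ⟨d.1 * e, ?_, ?_⟩
        invFun := fun k => ⟨k.1 * e, ⟨?_, ?_, ?_⟩, ?_⟩
        left_inv := fun d => Subtype.ext (by simp only [mul_assoc, he2, mul_one])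
        right_inv := fun k => Subtype.ext (by simp only [mul_assoc, he2, mul_one]) }
    · obtain ⟨d, ⟨hdD, hda, hdW⟩, hodd⟩ := d
      show d * e ∈ O
      have hfix := h.mul_fix_of_odd H.faith H.below hu hl ⟨hdD, hda, hdW u huW⟩ ⟨heD, hea, heu⟩ hodd
      have hkK : d * e ∈ K := ⟨mem_centralizer_iff.2 fun w hw => ((hdW w hw).mul_left (heW w hw)).eq.symm,
        (mem_fixingSubgroup_iff G).2 hfix⟩
      have hinv : e * (d * e) * e⁻¹ = (d * e)⁻¹ := by
        rw [mul_inv_rev, inv_eq_of_mul_eq_one_right (h.sq hdD), mul_assoc, mul_assoc, mul_inv_cancel, mul_one, hei]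
      obtain ⟨x, hx, hxe⟩ := exists_conj_of_inverted he2 hodd hinv
      set K₁ : Subgroup G := K ⊔ zpowers e
      have heK₁ : e ∈ K₁ := mem_sup_right (mem_zpowers e)
      have hKact : ∀ g ∈ K₁, g • a = a ∧ Commute g u ∧
          ((∀ y : Ω, u • y = y → g • y = y) ∨ ∀ y : Ω, u • y = y → g • y = e • y) := by
        intro g hg
        have heKn : zpowers e ≤ normalizer (K : Set G) := zpowers_le.2 (hnormK e heW)
        rw [← SetLike.mem_coe, coe_mul_of_right_le_normalizer_left _ _ heKn] at hg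
        obtain ⟨k, hk, z, hz, rfl⟩ := Set.mem_mul.1 hg
        have hku : Commute k u := (mem_centralizer_iff.1 hk.1 u huW).symm
        obtain ⟨i, rfl⟩ := hz
        have hei : ∀ y : Ω, u • y = y → u • (e • y) = e • y := fun y hy => by
          rw [← mul_smul, ← heu.eq, mul_smul, hy]
        rcases Int.even_or_odd i with ⟨j, rfl⟩ | ⟨j, rfl⟩
        · have e1 : e ^ (j + j) = 1 := by
            rw [← two_mul, _root_.zpow_mul, _root_.zpow_two, he2, _root_.one_zpow]
          refine ⟨?_, ?_, Or.inl fun y hy => ?_⟩ <;> simp only [e1, mul_one]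
          exacts [hKfix k hk a hl.fix_a, hku, hKfix k hk y hy]
        · have e1 : e ^ (2 * j + 1) = e := by
            rw [_root_.zpow_add_one, _root_.zpow_mul, _root_.zpow_two, he2, _root_.one_zpow, one_mul]
          refine ⟨?_, ?_, Or.inr fun y hy => ?_⟩ <;> simp only [e1]
          · rw [mul_smul, hea, hKfix k hk a hl.fix_a]
          · exact hku.mul_left heu
          · rw [mul_smul, hKfix k hk _ (hei y hy)]
      have hiso : Cfsg.IsIsolatedInvolution (⟨e, heK₁⟩ : K₁) := by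
        refine ⟨?_, fun g hg => ?_⟩
        · rw [Subgroup.orderOf_mk]; exact h.inv e heD
        · by_contra hne'
          obtain ⟨hga, hgu, hact⟩ := hKact g g.2
          have hd' : (g : G) * e * (g : G)⁻¹ ∈ D := h.conj e heD g
          have hne2 : (g : G) * e * (g : G)⁻¹ ≠ e := fun e1 => hne' (Subtype.ext e1)
          have hcc : Commute ((g : G) * e * (g : G)⁻¹) e := by
            have := congrArg Subtype.val hg.eq
            exact this.symm
          have hprod : ∀ y : Ω, u • y = y → ((g : G) * e * (g : G)⁻¹ * e) • y = y := by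
            intro y hy
            have hey : u • (e • y) = e • y := by rw [← mul_smul, ← heu.eq, mul_smul, hy]
            have hgy : u • ((g : G)⁻¹ • (e • y)) = (g : G)⁻¹ • (e • y) := by
              rw [← mul_smul, ← hgu.inv_left.eq, mul_smul, hey]
            rw [mul_smul, mul_smul, mul_smul]
            rcases hact with hact | hact
            · have h1 : (g : G)⁻¹ • (e • y) = e • y := by rw [inv_smul_eq_iff, hact _ hey]
              rw [h1, smul_smul e e, he2, one_smul, hact y hy]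
            · have h1 : (g : G)⁻¹ • (e • y) = y := by rw [inv_smul_eq_iff, hact y hy]
              rw [h1, hact _ hey, smul_smul, he2, one_smul]
          exact hl.ne ((h.pair_single hd' heD hne2 hcc (show ((g : G) * e * (g : G)⁻¹) • a = a by
            rw [mul_smul, mul_smul, inv_smul_eq_iff.2 hga.symm, hea, hga]) (hprod a hl.fix_a)).trans
            (h.pair_single hd' heD hne2 hcc (show ((g : G) * e * (g : G)⁻¹) • a = a by
            rw [mul_smul, mul_smul, inv_smul_eq_iff.2 hga.symm, hea, hga]) (hprod b hl.fix_b)).symm)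
      have hxK : x ∈ K := zpowers_le.2 hkK hx
      have hcom := ZStar.mem_oddCore_of_isolated hiso (⟨x, mem_sup_left hxK⟩ : K₁)
      -- the odd core of `K₁` meets `K` inside `O`
      set N : Subgroup K := (((Cfsg.oddCore K₁).map K₁.subtype)).subgroupOf K
      have hN : N ≤ Cfsg.oddCore K := by
        refine ZStar.le_oddCore ⟨fun y hy k => ?_⟩ ?_
        · rw [mem_subgroupOf] at hy ⊢
          exact conj_mem_oddCore (le_normalizer (mem_sup_left k.2 : (k : G) ∈ K₁)) hy
        · have hdd : Nat.card N ∣ Nat.card ((Cfsg.oddCore K₁).map K₁.subtype) := card_comap_dvd_of_injective _ _ K.subtype_injective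
          refine Odd.of_dvd_nat ?_ hdd
          rw [card_map_of_injective K₁.subtype_injective]; exact ZStar.odd_card_oddCore _
      have hval : e * x * e⁻¹ * x⁻¹ ∈ (Cfsg.oddCore K₁).map K₁.subtype := ⟨_, hcom, rfl⟩
      have hkey : d * e = (e * x * e⁻¹ * x⁻¹)⁻¹ := by
        calc d * e = x * e * x⁻¹ * e⁻¹ := by rw [hxe, mul_inv_cancel_right]
          _ = _ := by group
      have hkN : (⟨d * e, hkK⟩ : K) ∈ N := mem_subgroupOf.2 (by rw [show ((⟨d * e, hkK⟩ : K) : G) = d * e from rfl, hkey]; exact inv_mem hval)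
      exact ⟨⟨d * e, hkK⟩, hN hkN, rfl⟩
    · obtain ⟨d, ⟨hdD, hda, hdW⟩, hodd⟩ := d
      show e * (d * e) * e⁻¹ = (d * e)⁻¹
      rw [mul_inv_rev, inv_eq_of_mul_eq_one_right (h.sq hdD), mul_assoc, mul_assoc, mul_inv_cancel, mul_one, hei]
    all_goals obtain ⟨k, hkO, hinv⟩ := k
    all_goals dsimp only
    · obtain ⟨x, -, hx⟩ := exists_conj_of_inverted he2
        (hOodd.of_dvd_nat (by rw [← Subgroup.orderOf_mk k hkO]; exact orderOf_dvd_natCard _)) hinv
      rw [← hx]
      exact h.conj e heD x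
    · rw [mul_smul, hea, hKfix k (hOK hkO) a hl.fix_a]
    · exact fun w hw => (show Commute k w from (mem_centralizer_iff.1 (hOK hkO).1 w hw).symm).mul_left (heW w hw)
    · rw [mul_assoc, he2, mul_one]
      exact hOodd.of_dvd_nat (by rw [← Subgroup.orderOf_mk k hkO]; exact orderOf_dvd_natCard _)
  -- the size of a fibre
  have hηE₀ : ∀ e ∈ E₀, η * e * η⁻¹ ∈ E₀ := fun e he => (hmemE₀ _).2 ⟨hηE e ((hmemE₀ e).1 he).1, fun w hw => by
    have h1 := (Commute.conj_iff η).2 (((hmemE₀ e).1 he).2 w hw)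
    rwa [(hηW w hw).eq, mul_inv_cancel_right] at h1⟩
  have hηpow : ∀ j : ℕ, ∀ e ∈ E₀, η ^ j * e * (η ^ j)⁻¹ ∈ E₀ := by
    intro j
    induction j with
    | zero => intro e he; simpa using he
    | succ j ih =>
      intro e he
      rw [pow_succ', show η * η ^ j * e * (η * η ^ j)⁻¹ = η * (η ^ j * e * (η ^ j)⁻¹) * η⁻¹ by group]
      exact hηE₀ _ (ih e he)
  obtain ⟨e₁, he₁E, he₁1, he₁W⟩ := hne
  have he₁ : e₁ ∈ E₀ := (hmemE₀ e₁).2 ⟨he₁E, he₁W⟩
  obtain ⟨y, hy, hyO⟩ := H.hp G O E₀ η hOodd (fun e he => hsq e he.1) (fun e he f hf => hl.comm e he.1 f hf.1)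
    (fun e he x hx => conj_mem_oddCore (hnormK e ((hmemE₀ e).1 he).2) hx)
    (fun x hx => conj_mem_oddCore (hnormK η hηW) hx) hηE₀
    (fun e he f hf he1 hf1 => hηt e he.1 f hf.1 he1 hf1 fun w hw =>
      ⟨((hmemE₀ e).1 he).2 w hw, ((hmemE₀ f).1 hf).2 w hw⟩) e₁ he₁ he₁1
  refine ⟨y, hy, ?_⟩
  have hF₁ : Nat.card (F e₁) = y ^ (Nat.card E₀ / 2) := by
    rw [hfib e₁ he₁ he₁1]
    have hN : e₁ ∈ normalizer (O : Set G) :=
      mem_normalizer_of_mapsTo fun x hx => conj_mem_oddCore (hnormK e₁ he₁W) hx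
    have h1 := card_invertedIn_mul hOodd (hsq e₁ he₁E) hN
    have h2 : Nat.card {x : G // x ∈ O ∧ Commute x e₁} = Nat.card (O ⊓ centralizer ({e₁} : Set G) : Subgroup G) :=
      Nat.card_congr (Equiv.subtypeEquivRight fun x =>
        ⟨fun hx => ⟨hx.1, mem_centralizer_singleton_iff.2 hx.2.eq⟩, fun hx => ⟨hx.1, mem_centralizer_singleton_iff.1 hx.2⟩⟩)
    rw [h2, ← h1, mul_comm (y ^ _) ] at hyO
    exact Nat.eq_of_mul_eq_mul_left Nat.card_pos hyO
  have hFall : ∀ e ∈ E₀, e ≠ 1 → Nat.card (F e) = y ^ (Nat.card E₀ / 2) := by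
    intro e he he1
    obtain ⟨j, hj⟩ := hηt e₁ he₁E e ((hmemE₀ e).1 he).1 he₁1 he1 fun w hw =>
      ⟨he₁W w hw, ((hmemE₀ e).1 he).2 w hw⟩
    have hjW : ∀ w ∈ W, Commute (η ^ j) w := fun w hw => (hηW w hw).pow_left j
    have hja : η ^ j • a = a := pow_mem (show η ∈ stabilizer G a from hηa) j
    have hmw : ∀ g : G, (∀ w ∈ W, Commute g w) → g • a = a → ∀ d ∈ memsW D W a, g * d * g⁻¹ ∈ memsW D W a :=
      fun g hg hga d hd => ⟨h.conj d hd.1 g, by rw [mul_smul, mul_smul, inv_smul_eq_iff.2 hga.symm, hd.2.1, hga],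
        fun w hw => by
          have h1 := (Commute.conj_iff g).2 (hd.2.2 w hw)
          rwa [(hg w hw).eq, mul_inv_cancel_right] at h1⟩
    rw [← hF₁]
    refine (Nat.card_congr ((MulAut.conj (η ^ j)).toEquiv.subtypeEquiv fun d => ?_)).symm
    show (d ∈ memsW D W a ∧ Odd (orderOf (d * e₁))) ↔
      η ^ j * d * (η ^ j)⁻¹ ∈ memsW D W a ∧ Odd (orderOf (η ^ j * d * (η ^ j)⁻¹ * e))
    have hord : orderOf (η ^ j * d * (η ^ j)⁻¹ * e) = orderOf (d * e₁) := by
      rw [← hj, show η ^ j * d * (η ^ j)⁻¹ * (η ^ j * e₁ * (η ^ j)⁻¹) = η ^ j * (d * e₁) * (η ^ j)⁻¹ by group,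
        CfsgLib.Signalizer.orderOf_conj]
    rw [hord]
    refine and_congr_left fun _ => ⟨hmw _ hjW hja d, fun hd => ?_⟩
    have := hmw (η ^ j)⁻¹ (fun w hw => (hjW w hw).inv_left) (inv_smul_eq_iff.2 hja.symm) _ hd
    rwa [show (η ^ j)⁻¹ * (η ^ j * d * (η ^ j)⁻¹) * (η ^ j)⁻¹⁻¹ = d by group] at this
  -- the partition
  haveI := Fintype.ofFinite {e : E₀ // e ≠ 1}
  have hsel : ∀ d : memsW D W a, ∃ e : {e : E₀ // e ≠ 1}, Odd (orderOf ((d : G) * ((e : E₀) : G))) := by
    rintro ⟨d, hdD, hda, hdW⟩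
    obtain ⟨e, ⟨heE, he1, hodd⟩, huniq⟩ := hl.fibre d ⟨hdD, hda, hdW u huW⟩
    refine ⟨⟨⟨e, (hmemE₀ e).2 ⟨heE, fun w hw => ?_⟩⟩, fun e0 => he1 (congrArg Subtype.val e0)⟩, hodd⟩
    have h1 : w * e * w⁻¹ = e := huniq _ ⟨(hW w hw).2 e heE, fun e0 => he1 (conj_eq_one_iff.1 e0), by
      rw [show d = w * d * w⁻¹ by rw [← (hdW w hw).eq, mul_inv_cancel_right],
        show w * d * w⁻¹ * (w * e * w⁻¹) = w * (d * e) * w⁻¹ by group, CfsgLib.Signalizer.orderOf_conj]
      exact hodd⟩
    exact (mul_inv_eq_iff_eq_mul.1 h1).symm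
  choose f hf using hsel
  have hfib' : ∀ e : {e : E₀ // e ≠ 1}, Nat.card {d // f d = e} = y ^ (Nat.card E₀ / 2) := by
    intro e
    rw [← hFall ((e : E₀) : G) (e : E₀).2 (fun e0 => e.2 (Subtype.ext e0))]
    refine Nat.card_congr
      { toFun := fun d => ⟨d.1.1, d.1.2, by have := hf d.1; rwa [d.2] at this⟩
        invFun := fun d => ⟨⟨d.1, d.2.1⟩, ?_⟩
        left_inv := fun d => rfl
        right_inv := fun d => rfl }
    obtain ⟨e', ⟨-, -, -⟩, huniq⟩ := hl.fibre d.1 ⟨d.2.1.1, d.2.1.2.1, d.2.1.2.2 u huW⟩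
    have h1 := huniq _ ⟨(f ⟨d.1, d.2.1⟩ : E₀).2.1,
      fun e0 => (f ⟨d.1, d.2.1⟩).2 (Subtype.ext e0), hf ⟨d.1, d.2.1⟩⟩
    have h2 := huniq _ ⟨(e : E₀).2.1, fun e0 => e.2 (Subtype.ext e0), d.2.2⟩
    exact Subtype.ext (Subtype.ext (h1.trans h2.symm))
  rw [← Nat.card_congr (Equiv.sigmaFiberEquiv f), Nat.card_sigma, Finset.sum_congr rfl (fun e _ => hfib' e),
    Finset.sum_const, smul_eq_mul, Finset.card_univ, ← Nat.card_eq_fintype_card]
  congr 1
  have := Nat.card_congr (Equiv.optionSubtypeNe (1 : E₀))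
  rw [Finite.card_option] at this
  omega

end OneInput

end CfsgLib.AschCrit
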