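import Cfsg.Agent.Lib.Invol.AschCrit.EndOne.LargeR
import Cfsg.Agent.Lib.Invol.AschCrit.EndOne.Cyclic

/-!
Owner: helper8. Aschbacher's criterion, end game of type one: facts when `R = ⟨u⟩`, and the case that the class
`u E` is invariant when there are `q ^ 3` other points.

`P = X ∪ u X`, `E` is its centre and `X` its only abelian subgroup of index two.
-/

set_option autoImplicit false
set_option linter.unusedSectionVars false
set_option linter.style.haveILetI false

namespace CfsgLib.AschCrit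

open Subgroup MulAction

universe u v

variable {G : Type u} [Group G] [Finite G] {Ω : Type v} [MulAction G Ω]

/-- The elements of `transGrp` as a subgroup. -/
def transSubOne (u : G) (a : Ω) (E : Subgroup G) : Subgroup G :=
  subgroupOfIdempotent (transGrp u a E) ⟨1, one_smul _ _, fun e _ => Commute.one_left e, by simp⟩ (by
    refine Set.Subset.antisymm ?_ fun g hg => ⟨g, hg, 1,
      ⟨one_smul _ _, fun e _ => Commute.one_left e, by simp⟩, mul_one g⟩
    rintro _ ⟨g, ⟨hga, hgE, hgu⟩, k, ⟨hka, hkE, hku⟩, rfl⟩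
    refine ⟨?_, fun e he => (hgE e he).mul_left (hkE e he), ?_⟩
    · show (g * k) • a = a
      rw [mul_smul, hka, hga]
    show u⁻¹ * (g * k * u * (g * k)⁻¹) ∈ E
    rw [show u⁻¹ * (g * k * u * (g * k)⁻¹) =
      (u⁻¹ * (g * u * g⁻¹)) * (g * (u⁻¹ * (k * u * k⁻¹)) * g⁻¹) by group, (hgE _ hku).eq, mul_inv_cancel_right]
    exact mul_mem hgu hku)

theorem mem_transSub_one {u : G} {a : Ω} {E : Subgroup G} {g : G} :
    g ∈ transSubOne u a E ↔ g • a = a ∧ (∀ e ∈ E, Commute g e) ∧ u⁻¹ * (g * u * g⁻¹) ∈ E := Iff.rfl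

namespace OneModel

variable {D : Set G} {u : G} {a b : Ω} {E : Subgroup G} {q : ℕ} {P R X : Subgroup G} {η : G}
  (M : OneModel D u a b E q P R X η)
include M

theorem uinv : u⁻¹ = u := inv_eq_of_mul_eq_one_right M.usq

theorem uP : u ∈ P := M.mod.R_le M.mod.u_mem

theorem u_not_X : u ∉ X := fun hX => M.u_ne (M.R_inf_X M.mod.u_mem hX)

theorem u_not_E : u ∉ E := fun hE => M.u_not_X (M.mod.E_X hE)

theorem R_cases (hR : Nat.card R = 2) {r : G} (hr : r ∈ R) : r = 1 ∨ r = u := by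
  obtain ⟨y, z, hyz, huniv⟩ := Nat.card_eq_two_iff.mp hR
  by_contra hne
  push Not at hne
  have h : ∀ w : R, w = y ∨ w = z := fun w => by
    have : w ∈ ({y, z} : Set R) := huniv ▸ Set.mem_univ w
    simpa using this
  rcases h 1 with e1 | e1 <;> rcases h ⟨u, M.mod.u_mem⟩ with e2 | e2 <;> rcases h ⟨r, hr⟩ with e3 | e3 <;>
    first
      | exact hne.1 (congrArg Subtype.val (e3.trans e1.symm))
      | exact hne.2 (congrArg Subtype.val (e3.trans e2.symm))
      | exact M.u_ne (congrArg Subtype.val (e2.trans e1.symm))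

theorem cardP_two (hR : Nat.card R = 2) : Nat.card P = q * q * 2 := by rw [M.cardP, hR, pow_two]

theorem gen_two (hR : Nat.card R = 2) {g : G} (hg : g ∈ P) : g ∈ X ∨ u * g ∈ X := by
  obtain ⟨r, hr, x, hx, rfl⟩ := M.gen' hg
  rcases M.R_cases hR hr with rfl | rfl
  · exact Or.inl (by rwa [one_mul])
  · exact Or.inr (by rwa [← mul_assoc, M.usq, one_mul])

theorem exists_not_E : ∃ x ∈ X, x ∉ E := by
  by_contra hc
  push Not at hc
  have h2 := Subgroup.card_le_of_le (show X ≤ E from hc)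
  rw [M.mod.X_card, M.fr.data.card_E] at h2
  have := M.q4
  nlinarith

theorem E_of_commute_u {x : G} (hx : x ∈ X) (hc : Commute u x) : x ∈ E :=
  M.mod.RX_ker u M.mod.u_mem M.u_ne x hx hc

theorem commute_u_of_coset {g y : G} (hg : u * g ∈ X) (hy : y ∈ X) (hc : Commute g y) : Commute u y := by
  have h1 : Commute (u * g) y := M.mod.X_comm _ hg y hy
  show u * y = y * u
  calc u * y = u * g * y * g⁻¹ := by
        rw [mul_assoc u g y, hc.eq, ← mul_assoc, mul_inv_cancel_right]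
    _ = y * u := by rw [h1.eq, ← mul_assoc, mul_inv_cancel_right]

/-- The normaliser of `P` normalises its centre `E`. -/
theorem norm_E (hR : Nat.card R = 2) {g : G} (hg : g ∈ normalizer (P : Set G)) {e : G} (he : e ∈ E) :
    g * e * g⁻¹ ∈ E := by
  have hz : g * e * g⁻¹ ∈ P := (mem_normalizer_iff.1 hg e).1 (M.E_le_P he)
  have hcz : ∀ y ∈ P, Commute (g * e * g⁻¹) y := fun y hy => by
    have hy' : g⁻¹ * y * g ∈ P := (mem_normalizer_iff.1 hg _).2 (by simpa [mul_assoc] using hy)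
    have h2 := (Commute.conj_iff g).2 (M.centE hy' he).symm
    rwa [show g * (g⁻¹ * y * g) * g⁻¹ = y by group] at h2
  rcases M.gen_two hR hz with hX | hX
  · exact M.E_of_commute_u hX (hcz u M.uP).symm
  · exfalso
    obtain ⟨y, hy, hyE⟩ := M.exists_not_E
    exact hyE (M.E_of_commute_u hy (M.commute_u_of_coset hX hy (hcz y (M.mod.X_le hy))))

/-- The normaliser of `P` normalises `X`. -/
theorem norm_X (hR : Nat.card R = 2) {g : G} (hg : g ∈ normalizer (P : Set G)) {x : G} (hx : x ∈ X) :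
    g * x * g⁻¹ ∈ X := by
  classical
  rcases M.gen_two hR ((mem_normalizer_iff.1 hg x).1 (M.mod.X_le hx)) with h1 | h1
  · exact h1
  exfalso
  let S : Subgroup X := (X.map (MulAut.conj g).toMonoidHom).subgroupOf X
  have hS : ∀ y : X, y ∈ S → (y : G) ∈ E := fun y hy => by
    obtain ⟨x', hx', hxy⟩ := mem_subgroupOf.1 hy
    refine M.E_of_commute_u y.2 (M.commute_u_of_coset h1 y.2 ?_)
    rw [← hxy]
    exact (Commute.conj_iff g).2 (M.mod.X_comm x hx x' hx')
  -- `X` is covered by two translates of the part in `X`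
  let F : X → Bool × E := fun y =>
    if hy : g * (y : G) * g⁻¹ ∈ X then (false, ⟨g * (y : G) * g⁻¹, hS ⟨_, hy⟩ (mem_subgroupOf.2 ⟨y, y.2, rfl⟩)⟩)
    else (true, ⟨g * ((y : G) * x⁻¹) * g⁻¹, by
      have hyP : g * (y : G) * g⁻¹ ∈ P := (mem_normalizer_iff.1 hg _).1 (M.mod.X_le y.2)
      have h2 := (M.gen_two hR hyP).resolve_left hy
      have h3 : g * ((y : G) * x⁻¹) * g⁻¹ ∈ X := by
        have h4 : (u * (g * (y : G) * g⁻¹)) * (u * (g * x * g⁻¹))⁻¹ ∈ X := mul_mem h2 (inv_mem h1)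
        have h5 : u * (g * ((y : G) * x⁻¹) * g⁻¹) * u⁻¹ ∈ X := by
          rwa [show u * (g * (y : G) * g⁻¹) * (u * (g * x * g⁻¹))⁻¹ =
            u * (g * ((y : G) * x⁻¹) * g⁻¹) * u⁻¹ by group] at h4
        have h6 := mul_mem (M.mod.E_X (M.br_mem M.mod.u_mem h5)) h5
        rw [← M.conj_eq_br, M.uinv] at h6
        rwa [show u * (u * (g * ((y : G) * x⁻¹) * g⁻¹) * u) * u =
          (u * u) * (g * ((y : G) * x⁻¹) * g⁻¹) * (u * u) by group, M.usq, one_mul, mul_one] at h6
      exact hS ⟨_, h3⟩ (mem_subgroupOf.2 ⟨_, mul_mem y.2 (inv_mem hx), rfl⟩)⟩)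
  have hF : Function.Injective F := by
    intro y z e
    simp only [F] at e
    split_ifs at e <;> simp at e <;> exact e
  have h2 := Nat.card_le_card_of_injective F hF
  rw [Nat.card_prod, M.mod.X_card, M.fr.data.card_E, Nat.card_eq_fintype_card, Fintype.card_bool] at h2
  have := M.q4
  nlinarith

/-- An element normalising `P` moves `u` inside `u X`. -/
theorem shift_mem (hR : Nat.card R = 2) {g : G} (hg : g ∈ normalizer (P : Set G)) :
    u * (g * u * g⁻¹) ∈ X := by
  refine (M.gen_two hR ((mem_normalizer_iff.1 hg u).1 M.uP)).resolve_left fun hX => M.u_not_X ?_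
  have := M.norm_X hR (inv_mem hg) hX
  rwa [inv_inv, show g⁻¹ * (g * u * g⁻¹) * g = u by group] at this

theorem conj_u_eq (g : G) : g * u * g⁻¹ = u * (u * (g * u * g⁻¹)) := by rw [← mul_assoc, M.usq, one_mul]

/-- If the class is invariant in a two-group then its part centralising `E` is `P`. -/
theorem cent_eq (T : Subgroup G) (hT : IsPGroup 2 T) (hTa : ∀ g ∈ T, g • a = a) (hPT : P ≤ T)
    (hfix : ∀ g ∈ T, g ∈ normalizer (P : Set G) → (∀ e ∈ E, Commute g e) → u * (g * u * g⁻¹) ∈ E) :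
    ∀ g ∈ T, (∀ e ∈ E, Commute g e) → g ∈ P := by
  classical
  haveI := Fact.mk Nat.prime_two
  intro g hg hgE
  set K : Subgroup G := T ⊓ centralizer (E : Set G)
  have hPK : P ≤ K := le_inf hPT fun x hx => mem_centralizer_iff.2 fun e he => (M.centE hx he).symm.eq
  have hgK : g ∈ K := ⟨hg, mem_centralizer_iff.2 fun e he => (hgE e he).symm.eq⟩
  by_contra hgP
  have hlt : P < K := lt_of_le_not_ge hPK fun h => hgP (h hgK)
  obtain ⟨k, hk, hkP⟩ := SetLike.exists_of_lt
    (CfsgLib.Transfer.lt_inf_normalizer (hT.to_le inf_le_left) hlt)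
  set K' := K ⊓ normalizer (P : Set G)
  have hsub : ∀ x ∈ K', x ∈ transGrp u a E := fun x ⟨⟨hxT, hxE⟩, hxN⟩ =>
    ⟨hTa x hxT, fun e he => (mem_centralizer_iff.1 hxE e he).symm,
      by rw [M.uinv]; exact hfix x hxT hxN fun e he => (mem_centralizer_iff.1 hxE e he).symm⟩
  have hle := M.mod.sylow K' (hT.to_le (le_trans inf_le_left inf_le_left)) hsub
  exact hkP ((Subgroup.eq_of_le_of_card_ge (le_inf hPK le_normalizer) hle).symm ▸ hk)

/-- In a two-group the elements centralising a multi and `E` have order two. -/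
theorem sq_eq_one_of_cent (hR : Nat.card R = 2) (T : Subgroup G) (hT : IsPGroup 2 T) (hTa : ∀ g ∈ T, g • a = a)
    (hET : E ≤ T) {w : G} (hw : IsMulti Ω w) (hwT : w ∈ T) (hwE : ∀ e ∈ E, Commute w e) {n : G} (hn : n ∈ T)
    (hnw : Commute n w) (hnE : ∀ e ∈ E, Commute n e) : n * n = 1 := by
  classical
  have hw2 : w * w = 1 := by rw [← pow_two, ← hw.1, pow_orderOf_eq_one]
  have hwnE : w ∉ E := fun hE => M.not_mem_D hw (M.memE hE fun e => by
    have := hw.1
    rw [e, orderOf_one] at this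
    omega).1
  set K : Subgroup G := T ⊓ centralizer ({w} : Set G) ⊓ centralizer (E : Set G)
  have hK : Nat.card K ≤ q * 2 := hR ▸ M.card_cent_le hw (hTa w hwT) hwE K
    (hT.to_le (le_trans inf_le_left inf_le_left)) (fun g hg => hTa g hg.1.1)
    (fun g hg => mem_centralizer_singleton_iff.1 hg.1.2)
    (fun g hg e he => (mem_centralizer_iff.1 hg.2 e he).symm)
  have hmem : ∀ x ∈ T, Commute x w → (∀ e ∈ E, Commute x e) → x ∈ K := fun x hx hxw hxE =>
    ⟨⟨hx, mem_centralizer_singleton_iff.2 hxw.eq⟩, mem_centralizer_iff.2 fun e he => (hxE e he).symm.eq⟩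
  let f : Bool × E → K := fun p => ⟨(if p.1 then w else 1) * (p.2 : G), mul_mem
    (by split_ifs; exacts [hmem w hwT (Commute.refl w) hwE, one_mem _])
    (hmem _ (hET p.2.2) (hwE _ p.2.2).symm fun e he => M.commE p.2.2 he)⟩
  have hf : Function.Injective f := by
    rintro ⟨i, e⟩ ⟨j, e'⟩ h
    have h1 : (if i then w else 1) * (e : G) = (if j then w else 1) * (e' : G) := congrArg Subtype.val h
    cases i <;> cases j <;> simp at h1
    · exact Prod.ext rfl h1
    · exact absurd (by rw [show w = e * (e' : G)⁻¹ by rw [h1, mul_inv_cancel_right]]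
                       exact mul_mem e.2 (inv_mem e'.2)) hwnE
    · exact absurd (by rw [show w = e' * (e : G)⁻¹ by rw [← h1, mul_inv_cancel_right]]
                       exact mul_mem e'.2 (inv_mem e.2)) hwnE
    · exact Prod.ext rfl h1
  have hbij : Function.Bijective f := (Nat.bijective_iff_injective_and_card f).2 ⟨hf,
    le_antisymm (Nat.card_le_card_of_injective f hf) (by
      rw [Nat.card_prod, M.fr.data.card_E, Nat.card_eq_fintype_card (α := Bool), Fintype.card_bool, mul_comm 2 q]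
      exact hK)⟩
  obtain ⟨⟨i, e⟩, hie⟩ := hbij.2 ⟨n, hmem n hn hnw hnE⟩
  have h1 : n = (if i then w else 1) * (e : G) := (congrArg Subtype.val hie).symm
  rw [h1]
  cases i
  · simp [M.sqE e.2]
  · show w * (e : G) * (w * e) = 1
    calc w * (e : G) * (w * e) = w * ((e : G) * w) * e := by group
      _ = w * w * (e * e) := by rw [(hwE e e.2).symm.eq]; group
      _ = 1 := by rw [hw2, M.sqE e.2, one_mul]

/-- In a two-group at `a` what centralises `u` normalises `E`. -/
theorem norm_E_of_commute (S : Subgroup G) (hS : IsPGroup 2 S) (hSa : ∀ g ∈ S, g • a = a) (hES : E ≤ S) {g : G}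
    (hg : g ∈ S) (hgu : Commute g u) {e : G} (he : e ∈ E) : g * e * g⁻¹ ∈ E := by
  rcases eq_or_ne e 1 with rfl | he1
  · simp
  refine M.fr.data.maximal S hS hES _ (mul_mem (mul_mem hg (hES he)) (inv_mem hg)) ?_
  have := M.crit.memsC_conj (M.fr.data.mem e he he1) g
  rwa [hSa g hg, show g * u * g⁻¹ = u by rw [hgu.eq, mul_inv_cancel_right]] at this

/-- The torus of the data of `u`. -/
theorem exists_torus : ∃ τ : G, TorusOn E τ ∧ Odd (orderOf τ) ∧ Commute τ u ∧ τ • a = a ∧ τ • b = b ∧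
    ∀ g : G, Commute g u → g • a = a → (∀ e ∈ E, g * e * g⁻¹ ∈ E) → NormTorus E τ g := by
  obtain ⟨τ, hτo, hτu, hτa, hτb, hτE, hτtr, hτn⟩ := M.fr.data.torus
  exact ⟨τ, ⟨fun e he => M.sqE he, fun e he f hf => M.commE he hf, hτE, hτtr⟩, hτo, hτu, hτa, hτb,
    fun g hgu hga hgE => ⟨mem_normalizer_of_mapsTo hgE, hτn g hgu hga hgE⟩⟩

/-- A Sylow group with strongly closed `E` acting on it like its part centralising `u` centralises `E`. -/
theorem centralizes (T : Sylow 2 G) (hTa : ∀ g ∈ (T : Subgroup G), g • a = a) (hET : E ≤ T)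
    (hcl : ∀ (g : G), ∀ e ∈ E, g * e * g⁻¹ ∈ (T : Subgroup G) → g * e * g⁻¹ ∈ E)
    (hfac : ∀ g ∈ (T : Subgroup G), ∃ s ∈ (T : Subgroup G), Commute s u ∧ ∀ e ∈ E, g * e * g⁻¹ = s * e * s⁻¹) :
    ∀ g ∈ (T : Subgroup G), ∀ e ∈ E, Commute g e := by
  obtain ⟨τ, hτ, -, -, -, -, hτn⟩ := M.exists_torus
  set A : Subgroup G := (T : Subgroup G) ⊓ centralizer ({u} : Set G)
  obtain ⟨σ, hσ, hgen⟩ := hτ.cyclic_on A (T.2.to_le inf_le_left) (fun g hg => hτn g
    (mem_centralizer_singleton_iff.1 hg.2) (hTa g hg.1) fun e he =>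
      hcl g e he (mul_mem (mul_mem hg.1 (hET he)) (inv_mem hg.1))) M.two_dvd_E
  obtain ⟨d, d', hd, hd', hne, hc⟩ := M.exists_pair
  refine M.inp.centralizes_of_cyclic T E hET (fun e he => M.sqE he) (fun e he f hf => M.commE he hf) hcl hσ.1
    (fun g hg => ?_) hd hd' hne hc
  obtain ⟨s, hs, hsu, hse⟩ := hfac g hg
  obtain ⟨j, hj⟩ := hgen s ⟨hs, mem_centralizer_singleton_iff.2 hsu.eq⟩
  exact ⟨j, fun e he => (hse e he).trans (hj e he)⟩

/-- With `q ^ 3` other points the members of a two-group with `u` and `E` lie in `E`. -/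
theorem mem_E_of_member (hg4 : ∀ x ∈ mems D a, ¬ 4 ∣ orderOf (u * x)) (S : Subgroup G) (hS : IsPGroup 2 S)
    (hSa : ∀ g ∈ S, g • a = a) (hES : E ≤ S) (huS : u ∈ S) {x : G} (hx : x ∈ S) (hxD : x ∈ D) : x ∈ E := by
  haveI := Fact.mk Nat.prime_two
  refine M.fr.data.maximal S hS hES x hx ⟨hxD, hSa x hx, ?_⟩
  obtain ⟨k, hk⟩ := IsPGroup.iff_orderOf.1 hS ⟨u * x, mul_mem huS hx⟩
  rw [Subgroup.orderOf_mk] at hk
  have h4 := hg4 x ⟨hxD, hSa x hx⟩
  have hk1 : k ≤ 1 := by
    by_contra hlt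
    push Not at hlt
    exact h4 (by rw [hk]; exact pow_dvd_pow 2 hlt (m := 2))
  have hsq : u * x * (u * x) = 1 := by
    rw [← pow_two, ← orderOf_dvd_iff_pow_eq_one, hk]
    exact pow_dvd_pow 2 hk1
  show x * u = u * x
  calc x * u = u * u * x * u * (x * x) := by rw [M.usq, M.crit.sq hxD, one_mul, mul_one]
    _ = u * (u * x * (u * x)) * x := by group
    _ = u * x := by rw [hsq, mul_one]

theorem stronglyClosed (hg4 : ∀ x ∈ mems D a, ¬ 4 ∣ orderOf (u * x)) (T : Sylow 2 G)
    (hTa : ∀ g ∈ (T : Subgroup G), g • a = a) (hPT : P ≤ T) :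
    ∀ (g : G), ∀ e ∈ E, g * e * g⁻¹ ∈ (T : Subgroup G) → g * e * g⁻¹ ∈ E := by
  intro g e he hgT
  rcases eq_or_ne e 1 with rfl | he1
  · simp
  exact M.mem_E_of_member hg4 _ T.2 hTa (M.E_le_P.trans hPT) (hPT M.uP) hgT (M.crit.conj e (M.memE he he1).1 g)

/-- With `q ^ 3` other points the class `u E` is not invariant under the normaliser of `P`. -/
theorem exists_shift (hR : Nat.card R = 2) (hg4 : ∀ x ∈ mems D a, ¬ 4 ∣ orderOf (u * x)) :
    ∃ g : G, g • a = a ∧ g ∈ normalizer (P : Set G) ∧ u * (g * u * g⁻¹) ∉ E := by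
  classical
  haveI := Fact.mk Nat.prime_two
  by_contra hno
  push Not at hno
  obtain ⟨T, hPT, hTa⟩ := M.inp.exists_sylow_at P M.mod.two (fun g hg => M.fixP hg)
  have hET := M.E_le_P.trans hPT
  have hcl := M.stronglyClosed hg4 T hTa hPT
  have hC := M.cent_eq _ T.2 hTa hPT fun g hg hgN _ => hno g (hTa g hg) hgN
  have hTE : ∀ g ∈ (T : Subgroup G), ∀ e ∈ E, g * e * g⁻¹ ∈ E := fun g hg e he =>
    hcl g e he (mul_mem (mul_mem hg (hET he)) (inv_mem hg))
  have hTN : ∀ g ∈ (T : Subgroup G), g ∈ normalizer (P : Set G) := fun g hg =>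
    mem_normalizer_of_mapsTo fun x hx => hC _ (mul_mem (mul_mem hg (hPT hx)) (inv_mem hg)) fun e he => by
      have h1 : g⁻¹ * e * g ∈ E := by
        have := hTE g⁻¹ (inv_mem hg) e he
        rwa [inv_inv] at this
      have h2 := (Commute.conj_iff g).2 (M.centE hx h1)
      rwa [show g * (g⁻¹ * e * g) * g⁻¹ = e by group] at h2
  have hcent := M.centralizes T hTa hET hcl fun g hg => by
    obtain ⟨y, hy, hye⟩ := M.exists_conj_u (hno g (hTa g hg) (hTN g hg))
    rw [← M.conj_u_eq] at hye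
    refine ⟨y⁻¹ * g, mul_mem (inv_mem (hPT (M.mod.X_le hy))) hg, ?_, fun e he => ?_⟩
    · show y⁻¹ * g * u = u * (y⁻¹ * g)
      calc y⁻¹ * g * u = y⁻¹ * (g * u * g⁻¹) * g := by group
        _ = y⁻¹ * (y * u * y⁻¹) * g := by rw [hye]
        _ = u * (y⁻¹ * g) := by group
    · have h1 := hTE g hg e he
      calc g * e * g⁻¹ = y⁻¹ * (g * e * g⁻¹) * y := by
            rw [(M.centE (M.mod.X_le (inv_mem hy)) h1).eq, inv_mul_cancel_right]
        _ = _ := by group
  have hTP : (T : Subgroup G) ≤ P := fun g hg => hC g hg (hcent g hg)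
  -- transfer at `X`
  have hrel : X.relIndex (T : Subgroup G) = 2 := by
    rw [le_antisymm hTP hPT]
    have h1 := relIndex_mul_relIndex ⊥ X P bot_le M.mod.X_le
    rw [relIndex_bot_left, relIndex_bot_left, M.mod.X_card, M.cardP_two hR] at h1
    exact Nat.eq_of_mul_eq_mul_left (by have := M.q4; positivity) h1
  obtain ⟨d, d', hd, hd', hne, hc⟩ := M.exists_pair
  obtain ⟨g, hg⟩ := M.crit.exists_conj_mem (M.crit.commMul M.inp.faith) M.inp.top hd hd' hne hc T X hrel
    M.fr.multi.1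
  have hwm : IsMulti Ω (g * u * g⁻¹) := M.fr.multi.conj g
  have hgP := M.mod.X_le hg
  have hxK : ∀ y ∈ X, Commute y (g * u * g⁻¹) := fun y hy => M.mod.X_comm y hy _ hg
  have hcard := M.card_cent_le hwm (M.fixP hgP) (fun e he => M.centE hgP he) X (M.mod.two.to_le M.mod.X_le)
    (fun y hy => M.fixP (M.mod.X_le hy)) hxK (fun y hy e he => M.centE (M.mod.X_le hy) he)
  rw [M.mod.X_card, hR] at hcard
  have := M.q4
  nlinarith

end OneModel

end CfsgLib.AschCrit
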