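import Cfsg.Agent.Lib.Invol.AschCrit.EndOne.Fibre
import Cfsg.Agent.Lib.Invol.AschCrit.EndOne.Two

/-!
Owner: helper8. Aschbacher's criterion, end game of type one with `q ^ 2` other points: no four group of multis
with groups of order `q`, and the regular action of `X`.

Brauer-Wielandt gives `(q + 1) c_V ^ 2 = c` or `(q + 1) c_V ^ 2 = (√q + 1) ^ 2 c`, against the congruences
`c = 1 mod 2 q` of the fibres.
-/

set_option autoImplicit false
set_option linter.unusedSectionVars false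
set_option linter.style.haveILetI false

namespace CfsgLib.AschCrit

open Subgroup MulAction

universe u v

variable {G : Type u} [Group G] [Finite G] {Ω : Type v} [MulAction G Ω]

/-- A `2 ^ m`-th power of an odd number. -/
theorem odd_pow_two_pow {y : ℕ} (hy : Odd y) (m : ℕ) : ∃ k : ℕ, y ^ 2 ^ (m + 1) = 2 ^ (m + 3) * k + 1 := by
  induction m with
  | zero =>
    obtain ⟨j, rfl⟩ := hy
    obtain ⟨i, hi⟩ := Nat.even_mul_succ_self j
    refine ⟨i, ?_⟩
    norm_num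
    nlinarith
  | succ m ih =>
    obtain ⟨k, hk⟩ := ih
    refine ⟨2 ^ (m + 2) * k * k + k, ?_⟩
    rw [pow_succ 2 (m + 1), pow_mul, hk]
    ring

namespace OneModel

variable {D : Set G} {u : G} {a b : Ω} {E : Subgroup G} {q : ℕ} {P R X : Subgroup G} {η : G}
  (M : OneModel D u a b E q P R X η)
include M

/-- With `q ^ 2` other points all top frames have as many members at `a` as `u`. -/
theorem card_memsC_top (hn : Nat.card Ω - 1 = q ^ 2) {w : G} {F : Subgroup G} {c : Ω}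
    (ht : TopFrame D w a c F q 1) : Nat.card (memsC D w a) = Nat.card (memsC D u a) := by
  have hq4 := M.q4
  have hne : q ^ 2 ≠ q ^ 3 := by
    intro e
    have := Nat.pow_lt_pow_right (show 1 < q by omega) (show 2 < 3 by norm_num)
    omega
  obtain ⟨-, hu'⟩ := M.count.resolve_left fun h => hne (hn.symm.trans h.1)
  obtain ⟨-, hw'⟩ := (M.inp.count_one ht (hn ▸ dvd_refl _)).resolve_left fun h => hne (hn.symm.trans h.1)
  rw [hu'] at hw'
  exact (Nat.pow_left_injective (by norm_num) (Nat.eq_of_mul_eq_mul_left (by omega) hw')).symm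

/-- A conjugate of `u` at `a` has a top frame there. -/
theorem top_conj {g : G} (hga : (g * u * g⁻¹) • a = a) :
    ∃ (y : Ω) (F : Subgroup G), TopFrame D (g * u * g⁻¹) a y F q 1 := by
  obtain ⟨m, hma, hm⟩ := M.crit.fus M.usq M.fr.data.fix_a hga
  have hF : MemGroup D (g * u * g⁻¹) a (E.map (MulAut.conj m).toMonoidHom) := by
    refine ⟨?_, ?_⟩
    · rintro _ ⟨e, he, rfl⟩ hne
      have := M.crit.memsC_conj (M.fr.data.mem e he fun e1 => hne (by rw [e1]; simp)) m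
      rwa [hm, hma] at this
    · rintro _ ⟨e, he, rfl⟩ _ ⟨f, hf, rfl⟩
      exact (M.commE he hf).map (MulAut.conj m).toMonoidHom
  obtain ⟨y, hy⟩ := M.top_one (M.fr.multi.conj g) hga hF
    (by rw [card_map_of_injective (MulAut.conj m).injective, M.fr.data.card_E])
  exact ⟨y, _, hy⟩

/-- The four group count. -/
theorem four_eq (hn : Nat.card Ω - 1 = q ^ 2) {w : G} (hw : orderOf w = 2) (hwu : Commute u w) (hwa : w • a = a)
    (hwb : w • b = b) {c₁ c₂ : Ω} {F₁ F₂ : Subgroup G} (h₁ : TopFrame D w a c₁ F₁ q 1)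
    (h₂ : TopFrame D (u * w) a c₂ F₂ q 1) :
    (q + 1) * Nat.card (memsW D {u, w} a) ^ 2 = (q - 1) * Nat.card (memsC D u a) := by
  have hq4 := M.q4
  have hne : q ^ 2 ≠ q ^ 3 := by
    intro e
    have := Nat.pow_lt_pow_right (show 1 < q by omega) (show 2 < 3 by norm_num)
    omega
  obtain ⟨-, hu'⟩ := M.count.resolve_left fun h => hne (hn.symm.trans h.1)
  have h4 := M.crit.four_count M.inp.faith M.fr.data.ne M.fr.multi.1 hw hwu M.fr.data.fix_a M.fr.data.fix_b hwa hwb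
  rw [M.card_memsC_top hn h₁, M.card_memsC_top hn h₂] at h4
  have hpos : 0 < Nat.card (memsC D u a) := by
    obtain ⟨e, he, he1⟩ := M.exists_ne_one
    haveI : Nonempty (memsC D u a) := ⟨⟨e, M.fr.data.mem e he he1⟩⟩
    exact Nat.card_pos
  refine Nat.eq_of_mul_eq_mul_left (pow_pos hpos 2) ?_
  set k := Nat.card (memsC D u a)
  set k₀ := Nat.card (mems D a)
  set kV := Nat.card (memsW D {u, w} a)
  calc k ^ 2 * ((q + 1) * kV ^ 2) = (q + 1) * k ^ 2 * kV ^ 2 := by ring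
    _ = (q - 1) * (k₀ * kV ^ 2) := by rw [← hu', mul_assoc]
    _ = k ^ 2 * ((q - 1) * k) := by rw [h4]; ring

theorem fibre_u : ∃ y : ℕ, Odd y ∧ Nat.card (memsC D u a) = (q - 1) * y ^ (q / 2) := by
  obtain ⟨e, he, he1⟩ := M.exists_ne_one
  have hE : E ⊓ centralizer ({u} : Set G) = E := inf_eq_left.2 fun f hf =>
    mem_centralizer_singleton_iff.2 (M.centE M.uP hf).symm.eq
  obtain ⟨y, hy, hc⟩ := M.inp.memsW_power M.fr.multi M.fr.data {u} rfl
    (fun w hw => by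
      rw [Set.mem_singleton_iff.1 hw]
      exact ⟨M.fr.data.fix_a, fun f hf => by rw [(M.centE M.uP hf).eq, mul_inv_cancel_right]; exact hf⟩)
    M.mod.h_fix.1 (fun w hw => by rw [Set.mem_singleton_iff.1 hw]; exact M.mod.h_cent.1) M.mod.h_norm.1
    (fun e he f hf he1 hf1 _ => M.mod.h_trans e he f hf he1 hf1)
    ⟨e, he, he1, fun w hw => by rw [Set.mem_singleton_iff.1 hw]; exact (M.centE M.uP he).symm⟩
  rw [memsW_singleton, hE, M.fr.data.card_E] at hc
  exact ⟨y, hy, hc⟩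

/-- With `q ^ 2` other points `R` has order two. -/
theorem card_R_two_sq (hn : Nat.card Ω - 1 = q ^ 2) : Nat.card R = 2 := by
  classical
  by_contra hR
  obtain ⟨r, hr, hr1, hru⟩ : ∃ r ∈ R, r ≠ 1 ∧ r ≠ u := by
    by_contra hc
    push Not at hc
    refine hR ?_
    rw [Nat.card_eq_two_iff]
    refine ⟨1, ⟨u, M.mod.u_mem⟩, fun e => M.u_ne (congrArg Subtype.val e).symm, Set.eq_univ_iff_forall.2 fun w => ?_⟩
    rcases eq_or_ne (w : G) 1 with e | e
    · exact Or.inl (Subtype.ext e)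
    · exact Or.inr (Subtype.ext (hc w w.2 e))
  have hur : u * r ∈ R := mul_mem M.mod.u_mem hr
  have hur1 : u * r ≠ 1 := fun e => hru (by rw [← inv_eq_of_mul_eq_one_right e, M.uinv])
  have hcent : ∀ s ∈ R, ∀ e ∈ E, Commute s e := fun s hs e he => M.centE (M.mod.R_le hs) he
  obtain ⟨c₁, h₁⟩ := M.top_one (M.multi_R hr hr1) (M.fixR hr).1 (M.memGroup_cent (hcent r hr)) M.fr.data.card_E
  obtain ⟨c₂, h₂⟩ := M.top_one (M.multi_R hur hur1) (M.fixR hur).1 (M.memGroup_cent (hcent _ hur)) M.fr.data.card_E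
  have h4 := M.four_eq hn (M.orderOf_R hr hr1) (M.commRu hr).symm (M.fixR hr).1 (M.fixR hr).2 h₁ h₂
  obtain ⟨e, he, he1⟩ := M.exists_ne_one
  have hWR : ∀ w ∈ ({u, r} : Set G), w ∈ R := by
    rintro w (rfl | rfl)
    exacts [M.mod.u_mem, hr]
  have hE : E ⊓ centralizer ({u, r} : Set G) = E := inf_eq_left.2 fun f hf =>
    mem_centralizer_iff.2 fun w hw => (hcent w (hWR w hw) f hf).eq
  obtain ⟨z, hz, hzV⟩ := M.inp.memsW_power M.fr.multi M.fr.data {u, r} (Set.mem_insert _ _)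
    (fun w hw => ⟨(M.fixR (hWR w hw)).1, fun f hf => by
      rw [(hcent w (hWR w hw) f hf).eq, mul_inv_cancel_right]; exact hf⟩)
    M.mod.h_fix.1 (fun w hw => M.mod.h_cent.2 w (hWR w hw)) M.mod.h_norm.1
    (fun e he f hf he1 hf1 _ => M.mod.h_trans e he f hf he1 hf1)
    ⟨e, he, he1, fun w hw => (hcent w (hWR w hw) e he).symm⟩
  rw [hE, M.fr.data.card_E] at hzV
  obtain ⟨y, hy, hyu⟩ := M.fibre_u
  rw [hzV, hyu] at h4
  obtain ⟨s, hs, hqs⟩ := M.fr.data.pow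
  obtain ⟨m, rfl⟩ : ∃ m, s = m + 2 := ⟨s - 2, by omega⟩
  have hhalf : q / 2 = 2 ^ (m + 1) := by
    rw [hqs, pow_succ, Nat.mul_div_cancel _ two_pos]
  rw [hhalf] at h4
  obtain ⟨ky, hky⟩ := odd_pow_two_pow hy m
  obtain ⟨kz, hkz⟩ := odd_pow_two_pow hz m
  rw [hky, hkz] at h4
  have hq4 := M.q4
  have h5 : (q + 1) * (2 ^ (m + 3) * kz + 1) ^ 2 = 2 ^ (m + 3) * ky + 1 := by
    refine Nat.eq_of_mul_eq_mul_left (show 0 < (q - 1) * (q - 1) from Nat.mul_pos (by omega) (by omega)) ?_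
    calc (q - 1) * (q - 1) * ((q + 1) * (2 ^ (m + 3) * kz + 1) ^ 2)
        = (q + 1) * ((q - 1) * (2 ^ (m + 3) * kz + 1)) ^ 2 := by ring
      _ = _ := by rw [h4]; ring
  have h6 : (2 ^ (m + 3) : ℤ) ∣ (q : ℤ) := by
    refine ⟨(ky : ℤ) - (q + 1) * (2 ^ (m + 3) * kz ^ 2 + 2 * kz), ?_⟩
    have h7 : (((q + 1) * (2 ^ (m + 3) * kz + 1) ^ 2 : ℕ) : ℤ) = ((2 ^ (m + 3) * ky + 1 : ℕ) : ℤ) := by rw [h5]
    push_cast at h7
    linear_combination h7
  have h8 : 2 ^ (m + 3) ∣ q := by exact_mod_cast h6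
  rw [hqs] at h8
  exact absurd (Nat.pow_dvd_pow_iff_le_right (by norm_num) |>.1 h8) (by omega)

/-- With `q ^ 2` other points there is no four group of multis with groups of order `q` moving `E`. -/
theorem no_four (hn : Nat.card Ω - 1 = q ^ 2) {w : G} (hw : orderOf w = 2) (hwu : Commute u w) (hwa : w • a = a)
    (hwb : w • b = b) (hwE : ∀ e ∈ E, w * e * w⁻¹ ∈ E) (hmv : ∃ e ∈ E, w * e * w⁻¹ ≠ e)
    {c₁ c₂ : Ω} {F₁ F₂ : Subgroup G} (h₁ : TopFrame D w a c₁ F₁ q 1) (h₂ : TopFrame D (u * w) a c₂ F₂ q 1) :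
    False := by
  classical
  haveI := Fact.mk Nat.prime_two
  have hw2 : w * w = 1 := by rw [← pow_two, ← hw, pow_orderOf_eq_one]
  obtain ⟨τ, hτ, -, -, -, -, hτn⟩ := M.exists_torus
  have hhalf := hτ.half_fix (M.fr.data.pow.imp fun _ h => h.2) M.fr.data.card_E (hτn w hwu.symm hwa hwE)
    (fun e _ => by
      rw [show w * (w * e * w⁻¹) * w⁻¹ = (w * w) * e * (w * w)⁻¹ by group, hw2]; simp) hmv
  set W₀ : Subgroup G := E ⊓ centralizer ({w} : Set G)
  have hE₀ : E ⊓ centralizer ({u, w} : Set G) = W₀ := by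
    ext f
    simp only [W₀, mem_inf, mem_centralizer_iff, Set.mem_insert_iff, Set.mem_singleton_iff, forall_eq_or_imp, forall_eq]
    exact ⟨fun hf => ⟨hf.1, hf.2.2⟩, fun hf => ⟨hf.1, (M.centE M.uP hf.1).eq, hf.2⟩⟩
  obtain ⟨τ₁, -, hτ₁a, -, hτ₁u, hτ₁S, hτ₁E, hτ₁t⟩ := M.inp.tc u a b E q 1 M.fr.toTopFrame (zpowers w)
    (IsPGroup.of_card (n := 1) (by rw [Nat.card_zpowers, hw, pow_one]))
    (by
      have h1 : zpowers w ≤ (stabilizer G a ⊓ stabilizer G b ⊓ centralizer ({u} : Set G)) ⊓ normalizer (E : Set G) :=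
        zpowers_le.2 ⟨⟨⟨hwa, hwb⟩, mem_centralizer_singleton_iff.2 hwu.symm.eq⟩, mem_normalizer_of_mapsTo hwE⟩
      exact fun g hg => ⟨(h1 hg).1.1.1, (h1 hg).1.1.2, mem_centralizer_singleton_iff.1 (h1 hg).1.2,
        fun e he => (mem_normalizer_iff.1 (h1 hg).2 e).1 he⟩)
  have hW₀pos : 1 < Nat.card W₀ := by
    by_contra hle
    push Not at hle
    have := Nat.mul_le_mul hle hle
    have := M.q4
    omega
  obtain ⟨e, heW, he1⟩ := W₀.bot_or_exists_ne_one.resolve_left fun hb => by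
    rw [hb, card_bot] at hW₀pos; omega
  have hWmem : ∀ v ∈ ({u, w} : Set G), v = u ∨ v = w := fun v hv => hv
  obtain ⟨z, hz, hzV⟩ := M.inp.memsW_power M.fr.multi M.fr.data {u, w} (Set.mem_insert _ _)
    (fun v hv => by
      rcases hWmem v hv with rfl | rfl
      · exact ⟨M.fr.data.fix_a, fun f hf => by rw [(M.centE M.uP hf).eq, mul_inv_cancel_right]; exact hf⟩
      · exact ⟨hwa, hwE⟩)
    hτ₁a (fun v hv => by
      rcases hWmem v hv with rfl | rfl
      exacts [hτ₁u, hτ₁S v (mem_zpowers v)])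
    hτ₁E
    (fun e he f hf he1 hf1 hc => hτ₁t e he f hf he1 hf1 fun g hg => by
      obtain ⟨i, rfl⟩ := hg
      exact ⟨((hc w (Or.inr rfl)).1.symm.zpow_left i), ((hc w (Or.inr rfl)).2.symm.zpow_left i)⟩)
    ⟨e, heW.1, he1, fun v hv => by
      rcases hWmem v hv with rfl | rfl
      exacts [(M.centE M.uP heW.1).symm, mem_centralizer_singleton_iff.1 heW.2]⟩
  rw [hE₀] at hzV
  have h4 := M.four_eq hn hw hwu hwa hwb h₁ h₂
  obtain ⟨y, hy, hyu⟩ := M.fibre_u
  rw [hzV, hyu] at h4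
  obtain ⟨s, hs, hqs⟩ := M.fr.data.pow
  obtain ⟨m, -, hm⟩ : ∃ m ≤ s, Nat.card W₀ = 2 ^ m :=
    (Nat.dvd_prime_pow Nat.prime_two).1 (hqs ▸ ⟨_, hhalf.symm⟩)
  obtain ⟨l, rfl⟩ : ∃ l, m = l + 1 := ⟨m - 1, by
    rcases m with _ | m
    · rw [hm] at hW₀pos; simp at hW₀pos
    · omega⟩
  set r := Nat.card W₀
  have hq : q = r * r := hhalf.symm
  have hr2 : r / 2 = 2 ^ l := by rw [hm, pow_succ, Nat.mul_div_cancel _ two_pos]
  have hq2 : q / 2 = 2 ^ (l + l + 1) := by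
    rw [hq, hm, ← pow_add, show l + 1 + (l + 1) = l + l + 1 + 1 by omega, pow_succ, Nat.mul_div_cancel _ two_pos]
  rw [hr2, hq2] at h4
  obtain ⟨ky, hky⟩ := odd_pow_two_pow hy (l + l)
  obtain ⟨kz, hkz⟩ := odd_pow_two_pow hz l
  have hzz : (z ^ 2 ^ l) ^ 2 = 2 ^ (l + 3) * kz + 1 := by rw [← pow_mul, ← pow_succ, hkz]
  rw [mul_pow, hzz, hky] at h4
  obtain ⟨r', hr'⟩ : ∃ r', r = r' + 1 := ⟨r - 1, by omega⟩
  have h5 : (q + 1) * (2 ^ (l + 3) * kz + 1) = (r + 1) ^ 2 * (2 ^ (l + l + 3) * ky + 1) := by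
    have hqm : q - 1 = r' * (r + 1) := by
      rw [hq, hr', show (r' + 1) * (r' + 1) = r' * (r' + 1 + 1) + 1 by ring, Nat.add_sub_cancel]
    rw [hqm, show r - 1 = r' by omega] at h4
    refine Nat.eq_of_mul_eq_mul_left (show 0 < r' * r' from Nat.mul_pos (by omega) (by omega)) ?_
    calc r' * r' * ((q + 1) * (2 ^ (l + 3) * kz + 1)) = (q + 1) * (r' ^ 2 * (2 ^ (l + 3) * kz + 1)) := by ring
      _ = _ := by rw [h4]; ring
  -- modulo `2 ^ (l + 3)`
  have h6 : (2 ^ (l + 3) : ℤ) ∣ 2 ^ (l + 2) := by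
    refine ⟨((q : ℤ) + 1) * kz - ((r : ℤ) + 1) ^ 2 * 2 ^ l * ky, ?_⟩
    have h7 : (((q + 1) * (2 ^ (l + 3) * kz + 1) : ℕ) : ℤ) = (((r + 1) ^ 2 * (2 ^ (l + l + 3) * ky + 1) : ℕ) : ℤ) := by
      rw [h5]
    push_cast at h7
    have hqZ : (q : ℤ) = (r : ℤ) * r := by exact_mod_cast hq
    have hrZ : (r : ℤ) = 2 ^ (l + 1) := by exact_mod_cast hm
    linear_combination (-1 : ℤ) * h7 + hqZ - 2 * hrZ
  have h9 : 2 ^ (l + 3) ∣ 2 ^ (l + 2) := by exact_mod_cast h6
  exact absurd (Nat.pow_dvd_pow_iff_le_right (by norm_num) |>.1 h9) (by omega)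

/-- With `q ^ 2` other points `P` is transitive and `P_b = ⟨u⟩`. -/
theorem orbit_P (hn : Nat.card Ω - 1 = q ^ 2) :
    (∀ p : Ω, p ≠ a → ∃ g ∈ P, g • b = p) ∧ ∀ g ∈ P, g • b = b → g = 1 ∨ g = u := by
  classical
  haveI := M.crit.finite_points
  have hR := M.card_R_two_sq hn
  have hq4 := M.q4
  have hba := M.fr.data.ne.symm
  have hst := hR ▸ M.stab_le P M.mod.two (fun g hg => M.fixP hg) (fun g hg e he => M.centE hg he) hba
  have hidx := card_mul_index (stabilizer P b)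
  rw [M.cardP_two hR] at hidx
  have hle : Set.univ \ {a} ⊆ orbit P b := by
    refine (Set.eq_of_subset_of_ncard_le (show orbit P b ⊆ Set.univ \ {a} from ?_) ?_).ge
    · rintro _ ⟨g, rfl⟩
      exact ⟨Set.mem_univ _, fun e => hba (MulAction.injective (g : G) ((Set.mem_singleton_iff.1 e).trans
        (M.fixP g.2).symm))⟩
    · rw [Set.ncard_sdiff (Set.subset_univ _), Set.ncard_univ, Set.ncard_singleton, hn, ← index_stabilizer, pow_two]
      refine Nat.le_of_mul_le_mul_left ?_ two_pos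
      calc 2 * (q * q) = q * q * 2 := by ring
        _ = _ := hidx.symm
        _ ≤ _ := Nat.mul_le_mul_right _ hst
  refine ⟨fun p hp => ?_, fun g hg hgb => ?_⟩
  · obtain ⟨⟨g, hg⟩, hgp⟩ := hle (show p ∈ Set.univ \ {a} from ⟨Set.mem_univ _, hp⟩)
    exact ⟨g, hg, hgp⟩
  by_contra hne
  push Not at hne
  let u' : stabilizer P b := ⟨⟨u, M.uP⟩, M.fr.data.fix_b⟩
  let g' : stabilizer P b := ⟨⟨g, hg⟩, hgb⟩
  haveI := Fintype.ofFinite (stabilizer P b)
  have h3 : ({1, u', g'} : Finset (stabilizer P b)).card = 3 := by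
    rw [Finset.card_eq_three]
    refine ⟨1, u', g', fun e => ?_, fun e => ?_, fun e => ?_, rfl⟩
    · exact M.u_ne (congrArg (fun w : stabilizer P b => ((w : P) : G)) e).symm
    · exact hne.1 (congrArg (fun w : stabilizer P b => ((w : P) : G)) e).symm
    · exact hne.2 (congrArg (fun w : stabilizer P b => ((w : P) : G)) e).symm
  have := Finset.card_le_univ ({1, u', g'} : Finset (stabilizer P b))
  rw [h3, ← Nat.card_eq_fintype_card] at this
  omega

/-- `X` is transitive. -/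
theorem X_trans (hn : Nat.card Ω - 1 = q ^ 2) {p : Ω} (hp : p ≠ a) : ∃ x ∈ X, x • b = p := by
  obtain ⟨g, hg, rfl⟩ := (M.orbit_P hn).1 p hp
  rcases M.gen_two (M.card_R_two_sq hn) hg with h1 | h1
  · exact ⟨g, h1, rfl⟩
  refine ⟨u * (u * g) * u⁻¹, ?_, ?_⟩
  · rw [M.conj_eq_br]
    exact mul_mem (M.mod.E_X (M.br_mem M.mod.u_mem h1)) h1
  · rw [mul_smul, mul_smul, inv_smul_eq_iff.2 M.fr.data.fix_b.symm, ← mul_smul, ← mul_assoc, M.usq, one_mul]

/-- `X` is regular. -/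
theorem semiregX (hn : Nat.card Ω - 1 = q ^ 2) {x : G} (hx : x ∈ X) {p : Ω} (hp : p ≠ a) (hxp : x • p = p) :
    x = 1 := by
  obtain ⟨y, hy, rfl⟩ := M.X_trans hn hp
  have hxb : x • b = b := by
    refine MulAction.injective y ?_
    show y • x • b = y • b
    rw [← mul_smul, (M.mod.X_comm y hy x hx).eq, mul_smul, hxp]
  exact ((M.orbit_P hn).2 x (M.mod.X_le hx) hxb).resolve_right fun e => M.u_not_X (e ▸ hx)

theorem X_member (hn : Nat.card Ω - 1 = q ^ 2) {x : G} (hx : x ∈ X) (ho : orderOf x = 2) : x ∈ D := by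
  by_contra hD
  obtain ⟨-, c, d, hcd, hc, hd⟩ := M.crit.singleMem M.inp.faith x ho ⟨a, M.fixP (M.mod.X_le hx)⟩ hD
  have hx1 : x ≠ 1 := fun e => by rw [e, orderOf_one] at ho; omega
  rcases eq_or_ne c a with rfl | hca
  · exact hx1 (M.semiregX hn hx hcd.symm hd)
  · exact hx1 (M.semiregX hn hx hca hc)

/-- The multis of `P` are the class of `u`. -/
theorem multi_P (hn : Nat.card Ω - 1 = q ^ 2) {w : G} (hw : IsMulti Ω w) (hwP : w ∈ P) :
    ∃ e ∈ E, w = u * e := by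
  obtain ⟨ho, c, d, hcd, hc, hd⟩ := hw
  obtain ⟨p, hp, hwp⟩ : ∃ p, p ≠ a ∧ w • p = p := by
    rcases eq_or_ne c a with rfl | hca
    · exact ⟨d, hcd.symm, hd⟩
    · exact ⟨c, hca, hc⟩
  obtain ⟨x, hx, rfl⟩ := M.X_trans hn hp
  have hxP := M.mod.X_le hx
  have h1 := (M.orbit_P hn).2 (x⁻¹ * w * x) (mul_mem (mul_mem (inv_mem hxP) hwP) hxP)
    (by rw [mul_smul, mul_smul, hwp, inv_smul_smul])
  rcases h1 with h1 | h1
  · have hw1 : w = 1 := by
      calc w = x * (x⁻¹ * w * x) * x⁻¹ := by group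
        _ = 1 := by rw [h1]; group
    rw [hw1, orderOf_one] at ho
    omega
  · refine ⟨br u x, M.br_mem M.mod.u_mem hx, ?_⟩
    rw [← M.conj_R M.mod.u_mem, ← h1]
    group

/-- An element at `a` normalising `P` keeps the class. -/
theorem norm_class (hn : Nat.card Ω - 1 = q ^ 2) {g : G} (hg : g ∈ normalizer (P : Set G)) :
    u * (g * u * g⁻¹) ∈ E := by
  obtain ⟨e, he, hge⟩ := M.multi_P hn (M.fr.multi.conj g) ((mem_normalizer_iff.1 hg u).1 M.uP)
  rw [hge, ← mul_assoc, M.usq, one_mul]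
  exact he

/-- With `q ^ 2` other points `C_T(E) = P`. -/
theorem cent_eq_sq (hn : Nat.card Ω - 1 = q ^ 2) (T : Subgroup G) (hT : IsPGroup 2 T)
    (hTa : ∀ g ∈ T, g • a = a) (hPT : P ≤ T) : ∀ g ∈ T, (∀ e ∈ E, Commute g e) → g ∈ P := by
  intro g hg hgE
  set K : Subgroup G := T ⊓ centralizer (E : Set G)
  have hPK : P ≤ K := le_inf hPT fun x hx => mem_centralizer_iff.2 fun e he => (M.centE hx he).symm.eq
  have h1 := M.card_dvd K (hT.to_le inf_le_left) (fun g hg => hTa g hg.1)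
    (fun g hg e he => (mem_centralizer_iff.1 hg.2 e he).symm)
  rw [hn, M.card_R_two_sq hn] at h1
  have hle : Nat.card K ≤ Nat.card P := by
    rw [M.cardP_two (M.card_R_two_sq hn), ← pow_two]
    have := M.q4
    exact Nat.le_of_dvd (by positivity) h1
  rw [Subgroup.eq_of_le_of_card_ge hPK hle]
  exact ⟨hg, mem_centralizer_iff.2 fun e he => (hgE e he).symm.eq⟩

end OneModel

end CfsgLib.AschCrit
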