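import Cfsg.Agent.Lib.Invol.AschCrit.EndOne.Facts

/-!
Owner: helper8. Aschbacher's criterion, end game of type one: with `q ^ 3` other points `R` has order two.

The points fixed by conjugates of `u` in `P` are one orbit of `q ^ 2` points, those fixed by elements of `X` are
none or `q ^ 2`, and the remaining ones come in regular orbits: a parity.
-/

set_option autoImplicit false
set_option linter.unusedSectionVars false
set_option linter.style.haveILetI false

namespace CfsgLib.AschCrit

open Subgroup MulAction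

universe u v

variable {G : Type u} [Group G] [Finite G] {Ω : Type v} [MulAction G Ω]

/-- The points of an invariant set with trivial stabilisers come in regular orbits. -/
theorem card_dvd_of_free [Finite Ω] (P : Subgroup G) (S : Set Ω) (hinv : ∀ g ∈ P, ∀ x ∈ S, g • x ∈ S)
    (hfree : ∀ x ∈ S, ∀ g ∈ P, g • x = x → g = 1) : Nat.card P ∣ S.ncard := by
  classical
  let T : SubMulAction P Ω := { carrier := S, smul_mem' := fun g x hx => hinv g g.2 x hx }
  haveI : Fintype (Quotient (orbitRel P T)) := Fintype.ofFinite _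
  rw [← Nat.card_coe_set_eq, show Nat.card S = Nat.card T from rfl,
    Nat.card_congr (selfEquivSigmaOrbitsQuotientStabilizer P T), Nat.card_sigma]
  refine Finset.dvd_sum fun w _ => ?_
  have hb : stabilizer P w.out = ⊥ := (Subgroup.eq_bot_iff_forall _).2 fun g hg =>
    Subtype.ext (hfree _ w.out.2 g g.2 (congrArg Subtype.val hg))
  rw [← index_eq_card, hb, index_bot]

theorem commute_of_br {r x : G} (he : br r x = 1) : Commute r x :=
  mul_inv_eq_iff_eq_mul.1 (mul_inv_eq_one.1 he)

namespace OneModel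

variable {D : Set G} {u : G} {a b : Ω} {E : Subgroup G} {q : ℕ} {P R X : Subgroup G} {η : G}
  (M : OneModel D u a b E q P R X η)
include M

theorem br_mul_left {r s x : G} (hr : r ∈ R) (hs : s ∈ R) (hx : x ∈ X) :
    br (r * s) x = br s x * br r x := by
  have hc : Commute r (br s x) := M.centE (M.mod.R_le hr) (M.br_mem hs hx)
  calc br (r * s) x = r * br s x * r⁻¹ * br r x := by rw [br]; group
    _ = br s x * br r x := by rw [hc.eq, mul_inv_cancel_right]

theorem conj_R {r y : G} (hr : r ∈ R) : y * r * y⁻¹ = r * br r y := by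
  have hr2 := M.mod.R_sq r hr
  have hri : r⁻¹ = r := inv_eq_of_mul_eq_one_right hr2
  calc y * r * y⁻¹ = r * r * (y * r * y⁻¹) := by rw [hr2, one_mul]
    _ = _ := by rw [br, hri]; group

/-- `u e` is a conjugate of `u` by an element of `X`. -/
theorem exists_conj_u {e : G} (he : e ∈ E) : ∃ y ∈ X, y * u * y⁻¹ = u * e := by
  obtain ⟨y, hy, hye⟩ := M.mod.RX_onto u M.mod.u_mem M.u_ne e he
  exact ⟨y, hy, by rw [M.conj_R M.mod.u_mem, br, hye]⟩

theorem multi_ue {e : G} (he : e ∈ E) : IsMulti Ω (u * e) ∧ (u * e) • a = a ∧ ∀ f ∈ E, Commute (u * e) f := by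
  refine ⟨?_, M.fixP (mul_mem (M.mod.R_le M.mod.u_mem) (M.E_le_P he)),
    fun f hf => M.centE (mul_mem (M.mod.R_le M.mod.u_mem) (M.E_le_P he)) hf⟩
  obtain ⟨y, -, hy⟩ := M.exists_conj_u he
  exact hy ▸ M.fr.multi.conj y

/-- The points fixed by a conjugate of `u` in `u E`. -/
def classPts (_M : OneModel D u a b E q P R X η) : Set Ω := {p | p ≠ a ∧ ∃ e ∈ E, (u * e) • p = p}

theorem card_classPts : M.classPts.ncard = q * q := by
  classical
  haveI := M.crit.finite_points
  haveI : Fintype E := Fintype.ofFinite E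
  have hfib : ∀ e : E, Nat.card {p : Ω // (u * e) • p = p ∧ p ≠ a} = q := fun e => by
    obtain ⟨hm, ha, hc⟩ := M.multi_ue e.2
    have h1 : ({p : Ω | (u * (e : G)) • p = p} : Set Ω).ncard = q + 1 := by
      rw [← Nat.card_coe_set_eq]; exact M.fix_card hm ha hc
    have h2 : Nat.card {p : Ω // (u * (e : G)) • p = p ∧ p ≠ a} =
        ({p : Ω | (u * (e : G)) • p = p} \ {a} : Set Ω).ncard := (Nat.card_coe_set_eq _).symm ▸ rfl
    rw [h2, Set.ncard_sdiff (by simpa using ha), Set.ncard_singleton, h1, Nat.add_sub_cancel]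
  have huniq : ∀ (e f : E) (p : Ω), p ≠ a → (u * (e : G)) • p = p → (u * (f : G)) • p = p → e = f := by
    intro e f p hp he hf
    have hf' : (f : G) • p = u⁻¹ • p := by rw [eq_inv_smul_iff, ← mul_smul]; exact hf
    have he' : (e : G) • p = u⁻¹ • p := by rw [eq_inv_smul_iff, ← mul_smul]; exact he
    refine Subtype.ext (inv_mul_eq_one.1 (M.semiregE (mul_mem (inv_mem e.2) f.2) hp ?_))
    rw [mul_smul, hf', ← he', inv_smul_smul]
  let F : (Σ e : E, {p : Ω // (u * e) • p = p ∧ p ≠ a}) → M.classPts :=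
    fun x => ⟨x.2.1, x.2.2.2, x.1.1, x.1.2, x.2.2.1⟩
  have hF : Function.Bijective F := by
    refine ⟨?_, ?_⟩
    · rintro ⟨e, p, hp⟩ ⟨f, p', hp'⟩ hee
      obtain rfl : p = p' := congrArg (Subtype.val) hee
      obtain rfl := huniq e f p hp.2 hp.1 hp'.1
      rfl
    · rintro ⟨p, hp, e, he, hep⟩
      exact ⟨⟨⟨e, he⟩, p, hep, hp⟩, rfl⟩
  rw [← Nat.card_coe_set_eq, ← Nat.card_eq_of_bijective F hF, Nat.card_sigma,
    Finset.sum_congr rfl (fun e _ => hfib e), Finset.sum_const, Finset.card_univ, smul_eq_mul,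
    ← Nat.card_eq_fintype_card, M.fr.data.card_E]

/-- An element of `P` fixing another point is trivial or a multi. -/
theorem stab_P {g : G} (hg : g ∈ P) {p : Ω} (hp : p ≠ a) (hgp : g • p = p) :
    g * g = 1 ∧ (g ≠ 1 → IsMulti Ω g ∧ g • a = a ∧ ∀ e ∈ E, Commute g e) := by
  obtain ⟨r, hr, x, hx, rfl⟩ := M.gen' hg
  have hE : r * x * (r * x) ∈ E := by
    rw [M.sq_rx hr]; exact mul_mem (M.br_mem hr hx) (M.mod.X_sq x hx)
  have h1 := M.semiregE hE hp (by rw [mul_smul, hgp, hgp])
  exact ⟨h1, fun hne => ⟨⟨orderOf_eq_prime (by rw [pow_two]; exact h1) hne, p, a, hp, hgp, M.fixP hg⟩,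
    M.fixP hg, fun e he => M.centE hg he⟩⟩

/-- An element `r e` of `P` fixes only points of `classPts`. -/
theorem mem_classPts {r e : G} (hr : r ∈ R) (hr1 : r ≠ 1) (he : e ∈ E) {p : Ω} (hp : p ≠ a)
    (hfix : (r * e) • p = p) : p ∈ M.classPts := by
  obtain ⟨y, hy, hye⟩ := M.mod.RX_onto r hr hr1 e he
  have hconj : y * r * y⁻¹ = r * e := by rw [M.conj_R hr, br, hye]
  refine ⟨hp, br u y, M.br_mem M.mod.u_mem hy, ?_⟩
  have hr' : r • (y⁻¹ • p) = y⁻¹ • p := by
    rw [eq_inv_smul_iff, ← mul_smul, ← mul_smul, hconj, hfix]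
  rw [← M.conj_R M.mod.u_mem, mul_smul, mul_smul, (M.R_fix_eq hr hr1 _).1 hr', smul_inv_smul]

/-- With `q ^ 3` other points `R` has order two. -/
theorem card_R_two (hn : Nat.card Ω - 1 = q ^ 3) : Nat.card R = 2 := by
  classical
  haveI := M.crit.finite_points
  haveI := Fact.mk Nat.prime_two
  obtain ⟨k, hk⟩ : ∃ k, Nat.card R = 2 ^ k := ⟨_, M.mod.R_card⟩
  have hk1 : k ≠ 0 := fun e => M.u_ne (by
    rw [e, pow_zero] at hk
    exact (Subgroup.eq_bot_iff_forall R).1 (R.card_eq_one.1 hk) u M.mod.u_mem)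
  rcases eq_or_ne k 1 with rfl | hk2
  · simpa using hk
  exfalso
  have hR4 : 4 ≤ Nat.card R := hk ▸ le_trans (by norm_num) (Nat.pow_le_pow_right two_pos (show 2 ≤ k by omega))
  have hq4 := M.q4
  obtain ⟨x₀, hx₀, hx₀E⟩ : ∃ x ∈ X, x ∉ E := by
    by_contra hc
    push Not at hc
    have h2 := Subgroup.card_le_of_le (show X ≤ E from hc)
    rw [M.mod.X_card, M.fr.data.card_E] at h2
    nlinarith
  -- the square map on `X`
  have hsqeq : ∀ x ∈ X, ∀ j : ℕ,
      η ^ j * x * (η ^ j)⁻¹ * (η ^ j * x * (η ^ j)⁻¹) = η ^ j * (x * x) * (η ^ j)⁻¹ := fun x _ j => by group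
  have hψ := M.dichotomy (fun x => x * x) (fun x hx y hy => M.sq_mul hx hy) (fun e he => M.sqE he) hsqeq
  -- the points with trivial stabiliser
  set A : Set Ω := {p | p ≠ a ∧ p ∉ M.classPts ∧ ∀ g ∈ P, g • p = p → g = 1} with hA
  set B : Set Ω := {p | p ≠ a ∧ ∃ v ∈ X, v ∉ E ∧ v • p = p} with hB
  -- an element of `P` fixing a point outside `classPts`
  have hgen : ∀ g ∈ P, g ≠ 1 → ∀ p : Ω, p ≠ a → p ∉ M.classPts → g • p = p →
      ∃ r ∈ R, ∃ x ∈ X, g = r * x ∧ x ∉ E ∧ br r x * (x * x) = 1 := by
    intro g hg hg1 p hp hpA hgp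
    obtain ⟨r, hr, x, hx, rfl⟩ := M.gen' hg
    refine ⟨r, hr, x, hx, rfl, fun hxE => ?_, ?_⟩
    · rcases eq_or_ne r 1 with rfl | hr1
      · rw [one_mul] at hgp hg1
        exact hg1 (M.semiregE hxE hp hgp)
      · exact hpA (M.mem_classPts hr hr1 hxE hp hgp)
    · rw [← M.sq_rx hr]; exact (M.stab_P (mul_mem (M.mod.R_le hr) (M.mod.X_le hx)) hp hgp).1
  -- `classPts` is invariant
  have hcls : ∀ g ∈ P, ∀ p ∈ M.classPts, g • p ∈ M.classPts := by
    intro g hg p ⟨hp, e, he, hep⟩
    refine ⟨fun e1 => hp (MulAction.injective g (e1.trans (M.fixP hg).symm)), ?_⟩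
    obtain ⟨r, hr, x, hx, rfl⟩ := M.gen' hg
    have hce : Commute (r * x) e := M.centE hg he
    have hre : Commute r (u * br u x) :=
      (M.commRu hr).mul_right (M.centE (M.mod.R_le hr) (M.br_mem M.mod.u_mem hx))
    have key : r * x * (u * e) * (r * x)⁻¹ = u * (br u x * e) := by
      calc r * x * (u * e) * (r * x)⁻¹ = r * x * u * (e * (r * x)⁻¹) := by group
        _ = r * x * u * ((r * x)⁻¹ * e) := by rw [hce.inv_left.symm.eq]
        _ = r * (x * u * x⁻¹) * r⁻¹ * e := by group
        _ = r * (u * br u x) * r⁻¹ * e := by rw [M.conj_R M.mod.u_mem]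
        _ = u * br u x * e := by rw [hre.eq, mul_inv_cancel_right]
        _ = _ := mul_assoc _ _ _
    refine ⟨br u x * e, mul_mem (M.br_mem M.mod.u_mem hx) he, ?_⟩
    rw [← key, mul_smul, inv_smul_smul, mul_smul, hep]
  have hAdvd : Nat.card P ∣ A.ncard := by
    refine card_dvd_of_free P A (fun g hg p ⟨hp, hpc, hpf⟩ => ⟨?_, ?_, ?_⟩) (fun p hp g hg hgp => hp.2.2 g hg hgp)
    · exact fun e1 => hp (MulAction.injective g (e1.trans (M.fixP hg).symm))
    · intro hc
      have h3 := hcls _ (inv_mem hg) _ hc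
      rw [inv_smul_smul] at h3
      exact hpc h3
    · intro k hk hkp
      have h4 := hpf (g⁻¹ * k * g) (mul_mem (mul_mem (inv_mem hg) hk) hg)
        (by rw [mul_smul, mul_smul, hkp, inv_smul_smul])
      rwa [mul_assoc, inv_mul_eq_one, eq_comm, mul_eq_right] at h4
  rw [M.cardP] at hAdvd
  have htot : (Set.univ \ {a} : Set Ω).ncard = q ^ 3 := by
    rw [Set.ncard_sdiff (Set.subset_univ _), Set.ncard_univ, Set.ncard_singleton]; exact hn
  have hclsub : ∀ p ∈ M.classPts, p ≠ a := fun p hp => hp.1
  obtain ⟨m, hm⟩ := hAdvd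
  rcases hψ with hinj | hzero
  · -- no further points
    have hrest : (Set.univ \ {a} : Set Ω) = M.classPts ∪ A := by
      ext p
      refine ⟨fun hp => ?_, fun hp => ⟨Set.mem_univ p, hp.elim (hclsub p) (fun h => h.1)⟩⟩
      have hpa : p ≠ a := hp.2
      refine or_iff_not_imp_left.2 fun hpA => ⟨hpa, hpA, fun g hg hgp => ?_⟩
      by_contra hg1
      obtain ⟨r, hr, x, hx, rfl, hxE, hsq⟩ := hgen g hg hg1 p hpa hpA hgp
      have hr1 : r ≠ 1 := fun e => hxE (hinj x hx (by
        rw [e, br, one_mul, inv_one, mul_one, mul_inv_cancel, one_mul] at hsq; exact hsq))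
      -- such an `r` is unique
      have hall : ∀ r' ∈ R, ∀ x' ∈ X, x' ∉ E → br r' x' * (x' * x') = 1 →
          ∀ z ∈ X, br r' z * (z * z) = 1 := by
        intro r' hr' x' hx' hx'E hs
        refine (M.dichotomy (fun z => br r' z * (z * z)) (fun z hz w hw => ?_) (fun e he => ?_) (fun z hz j => ?_)
          ).resolve_left fun hno => hx'E (hno x' hx' hs)
        · have hc : Commute (br r' w) (z * z) := M.commE (M.br_mem hr' hw) (M.mod.X_sq z hz)
          calc br r' (z * w) * (z * w * (z * w)) = br r' z * (br r' w * (z * z)) * (w * w) := by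
                rw [M.br_mul hr' hz hw, M.sq_mul hz hw]; simp only [mul_assoc]
            _ = br r' z * (z * z) * (br r' w * (w * w)) := by rw [hc.eq]; simp only [mul_assoc]
        · show br r' e * (e * e) = 1
          rw [M.br_E hr' he, M.sqE he, one_mul]
        · show br r' (η ^ j * z * (η ^ j)⁻¹) * _ = _
          rw [M.br_eta hr', hsqeq z hz j]; group
      -- the stabiliser is `⟨g⟩`
      have hstab : ∀ k ∈ P, k • p = p → k = 1 ∨ k = r * x := by
        intro k hk hkp
        by_contra hne
        push Not at hne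
        obtain ⟨r', hr', x', hx', rfl, hx'E, hsq'⟩ := hgen k hk hne.1 p hpa hpA hkp
        have hrr : r = r' := by
          by_contra hd
          have h1 : br (r * r') x₀ = 1 := by
            rw [M.br_mul_left hr hr' hx₀]
            have ea := hall r hr x hx hxE hsq x₀ hx₀
            have eb := hall r' hr' x' hx' hx'E hsq' x₀ hx₀
            rw [mul_eq_one_iff_eq_inv] at ea eb
            rw [ea, eb, ← mul_inv_rev, M.sqE (M.mod.X_sq x₀ hx₀), inv_one]
          refine hx₀E (M.mod.RX_ker (r * r') (mul_mem hr hr') (fun e => hd ?_) x₀ hx₀ (commute_of_br h1))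
          rw [eq_inv_of_mul_eq_one_left e, inv_eq_of_mul_eq_one_right (M.mod.R_sq r' hr')]
        subst hrr
        have hmemX : (r * x)⁻¹ * (r * x') ∈ X := by
          rw [show (r * x)⁻¹ * (r * x') = x⁻¹ * x' by group]; exact mul_mem (inv_mem hx) hx'
        have hfixp : ((r * x)⁻¹ * (r * x')) • p = p := by rw [mul_smul, hkp, inv_smul_eq_iff, hgp]
        have h2 := (M.stab_P (M.mod.X_le hmemX) hpa hfixp).1
        exact hne.2 (inv_mul_eq_one.1 (M.semiregE (hinj _ hmemX h2) hpa hfixp)).symm
      obtain ⟨-, hgm⟩ := M.stab_P hg hpa hgp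
      obtain ⟨hmulti, hga, hgE⟩ := hgm hg1
      -- a large centraliser
      set K : Subgroup G := P ⊓ centralizer ({r * x} : Set G)
      have hKle : ∀ k ∈ K, k ∈ P ∧ Commute k (r * x) := fun k hk =>
        ⟨hk.1, mem_centralizer_singleton_iff.1 hk.2⟩
      have hlow : q * Nat.card R ≤ Nat.card K := by
        have hsel : ∀ r' : R, ∃ x' ∈ X, br r x' = br (r' : G) x := fun r' =>
          M.mod.RX_onto r hr hr1 _ (M.br_mem r'.2 hx)
        choose f hfX hf using hsel
        have hmem : ∀ (e : E) (r' : R), (r' : G) * f r' * e ∈ K := by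
          intro e r'
          refine mul_mem ⟨mul_mem (M.mod.R_le r'.2) (M.mod.X_le (hfX r')), mem_centralizer_singleton_iff.2 ?_⟩
            ⟨M.E_le_P e.2, mem_centralizer_singleton_iff.2 (hgE e e.2).symm.eq⟩
          have hr'i : (r' : G)⁻¹ = r' := inv_eq_of_mul_eq_one_right (M.mod.R_sq r' r'.2)
          have hri : r⁻¹ = r := inv_eq_of_mul_eq_one_right (M.mod.R_sq r hr)
          have e1 : r * x * ((r' : G) * f r') = r * r' * (br (r' : G) x * (x * f r')) := by
            calc r * x * ((r' : G) * f r') = r * ((r' : G) * r') * x * r' * f r' := by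
                  rw [M.mod.R_sq r' r'.2, mul_one]; simp only [mul_assoc]
              _ = r * r' * ((r' : G) * x * (r' : G)⁻¹ * x⁻¹ * (x * f r')) := by rw [hr'i]; group
          have e2 : (r' : G) * f r' * (r * x) = r' * r * (br r (f r') * (f r' * x)) := by
            calc (r' : G) * f r' * (r * x) = r' * (r * r) * f r' * r * x := by
                  rw [M.mod.R_sq r hr, mul_one]; simp only [mul_assoc]
              _ = r' * r * (r * f r' * r⁻¹ * (f r')⁻¹ * (f r' * x)) := by rw [hri]; group
          rw [e1, e2, hf r', (M.commR hr r'.2).eq, (M.mod.X_comm _ (hfX r') x hx).eq]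
        have hinj2 : Function.Injective (fun er : E × R => (⟨(er.2 : G) * f er.2 * er.1, hmem er.1 er.2⟩ : K)) := by
          rintro ⟨e, r₁⟩ ⟨e', r₂⟩ hee
          have h5 := congrArg Subtype.val hee
          simp only [mul_assoc] at h5
          obtain ⟨h6, h7⟩ := M.decomp_unique r₁.2 r₂.2 (mul_mem (hfX r₁) (M.mod.E_X e.2))
            (mul_mem (hfX r₂) (M.mod.E_X e'.2)) h5
          obtain rfl := Subtype.ext h6
          exact Prod.ext (Subtype.ext (mul_left_cancel h7)) rfl
        have := Nat.card_le_card_of_injective _ hinj2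
        rwa [Nat.card_prod, M.fr.data.card_E] at this
      have hup : Nat.card K ≤ q * 2 := by
        have hfix : ({y : Ω | (r * x) • y = y} : Set Ω).ncard = q + 1 := by
          rw [← Nat.card_coe_set_eq]; exact M.fix_card hmulti hga hgE
        have horb : orbit K p ⊆ {y : Ω | (r * x) • y = y} \ {a} := by
          rintro _ ⟨k, rfl⟩
          refine ⟨?_, fun e => hpa (MulAction.injective (k : G) ((Set.mem_singleton_iff.1 e).trans
            (M.fixP (hKle k k.2).1).symm))⟩
          show (r * x) • (k : G) • p = (k : G) • p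
          rw [← mul_smul, ← (hKle k k.2).2.eq, mul_smul, hgp]
        have hidx : (stabilizer K p).index ≤ q := by
          rw [index_stabilizer]
          refine (Set.ncard_le_ncard horb).trans ?_
          rw [Set.ncard_sdiff (by simpa using hga), Set.ncard_singleton, hfix, Nat.add_sub_cancel]
        have hst : Nat.card (stabilizer K p) ≤ 2 := by
          let φ : stabilizer K p → Bool := fun k => decide ((((k : K)) : G) = 1)
          have hφ : Function.Injective φ := by
            intro k₁ k₂ e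
            simp only [φ, decide_eq_decide] at e
            refine Subtype.ext (Subtype.ext ?_)
            rcases hstab _ (hKle _ (k₁ : K).2).1 k₁.2 with a1 | a1 <;>
              rcases hstab _ (hKle _ (k₂ : K).2).1 k₂.2 with a2 | a2 <;> simp_all
          exact (Nat.card_le_card_of_injective φ hφ).trans_eq (by simp)
        rw [← card_mul_index (stabilizer K p), mul_comm]
        exact Nat.mul_le_mul hidx hst
      have h10 : q * 4 ≤ q * Nat.card R := Nat.mul_le_mul_left q hR4
      omega
    have hdisj : Disjoint M.classPts A := Set.disjoint_left.2 fun p hp hpA => hpA.2.1 hp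
    rw [hrest, Set.ncard_union_eq hdisj, M.card_classPts, hm] at htot
    have h1 : q * q * (1 + Nat.card R * m) = q * q * q := by
      rw [show q * q * q = q ^ 3 by ring, ← htot]; ring
    have h2 := Nat.eq_of_mul_eq_mul_left (by positivity) h1
    obtain ⟨s, hs, rfl⟩ := M.fr.data.pow
    obtain ⟨k', rfl⟩ : ∃ k', k = k' + 1 := ⟨k - 1, by omega⟩
    obtain ⟨s', rfl⟩ : ∃ s', s = s' + 1 := ⟨s - 1, by omega⟩
    rw [hk, pow_succ, pow_succ, mul_comm (2 ^ k') 2, mul_assoc 2] at h2
    omega
  · -- `X` gives `q ^ 2` further points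
    have hinX : ∀ p : Ω, p ≠ a → ∀ v ∈ X, v ∉ E → v • p = p → ∀ g ∈ P, g • p = p → g ∈ X := by
      intro p hp v hv hvE hvp g hg hgp
      obtain ⟨r, hr, x, hx, rfl⟩ := M.gen' hg
      rcases eq_or_ne r 1 with rfl | hr1
      · rwa [one_mul]
      exfalso
      have hgv : (r * x * v) • p = p := by rw [mul_smul, hvp, hgp]
      have h1 := (M.stab_P (mul_mem hg (M.mod.X_le hv)) hp hgv).1
      have h2 := (M.stab_P hg hp hgp).1
      rw [mul_assoc r x v, M.sq_rx hr, hzero _ (mul_mem hx hv), mul_one, M.br_mul hr hx hv] at h1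
      rw [M.sq_rx hr, hzero x hx, mul_one] at h2
      rw [h2, one_mul] at h1
      exact hvE (M.mod.RX_ker r hr hr1 v hv (commute_of_br h1))
    have hrest : (Set.univ \ {a} : Set Ω) = M.classPts ∪ B ∪ A := by
      ext p
      refine ⟨fun hp => ?_, fun hp => ⟨Set.mem_univ p, ?_⟩⟩
      · have hpa : p ≠ a := hp.2
        refine or_iff_not_imp_left.2 fun hpAB => ?_
        rw [Set.mem_union, not_or] at hpAB
        refine ⟨hpa, hpAB.1, fun g hg hgp => ?_⟩
        by_contra hg1
        obtain ⟨r, hr, x, hx, rfl, hxE, hsq⟩ := hgen g hg hg1 p hpa hpAB.1 hgp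
        rw [hzero x hx, mul_one] at hsq
        have hr1 : r = 1 := by
          by_contra hr1
          exact hxE (M.mod.RX_ker r hr hr1 x hx (commute_of_br hsq))
        exact hpAB.2 ⟨hpa, x, hx, hxE, by rwa [hr1, one_mul] at hgp⟩
      · rcases hp with (hp | hp) | hp
        exacts [hp.1, hp.1, hp.1]
    have hd1 : Disjoint M.classPts B := Set.disjoint_left.2 fun p ⟨hp, e, he, hep⟩ ⟨_, v, hv, hvE, hvp⟩ =>
      M.u_ne (M.R_inf_X M.mod.u_mem (by
        have h1 := hinX p hp v hv hvE hvp _ (mul_mem (M.mod.R_le M.mod.u_mem) (M.E_le_P he)) hep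
        simpa using mul_mem h1 (inv_mem (M.mod.E_X he))))
    have hd2 : Disjoint (M.classPts ∪ B) A := Set.disjoint_left.2 fun p hp hpA => hp.elim hpA.2.1
      fun ⟨_, v, hv, hvE, hvp⟩ => hvE (hpA.2.2 v (M.mod.X_le hv) hvp ▸ one_mem E)
    -- the incidences
    set W : Set G := {v | v ∈ X ∧ v ∉ E} with hW
    have hmultiW : ∀ v ∈ W, ∀ p : Ω, p ≠ a → v • p = p → IsMulti Ω v ∧ v • a = a ∧ ∀ e ∈ E, Commute v e :=
      fun v hv p hp hvp => (M.stab_P (M.mod.X_le hv.1) hp hvp).2 (fun e => hv.2 (e ▸ one_mem E))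
    have hstabB : ∀ p ∈ B, Nat.card (stabilizer X p) = q ∧ q ≤ Nat.card R := by
      rintro p ⟨hp, v, hv, hvE, hvp⟩
      obtain ⟨hm', hva, hvc⟩ := hmultiW v ⟨hv, hvE⟩ p hp hvp
      have hfix : ({y : Ω | v • y = y} : Set Ω).ncard = q + 1 := by
        rw [← Nat.card_coe_set_eq]; exact M.fix_card hm' hva hvc
      have horb : orbit X p ⊆ {y : Ω | v • y = y} \ {a} := by
        rintro _ ⟨k, rfl⟩
        refine ⟨?_, fun e => hp (MulAction.injective (k : G) ((Set.mem_singleton_iff.1 e).trans
          (M.fixP (M.mod.X_le k.2)).symm))⟩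
        show v • (k : G) • p = (k : G) • p
        rw [← mul_smul, (M.mod.X_comm v hv k k.2).eq, mul_smul, hvp]
      have hidx : (stabilizer X p).index ≤ q := by
        rw [index_stabilizer]
        refine (Set.ncard_le_ncard horb).trans ?_
        rw [Set.ncard_sdiff (by simpa using hva), Set.ncard_singleton, hfix, Nat.add_sub_cancel]
      have h1 := card_mul_index (stabilizer X p)
      rw [M.mod.X_card] at h1
      have h2 : Nat.card (stabilizer X p) ≤ Nat.card R :=
        M.stab_le X (M.mod.two.to_le M.mod.X_le) (fun g hg => M.fixP (M.mod.X_le hg))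
          (fun g hg e he => M.centE (M.mod.X_le hg) he) hp
      have h3 : Nat.card (stabilizer X p) ≤ q := by
        let St : Subgroup G := (stabilizer X p).map X.subtype
        have hc : Nat.card St = Nat.card (stabilizer X p) := card_map_of_injective X.subtype_injective
        have hmk : ∀ (s : St) (e : E), (s : G) * e ∈ X := fun s e =>
          mul_mem (map_subtype_le _ s.2) (M.mod.E_X e.2)
        have hinj2 : Function.Injective (fun se : St × E => (⟨(se.1 : G) * se.2, hmk se.1 se.2⟩ : X)) := by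
          rintro ⟨s, e⟩ ⟨s', e'⟩ hh
          have h5 : (s : G) * e = s' * e' := congrArg Subtype.val hh
          have h6 : (s' : G)⁻¹ * s = e' * (e : G)⁻¹ := by
            rw [eq_mul_inv_iff_mul_eq, mul_assoc, h5, inv_mul_cancel_left]
          obtain ⟨⟨t, ht⟩, hst, hte⟩ := s.2
          obtain ⟨⟨t', ht'⟩, hst', hte'⟩ := s'.2
          have hsp : (s : G) • p = p := hte ▸ hst
          have hsp' : (s' : G) • p = p := hte' ▸ hst'
          have h7 := M.semiregE (mul_mem e'.2 (inv_mem e.2)) hp
            (by rw [← h6, mul_smul, hsp, inv_smul_eq_iff, hsp'])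
          have h8 : (e' : G) = e := mul_inv_eq_one.1 h7
          have h9 : (s : G) = s' := mul_right_cancel (h5.trans (by rw [h8]))
          exact Prod.ext (Subtype.ext h9) (Subtype.ext h8.symm)
        have h4 := Nat.card_le_card_of_injective _ hinj2
        rw [Nat.card_prod, hc, M.fr.data.card_E, M.mod.X_card] at h4
        exact Nat.le_of_mul_le_mul_right h4 (by omega)
      have h4 : q ≤ Nat.card (stabilizer X p) := by
        by_contra hlt
        push Not at hlt
        have := Nat.mul_le_mul_left (Nat.card (stabilizer X p)) hidx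
        nlinarith
      exact ⟨le_antisymm h3 h4, le_trans h4 h2⟩
    have hBne : B.Nonempty → B.ncard = q * q := by
      intro hne
      haveI : Fintype B := Fintype.ofFinite _
      haveI : Fintype W := Fintype.ofFinite _
      let L := {pv : Ω × G // pv.1 ∈ B ∧ pv.2 ∈ W ∧ pv.2 • pv.1 = pv.1}
      have e1 : Nat.card L = B.ncard * (q - 1) := by
        let e : L ≃ Σ p : B, {v : G // v ∈ W ∧ v • (p : Ω) = p} :=
          { toFun := fun x => ⟨⟨x.1.1, x.2.1⟩, x.1.2, x.2.2⟩
            invFun := fun y => ⟨(y.1.1, y.2.1), y.1.2, y.2.2⟩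
            left_inv := fun x => rfl
            right_inv := fun y => rfl }
        have hfib : ∀ p : B, Nat.card {v : G // v ∈ W ∧ v • (p : Ω) = p} = q - 1 := fun p => by
          have h1 : {v : G // v ∈ W ∧ v • (p : Ω) = p} ≃ {k : stabilizer X (p : Ω) // k ≠ 1} :=
            { toFun := fun v => ⟨⟨⟨v.1, v.2.1.1⟩, v.2.2⟩, fun e =>
                v.2.1.2 ((congrArg (fun k : stabilizer X (p : Ω) => ((k : X) : G)) e) ▸ one_mem E)⟩
              invFun := fun k => ⟨(k.1.1 : G), ⟨k.1.1.2, fun hkE => k.2 (Subtype.ext (Subtype.ext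
                (M.semiregE hkE p.2.1 k.1.2)))⟩, k.1.2⟩
              left_inv := fun v => rfl
              right_inv := fun k => rfl }
          have h2 := Nat.card_congr (Equiv.optionSubtypeNe (1 : stabilizer X (p : Ω)))
          rw [Finite.card_option, (hstabB p p.2).1, ← Nat.card_congr h1] at h2
          omega
        rw [Nat.card_congr e, Nat.card_sigma, Finset.sum_congr rfl (fun p _ => hfib p), Finset.sum_const,
          Finset.card_univ, smul_eq_mul, ← Nat.card_eq_fintype_card, Nat.card_coe_set_eq]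
      obtain ⟨p₀, hp₀⟩ := hne
      obtain ⟨hp₀a, v₀, hv₀, hv₀E, hv₀p⟩ := id hp₀
      have e2 : Nat.card L = W.ncard * q := by
        let e : L ≃ Σ v : W, {p : Ω // (v : G) • p = p ∧ p ≠ a} :=
          { toFun := fun x => ⟨⟨x.1.2, x.2.2.1⟩, x.1.1, x.2.2.2, x.2.1.1⟩
            invFun := fun y => ⟨(y.2.1, y.1.1), ⟨y.2.2.2, y.1.1, y.1.2.1, y.1.2.2, y.2.2.1⟩, y.1.2, y.2.2.1⟩
            left_inv := fun x => rfl
            right_inv := fun y => rfl }
        have hfib : ∀ v : W, Nat.card {p : Ω // (v : G) • p = p ∧ p ≠ a} = q := fun v => by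
          -- every element of `X` outside `E` is a multi, being an involution outside `D`
          have hva : (v : G) • a = a := M.fixP (M.mod.X_le v.2.1)
          have hvc : ∀ e ∈ E, Commute (v : G) e := fun e he => M.centE (M.mod.X_le v.2.1) he
          have ho : orderOf (v : G) = 2 := orderOf_eq_prime (by rw [pow_two]; exact hzero v v.2.1)
            (fun e => v.2.2 (e ▸ one_mem E))
          have hvm : IsMulti Ω (v : G) := by
            refine M.crit.singleMem M.inp.faith _ ho ⟨a, hva⟩ fun hD => v.2.2 ?_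
            exact M.fr.data.maximal P M.mod.two M.E_le_P _ (M.mod.X_le v.2.1) ⟨hD, hva, by
              by_contra hcu
              -- a member of `P` commutes with `u`
              exact (M.count.resolve_right fun hc => by
                have := Nat.pow_lt_pow_right (show 1 < q by omega) (show 2 < 3 by norm_num)
                omega).2 v ⟨hD, hva⟩ (by
                  have hv2 : (v : G) * v = 1 := hzero v v.2.1
                  have hsq : u * v * (u * v) = br u v := by rw [M.sq_rx M.mod.u_mem, hv2, mul_one]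
                  have hb1 : br u v ≠ 1 := fun e => hcu (commute_of_br e).symm
                  have : orderOf (u * v) = 2 ^ (1 + 1) := orderOf_eq_prime_pow (p := 2) (by
                      rw [pow_one, pow_two, hsq]; exact hb1)
                    (by
                      rw [show (2 : ℕ) ^ (1 + 1) = 2 * 2 by norm_num, pow_mul, pow_two (u * v), hsq, pow_two]
                      exact M.sqE (M.br_mem M.mod.u_mem v.2.1))
                  rw [this]; norm_num)⟩
          have h1 : ({p : Ω | (v : G) • p = p} : Set Ω).ncard = q + 1 := by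
            rw [← Nat.card_coe_set_eq]; exact M.fix_card hvm hva hvc
          have h2 : Nat.card {p : Ω // (v : G) • p = p ∧ p ≠ a} =
              ({p : Ω | (v : G) • p = p} \ {a} : Set Ω).ncard := (Nat.card_coe_set_eq _).symm ▸ rfl
          rw [h2, Set.ncard_sdiff (by simpa using hva), Set.ncard_singleton, h1, Nat.add_sub_cancel]
        rw [Nat.card_congr e, Nat.card_sigma, Finset.sum_congr rfl (fun v _ => hfib v), Finset.sum_const,
          Finset.card_univ, smul_eq_mul, ← Nat.card_eq_fintype_card, Nat.card_coe_set_eq]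
      have e3 : W.ncard = q * q - q := by
        have hsub : (E : Set G) ⊆ X := M.mod.E_X
        rw [show W = (X : Set G) \ E from rfl, Set.ncard_sdiff hsub, ← Nat.card_coe_set_eq,
          ← Nat.card_coe_set_eq]
        show Nat.card X - Nat.card E = _
        rw [M.mod.X_card, M.fr.data.card_E]
      rw [e1, e3] at e2
      have hfac : q * q - q = q * (q - 1) := by rw [Nat.mul_sub_one]
      refine Nat.eq_of_mul_eq_mul_right (show 0 < q - 1 by omega) ?_
      rw [e2, hfac]; ring
    rw [hrest, Set.ncard_union_eq hd2, Set.ncard_union_eq hd1, M.card_classPts, hm] at htot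
    rcases B.eq_empty_or_nonempty with hBe | hBe
    · rw [hBe, Set.ncard_empty] at htot
      have h1 : q * q * (1 + Nat.card R * m) = q * q * q := by
        rw [show q * q * q = q ^ 3 by ring, ← htot]; ring
      have h2 := Nat.eq_of_mul_eq_mul_left (by positivity) h1
      obtain ⟨s, hs, rfl⟩ := M.fr.data.pow
      obtain ⟨k', rfl⟩ : ∃ k', k = k' + 1 := ⟨k - 1, by omega⟩
      obtain ⟨s', rfl⟩ : ∃ s', s = s' + 1 := ⟨s - 1, by omega⟩
      rw [hk, pow_succ, pow_succ, mul_comm (2 ^ k') 2, mul_assoc 2] at h2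
      omega
    · rw [hBne hBe] at htot
      obtain ⟨p, hp⟩ := hBe
      have hRq := (hstabB p hp).2
      have h1 : q * q * (2 + Nat.card R * m) = q * q * q := by
        rw [show q * q * q = q ^ 3 by ring, ← htot]; ring
      have h2 := Nat.eq_of_mul_eq_mul_left (by positivity) h1
      rcases m.eq_zero_or_pos with rfl | hm0
      · omega
      · have h3 := Nat.le_mul_of_pos_right (Nat.card R) hm0
        omega

end OneModel

end CfsgLib.AschCrit
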