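import Cfsg.Agent.Lib.Invol.AschCrit.EndOne.Normal

/-!
Owner: helper8. Aschbacher's criterion, end game of type one with `q ^ 2` other points: the transfer.

A Sylow group is `X T_b` with `T_b` abelian and cyclic modulo `⟨u⟩`: cyclic is excluded by the extremal transfer,
`⟨u⟩ × ⟨σ⟩` by Thompson transfer, as `σ` is then an involution conjugate to `u` and `⟨u, σ⟩` a forbidden four group.
-/

set_option autoImplicit false
set_option linter.unusedSectionVars false
set_option linter.style.haveILetI false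

namespace CfsgLib.AschCrit

open Subgroup MulAction

universe u v

variable {G : Type u} [Group G] [Finite G] {Ω : Type v} [MulAction G Ω]

namespace OneModel

variable {D : Set G} {u : G} {a b : Ω} {E : Subgroup G} {q : ℕ} {P R X : Subgroup G} {η : G}
  (M : OneModel D u a b E q P R X η)
include M

/-- A conjugate of `u` does not lie in `X`. -/
theorem conj_not_X (hn : Nat.card Ω - 1 = q ^ 2) {g : G} : g * u * g⁻¹ ∉ X := by
  intro hX
  obtain ⟨ho, c, d, hcd, hc, hd⟩ := M.fr.multi.conj g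
  have h1 : g * u * g⁻¹ = 1 := by
    rcases eq_or_ne c a with rfl | hca
    · exact M.semiregX hn hX hcd.symm hd
    · exact M.semiregX hn hX hca hc
  rw [h1, orderOf_one] at ho
  omega

set_option maxHeartbeats 1000000 in
/-- With `q ^ 2` other points there is no model of type one. -/
theorem case_square (hn : Nat.card Ω - 1 = q ^ 2) : False := by
  classical
  haveI := Fact.mk Nat.prime_two
  haveI := M.crit.finite_points
  have hR := M.card_R_two_sq hn
  have hq4 := M.q4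
  have hba := M.fr.data.ne.symm
  obtain ⟨T, hPT, hTa⟩ := M.inp.exists_sylow_at P M.mod.two (fun g hg => M.fixP hg)
  have hTN := M.sylow_normalises hn T hTa hPT
  have hC := M.cent_eq_sq hn _ T.2 hTa hPT
  set S : Subgroup G := (T : Subgroup G) ⊓ stabilizer G b
  have hXT : ∀ x ∈ X, x ∈ (T : Subgroup G) := fun x hx => hPT (M.mod.X_le hx)
  -- the projection to `T_b`
  have hsel : ∀ g : (T : Subgroup G), ∃ s : S, (g : G) * (s : G)⁻¹ ∈ X := by
    rintro ⟨g, hg⟩
    obtain ⟨x, hx, hb, -, -⟩ := M.decomp hn (hTa g hg) (hTN g hg)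
    refine ⟨⟨x⁻¹ * g, Subgroup.mem_inf.2 ⟨mul_mem (inv_mem (hXT x hx)) hg, hb⟩⟩, ?_⟩
    show g * (x⁻¹ * g)⁻¹ ∈ X
    rwa [mul_inv_rev, inv_inv, mul_inv_cancel_left]
  have huniq : ∀ (g : G) (s s' : S), g * (s : G)⁻¹ ∈ X → g * (s' : G)⁻¹ ∈ X → s = s' := by
    intro g s s' h1 h2
    have hd : (s' : G) * (s : G)⁻¹ ∈ X := by
      have := mul_mem (inv_mem h2) h1
      rwa [show (g * (s' : G)⁻¹)⁻¹ * (g * (s : G)⁻¹) = s' * (s : G)⁻¹ by group] at this
    have hfix : ((s' : G) * (s : G)⁻¹) • b = b := by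
      rw [mul_smul, inv_smul_eq_iff.2 (show b = (s : G) • b from s.2.2.symm)]
      exact s'.2.2
    exact (Subtype.ext (mul_inv_eq_one.1 (M.semiregX hn hd hba hfix))).symm
  choose π₀ hπ₀ using hsel
  let π : (T : Subgroup G) →* S := MonoidHom.mk' π₀ fun g k => huniq ((g : G) * k) _ _ (hπ₀ (g * k)) (by
    have h1 := M.norm_X hR (hTN g g.2) (hπ₀ k)
    have := mul_mem h1 (hπ₀ g)
    rwa [show (g : G) * ((k : G) * ((π₀ k : S) : G)⁻¹) * (g : G)⁻¹ * ((g : G) * ((π₀ g : S) : G)⁻¹) =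
      (g : G) * k * ((π₀ g * π₀ k : S) : G)⁻¹ by push_cast; group] at this)
  have hπS : ∀ (s : G) (hs : s ∈ S), π ⟨s, hs.1⟩ = ⟨s, hs⟩ := fun s hs =>
    huniq s _ _ (hπ₀ ⟨s, hs.1⟩) (by rw [mul_inv_cancel]; exact one_mem X)
  have hπX : ∀ (x : G) (hx : x ∈ X), π ⟨x, hXT x hx⟩ = 1 := fun x hx =>
    huniq x _ _ (hπ₀ ⟨x, hXT x hx⟩) (by simpa using hx)
  have hπker : ∀ g : (T : Subgroup G), π g = 1 → (g : G) ∈ X := fun g hg => by
    have h1 := hπ₀ g
    rw [show π₀ g = 1 from hg] at h1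
    simpa using h1
  have hπs : Function.Surjective π := fun s => ⟨⟨s, s.2.1⟩, hπS s s.2⟩
  let sub : Subgroup S → Subgroup G := fun A => (A.comap π).map (T : Subgroup G).subtype
  have hsubI : ∀ A : Subgroup S, A.index = 2 → (sub A).relIndex (T : Subgroup G) = 2 := fun A hA => by
    rw [relIndex, subgroupOf, comap_map_eq_self_of_injective (T : Subgroup G).subtype_injective,
      index_comap_of_surjective _ hπs, hA]
  have hsubM : ∀ (A : Subgroup S) (g : G), g ∈ sub A → ∃ hg : g ∈ (T : Subgroup G), π ⟨g, hg⟩ ∈ A := by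
    rintro A _ ⟨⟨g, hg⟩, hgA, rfl⟩
    exact ⟨hg, hgA⟩
  -- the structure of `T_b`
  have hSu : ∀ s ∈ S, Commute s u := by
    intro s hs
    obtain ⟨x, hx, hb, hu, -⟩ := M.decomp hn (hTa s hs.1) (hTN s hs.1)
    have hx1 : x = 1 := M.semiregX hn hx hba (by
      have h1 : x⁻¹ • (s • b) = b := by rw [← mul_smul]; exact hb
      rw [hs.2, inv_smul_eq_iff] at h1
      exact h1.symm)
    rwa [hx1, inv_one, one_mul] at hu
  obtain ⟨τ, hτ, -, -, -, -, hτn⟩ := M.exists_torus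
  obtain ⟨σ, hσ, hgen⟩ := hτ.cyclic_on S (T.2.to_le inf_le_left)
    (fun s hs => hτn s (hSu s hs) (hTa s hs.1) fun e he => M.norm_E hR (hTN s hs.1) he) M.two_dvd_E
  let u' : S := ⟨u, hPT M.uP, M.fr.data.fix_b⟩
  let σ' : S := ⟨σ, hσ⟩
  have hu'u : u' * u' = 1 := Subtype.ext M.usq
  have hu'1 : u' ≠ 1 := fun e => M.u_ne (congrArg Subtype.val e)
  have hkerS : ∀ s : S, (∀ e ∈ E, (s : G) * e * (s : G)⁻¹ = e) → s = 1 ∨ s = u' := fun s hs =>
    ((M.orbit_P hn).2 s (hC s s.2.1 fun e he => mul_inv_eq_iff_eq_mul.1 (hs e he)) s.2.2).imp Subtype.ext Subtype.ext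
  have hform : ∀ s : S, ∃ j : ℕ, s = σ' ^ j ∨ s = σ' ^ j * u' := by
    intro s
    obtain ⟨j, hj⟩ := hgen s s.2
    refine ⟨j, ((hkerS ((σ' ^ j)⁻¹ * s) fun e he => ?_)).imp (fun h1 => ?_) (fun h1 => ?_)⟩
    · push_cast
      calc (σ ^ j)⁻¹ * (s : G) * e * ((σ ^ j)⁻¹ * (s : G))⁻¹ = (σ ^ j)⁻¹ * ((s : G) * e * (s : G)⁻¹) * σ ^ j := by group
        _ = e := by rw [hj e he]; group
    · exact (inv_mul_eq_one.1 h1).symm
    · rw [← h1, mul_inv_cancel_left]
  have hS2 : IsPGroup 2 S := T.2.to_le inf_le_left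
  obtain ⟨kσ, hkσ⟩ := IsPGroup.iff_orderOf.1 hS2 σ'
  obtain ⟨d, d', hd, hd', hne, hdd⟩ := M.exists_pair
  by_cases hcyc : u' ∈ zpowers σ'
  · -- `T_b` is cyclic
    have hall : ∀ s : S, ∃ j : ℕ, s = σ' ^ j := fun s => by
      obtain ⟨i, hi⟩ := mem_powers_iff_mem_zpowers.2 hcyc
      obtain ⟨j, h1 | h1⟩ := hform s
      · exact ⟨j, h1⟩
      · exact ⟨j + i, by rw [h1, pow_add]; exact congrArg _ hi.symm⟩
    obtain ⟨k, rfl⟩ : ∃ k, kσ = k + 1 := by
      rcases kσ with _ | k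
      · rw [pow_zero, orderOf_eq_one_iff] at hkσ
        rw [hkσ, zpowers_one_eq_bot, mem_bot] at hcyc
        exact absurd hcyc hu'1
      · exact ⟨k, rfl⟩
    have hσu : σ' ^ 2 ^ k = u' := by
      obtain ⟨i, hi⟩ := hall u'
      have h1 : (σ' ^ 2 ^ k) ^ 2 = 1 := by rw [← pow_mul, ← pow_succ, ← hkσ, pow_orderOf_eq_one]
      rw [hi]
      exact pow_eq_of_sq σ' h1 (by rw [← hi, pow_two]; exact hu'u)
        (pow_ne_one_of_lt_orderOf (pow_ne_zero _ two_ne_zero) (by rw [hkσ]; exact Nat.pow_lt_pow_right one_lt_two (by omega)))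
        (by rw [← hi]; exact hu'1)
    set A : Subgroup S := zpowers (σ' * σ')
    have hσA : ∀ j : ℕ, σ' ^ j ∈ A ↔ Even j := by
      refine fun j => ⟨fun hj => ?_, fun ⟨i, hi⟩ => ⟨i, ?_⟩⟩
      · obtain ⟨i, hi⟩ := mem_powers_iff_mem_zpowers.2 hj
        have hi' : σ' ^ (i + i) = σ' ^ j := by rw [← hi]; show _ = (σ' * σ') ^ i; rw [(Commute.refl σ').mul_pow, pow_add]
        have h2 := pow_eq_pow_iff_modEq.1 hi'
        rw [hkσ] at h2
        have h3 : (i + i) % 2 = j % 2 := Nat.ModEq.of_dvd (dvd_pow_self 2 (by omega)) h2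
        exact Nat.even_iff.2 (by omega)
      · show (σ' * σ') ^ (i : ℤ) = σ' ^ j
        rw [zpow_natCast, hi, pow_add, (Commute.refl σ').mul_pow]
    have hA : A.index = 2 := by
      refine index_eq_two_iff.2 ⟨σ', fun s => ?_⟩
      obtain ⟨j, rfl⟩ := hall s
      rw [← pow_succ, hσA, hσA, Nat.even_add_one]
      by_cases hj : Even j <;> simp [hj]
    obtain ⟨N, hN, hNi⟩ := M.inp.xt G T (sub A) (map_subtype_le _) (hsubI A hA) σ hσ.1
      (fun r g hr hgT => by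
        refine ⟨⟨g * σ ^ r * g⁻¹, hgT⟩, ?_, rfl⟩
        show π ⟨g * σ ^ r * g⁻¹, hgT⟩ ∈ A
        obtain ⟨j, hj⟩ := hall (π ⟨g * σ ^ r * g⁻¹, hgT⟩)
        rw [hj, hσA]
        by_contra hodd
        have h1 : orderOf (σ' ^ j) = 2 ^ (k + 1) := by
          rw [Nat.Coprime.orderOf_pow, hkσ]
          rw [hkσ]
          exact Nat.Coprime.pow_left _ ((Nat.Prime.coprime_iff_not_dvd Nat.prime_two).2
            (fun h2 => hodd (even_iff_two_dvd.2 h2)))
        have h2 := orderOf_map_dvd π (⟨g * σ ^ r * g⁻¹, hgT⟩ : (T : Subgroup G))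
        rw [hj, h1, Subgroup.orderOf_mk, CfsgLib.Signalizer.orderOf_conj] at h2
        have h3 : orderOf (σ ^ r) ∣ 2 ^ k := by
          obtain ⟨r', rfl⟩ := hr
          refine orderOf_dvd_of_pow_eq_one ?_
          rw [← pow_mul, show (r' + r') * 2 ^ k = 2 ^ (k + 1) * r' by ring, pow_mul,
            show σ ^ 2 ^ (k + 1) = 1 from congrArg Subtype.val (hkσ ▸ pow_orderOf_eq_one σ'), one_pow]
        exact absurd (Nat.pow_dvd_pow_iff_le_right (by norm_num) |>.1 (h2.trans h3)) (by omega))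
      (fun w hw hconj _ hwA => by
        obtain ⟨hwT, hπw⟩ := hsubM A w hwA
        obtain ⟨j, hj⟩ := hall (π ⟨w, hwT⟩)
        rw [hj, hσA] at hπw
        obtain ⟨i, rfl⟩ := hπw
        obtain ⟨g, rfl⟩ := hconj
        have h1 : π (⟨g * σ * g⁻¹, hwT⟩ ^ 2 ^ k) = 1 := by
          rw [map_pow, hj, ← pow_mul, show (i + i) * 2 ^ k = 2 ^ (k + 1) * i by ring, pow_mul, ← hkσ,
            pow_orderOf_eq_one, one_pow]
        have h2 := hπker _ h1
        rw [SubgroupClass.coe_pow, conj_pow, show σ ^ 2 ^ k = u from congrArg Subtype.val hσu] at h2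
        exact M.conj_not_X hn h2)
    haveI := hN
    exact M.crit.no_index_two (M.crit.commMul M.inp.faith) M.inp.top hd hd' hne hdd N hNi
  -- `T_b = ⟨u⟩ × ⟨σ⟩`
  have hcomm : Commute σ' u' := Subtype.ext (hSu σ hσ).eq
  have hσu' : ∀ j : ℕ, σ' ^ j ≠ u' := fun j e => hcyc (e ▸ pow_mem (mem_zpowers σ') j)
  have hind : ∀ c : S, (∀ j : ℕ, c ^ j ≠ u') → (∀ s : S, ∃ j : ℕ, s = c ^ j ∨ s = c ^ j * u') →
      (zpowers c).index = 2 := by
    intro c hc hcs
    refine index_eq_two_iff.2 ⟨u', fun s => ?_⟩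
    have hu'n : u' ∉ zpowers c := fun hm => by
      obtain ⟨i, hi⟩ := mem_powers_iff_mem_zpowers.2 hm
      exact hc i hi
    obtain ⟨j, rfl | rfl⟩ := hcs s
    · refine Or.inr ⟨pow_mem (mem_zpowers c) j, fun hm => hu'n ?_⟩
      exact (mul_mem_cancel_left (pow_mem (mem_zpowers c) j)).1 hm
    · refine Or.inl ⟨?_, fun hm => hu'n ((mul_mem_cancel_left (pow_mem (mem_zpowers c) j)).1 hm)⟩
      rw [mul_assoc, hu'u, mul_one]; exact pow_mem (mem_zpowers c) j
  -- transfer gives a power of `c` conjugate to `u`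
  have hconj : ∀ c : S, (∀ j : ℕ, c ^ j ≠ u') → (∀ s : S, ∃ j : ℕ, s = c ^ j ∨ s = c ^ j * u') →
      ∃ (i : ℕ) (g : G), ((c ^ i : S) : G) = g * u * g⁻¹ := by
    intro c hc hcs
    obtain ⟨g, hg⟩ := M.crit.exists_conj_mem (M.crit.commMul M.inp.faith) M.inp.top hd hd' hne hdd T
      (sub (zpowers c)) (hsubI _ (hind c hc hcs)) M.fr.multi.1
    obtain ⟨hwT, hπw⟩ := hsubM _ _ hg
    obtain ⟨i, hi⟩ := mem_powers_iff_mem_zpowers.2 hπw
    -- move it to `b`
    obtain ⟨-, c₁, c₂, hcd, hc₁, hc₂⟩ := M.fr.multi.conj g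
    obtain ⟨p, hp, hwp⟩ : ∃ p, p ≠ a ∧ (g * u * g⁻¹) • p = p := by
      rcases eq_or_ne c₁ a with rfl | hca
      · exact ⟨c₂, hcd.symm, hc₂⟩
      · exact ⟨c₁, hca, hc₁⟩
    obtain ⟨x, hx, rfl⟩ := M.X_trans hn hp
    have hw'S : x⁻¹ * (g * u * g⁻¹) * x ∈ S :=
      Subgroup.mem_inf.2 ⟨mul_mem (mul_mem (inv_mem (hXT x hx)) hwT) (hXT x hx), by
        show (x⁻¹ * (g * u * g⁻¹) * x) • b = b
        rw [mul_smul, mul_smul, hwp, inv_smul_smul]⟩
    refine ⟨i, x⁻¹ * g, ?_⟩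
    have h1 : π ⟨x⁻¹ * (g * u * g⁻¹) * x, hw'S.1⟩ = π ⟨g * u * g⁻¹, hwT⟩ := by
      rw [show (⟨x⁻¹ * (g * u * g⁻¹) * x, hw'S.1⟩ : (T : Subgroup G)) =
        ⟨x, hXT x hx⟩⁻¹ * ⟨g * u * g⁻¹, hwT⟩ * ⟨x, hXT x hx⟩ from rfl, map_mul, map_mul, map_inv, hπX x hx]
      simp
    rw [hπS _ hw'S, ← (show c ^ i = _ from hi)] at h1
    rw [← show x⁻¹ * (g * u * g⁻¹) * x = _ from congrArg Subtype.val h1]
    group
  obtain ⟨i, g, hig⟩ := hconj σ' hσu' hform
  have hσi : (σ' ^ i) ^ 2 = 1 ∧ σ' ^ i ≠ 1 := by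
    refine ⟨Subtype.ext ?_, fun e => M.u_ne ?_⟩
    · rw [SubgroupClass.coe_pow, hig, conj_pow, pow_two, M.usq]; simp
    · rw [e, OneMemClass.coe_one] at hig
      exact conj_eq_one_iff.1 hig.symm
  obtain ⟨k, rfl⟩ : ∃ k, kσ = k + 1 := by
    rcases kσ with _ | k
    · rw [pow_zero, orderOf_eq_one_iff] at hkσ
      exact absurd (by rw [hkσ, one_pow]) hσi.2
    · exact ⟨k, rfl⟩
  have hhalf : σ' ^ i = σ' ^ 2 ^ k := pow_eq_of_sq σ' hσi.1 (by rw [← pow_mul, ← pow_succ, ← hkσ, pow_orderOf_eq_one])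
    hσi.2 (pow_ne_one_of_lt_orderOf (pow_ne_zero _ two_ne_zero)
      (by rw [hkσ]; exact Nat.pow_lt_pow_right one_lt_two (by omega)))
  rw [hhalf] at hig
  rcases k with _ | k
  · -- `σ` is conjugate to `u`; so is `σ u`, and they form a four group
    rw [pow_zero, pow_one] at hig
    rw [zero_add, pow_one] at hkσ
    have hσσ : σ' * σ' = 1 := by rw [← pow_two, ← hkσ, pow_orderOf_eq_one]
    have hc : (σ' * u') ^ 2 = 1 := by rw [hcomm.mul_pow, pow_two, pow_two, hσσ, hu'u, mul_one]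
    have hcform : ∀ j : ℕ, (σ' * u') ^ j = 1 ∨ (σ' * u') ^ j = σ' * u' := by
      intro j
      rw [← Nat.div_add_mod j 2, pow_add, pow_mul, hc, one_pow, one_mul]
      rcases Nat.mod_two_eq_zero_or_one j with h1 | h1 <;> rw [h1]
      · exact Or.inl (pow_zero _)
      · exact Or.inr (pow_one _)
    obtain ⟨i', g', hig'⟩ := hconj (σ' * u') (fun j e => by
      rcases hcform j with h1 | h1 <;> rw [h1] at e
      · exact hu'1 e.symm
      · exact hσu' 0 (by
          have h2 : σ' = 1 := by simpa using e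
          rw [h2] at hkσ
          simp at hkσ)) (fun s => by
      obtain ⟨j, hj⟩ := hform s
      have hσj : σ' ^ j = 1 ∨ σ' ^ j = σ' := by
        rw [← Nat.div_add_mod j 2, pow_add, pow_mul, pow_two, hσσ, one_pow, one_mul]
        rcases Nat.mod_two_eq_zero_or_one j with h1 | h1 <;> rw [h1]
        · exact Or.inl (pow_zero _)
        · exact Or.inr (pow_one _)
      have hc1 : σ' * u' * u' = σ' := by rw [mul_assoc, hu'u, mul_one]
      rcases hj with rfl | rfl <;> rcases hσj with h1 | h1 <;> rw [h1]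
      · exact ⟨0, Or.inl (pow_zero _).symm⟩
      · exact ⟨1, Or.inr (by rw [pow_one, hc1])⟩
      · exact ⟨0, Or.inr (by rw [pow_zero])⟩
      · exact ⟨1, Or.inl (by rw [pow_one])⟩)
    have hu2' : g' * u * g'⁻¹ = σ * u := by
      rcases hcform i' with h1 | h1 <;> rw [h1] at hig'
      · exact absurd (conj_eq_one_iff.1 hig'.symm) M.u_ne
      · exact hig'.symm
    have hσv : σ = g * u * g⁻¹ := hig
    have hσa := hTa σ hσ.1
    have hσo : orderOf σ = 2 := by rw [hσv, CfsgLib.Signalizer.orderOf_conj]; exact M.fr.multi.1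
    have hcu : Commute u σ := (hSu σ hσ).symm
    obtain ⟨c₁, F₁, h₁⟩ := M.top_conj (g := g) (by rw [← hσv]; exact hσa)
    obtain ⟨c₂, F₂, h₂⟩ := M.top_conj (g := g') (by rw [hu2', mul_smul, M.fr.data.fix_a, hσa])
    rw [← hσv] at h₁
    rw [hu2', ← hcu.eq] at h₂
    refine M.no_four hn hσo hcu hσa hσ.2 (fun e he => M.norm_E hR (hTN σ hσ.1) he) ?_ h₁ h₂
    by_contra hall
    push Not at hall
    rcases hkerS σ' hall with h1 | h1
    · rw [h1] at hkσ; simp at hkσ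
    · exact hσu' 1 (by rw [pow_one]; exact h1)
  -- otherwise `u` would be a square in its centraliser
  obtain ⟨m, hma, hm⟩ := M.crit.fus M.usq M.fr.data.fix_a (g := g) (by
    rw [← hig]; exact hTa _ ((σ' ^ 2 ^ (k + 1) : S).2.1))
  set z := m⁻¹ * σ ^ 2 ^ k * m with hz
  have hzz : z * z = u := by
    have h1 : σ ^ 2 ^ k * σ ^ 2 ^ k = m * u * m⁻¹ := by
      rw [hm, ← hig, SubgroupClass.coe_pow, ← pow_add, ← two_mul, ← pow_succ']
    calc z * z = m⁻¹ * (σ ^ 2 ^ k * σ ^ 2 ^ k) * m := by rw [hz]; group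
      _ = u := by rw [h1]; group
  have hza : z • a = a := by
    rw [hz, mul_smul, mul_smul, hma, pow_mem (show σ ∈ stabilizer G a from hTa σ hσ.1) (2 ^ k), inv_smul_eq_iff, hma]
  have hzu : Commute z u := hzz ▸ (Commute.refl z).mul_right (Commute.refl z)
  set Xu : Subgroup G := stabilizer G a ⊓ centralizer ({u} : Set G)
  have hTu : (T : Subgroup G) ⊓ centralizer ({u} : Set G) ≤ Xu := inf_le_inf_right _ fun x hx => hTa x hx
  obtain ⟨Q, hQ⟩ := ((T.2.to_le (inf_le_left : (T : Subgroup G) ⊓ centralizer ({u} : Set G) ≤ (T : Subgroup G))).comap_subtype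
    (K := Xu)).exists_le_sylow
  set Q₂ : Subgroup G := (Q : Subgroup Xu).map Xu.subtype
  have hQ2 : IsPGroup 2 Q₂ := Q.isPGroup'.map _
  have hQa : ∀ x ∈ Q₂, x • a = a := fun x hx => (map_subtype_le _ hx).1
  have hQu : ∀ x ∈ Q₂, Commute x u := fun x hx => mem_centralizer_singleton_iff.1 (map_subtype_le _ hx).2
  have hle : (T : Subgroup G) ⊓ centralizer ({u} : Set G) ≤ Q₂ := fun x hx => ⟨⟨x, hTu hx⟩, hQ hx, rfl⟩
  -- it is no larger
  have heq : (T : Subgroup G) ⊓ centralizer ({u} : Set G) = Q₂ := by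
    refine Subgroup.eq_of_le_of_card_ge hle ?_
    have hfix : ({x : Ω | u • x = x} : Set Ω).ncard = q + 1 := by
      rw [← Nat.card_coe_set_eq]
      exact (M.fr.data.card_fix.trans (by rw [pow_one]) :)
    have horb : orbit Q₂ b ⊆ {x : Ω | u • x = x} \ {a} := by
      rintro _ ⟨x, rfl⟩
      refine ⟨?_, fun e => hba (MulAction.injective (x : G) ((Set.mem_singleton_iff.1 e).trans (hQa x x.2).symm))⟩
      show u • (x : G) • b = (x : G) • b
      rw [← mul_smul, ← (hQu x x.2).eq, mul_smul, M.fr.data.fix_b]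
    have hidx : (stabilizer Q₂ b).index ≤ q := by
      rw [index_stabilizer]
      refine (Set.ncard_le_ncard horb).trans ?_
      rw [Set.ncard_sdiff (by simpa using M.fr.data.fix_a), Set.ncard_singleton, hfix, Nat.add_sub_cancel]
    have hst : Nat.card (stabilizer Q₂ b) ≤ Nat.card S := by
      -- conjugate it into `T`
      set L : Subgroup G := (stabilizer Q₂ b).map Q₂.subtype
      have hLa : L ≤ stabilizer G a := fun x hx => hQa x (map_subtype_le _ hx)
      have hL2 : IsPGroup 2 L := hQ2.to_le (map_subtype_le _)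
      obtain ⟨T', hT'⟩ := (hL2.comap_subtype (K := stabilizer G a)).exists_le_sylow
      let Ta : Sylow 2 (stabilizer G a) := T.subtype fun x hx => hTa x hx
      obtain ⟨n, hn'⟩ := MulAction.exists_smul_eq (stabilizer G a) T' Ta
      have hnb : (n : G) • b ≠ a := fun e => hba (MulAction.injective (n : G) (e.trans n.2.symm))
      obtain ⟨x, hx, hxb⟩ := M.X_trans hn hnb
      refine le_of_eq_of_le (Nat.card_congr ((stabilizer Q₂ b).equivMapOfInjective _ Q₂.subtype_injective).toEquiv) ?_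
      have hmem : ∀ l : L, x⁻¹ * ((n : G) * l * (n : G)⁻¹) * x ∈ S := by
        rintro ⟨l, hl⟩
        refine Subgroup.mem_inf.2 ⟨mul_mem (mul_mem (inv_mem (hXT x hx)) ?_) (hXT x hx), ?_⟩
        · have h1 : n * ⟨l, hLa hl⟩ * n⁻¹ ∈ (Ta : Subgroup (stabilizer G a)) := by
            rw [← hn', Sylow.coe_subgroup_smul, Subgroup.mem_pointwise_smul_iff_inv_smul_mem]
            show (MulAut.conj n)⁻¹ _ ∈ _
            rw [← map_inv, MulAut.conj_apply, show n⁻¹ * (n * ⟨l, hLa hl⟩ * n⁻¹) * n⁻¹⁻¹ = (⟨l, hLa hl⟩ : stabilizer G a) by group]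
            exact hT' (show (⟨l, hLa hl⟩ : stabilizer G a) ∈ L.comap (stabilizer G a).subtype from hl)
          exact h1
        · show (x⁻¹ * ((n : G) * l * (n : G)⁻¹) * x) • b = b
          obtain ⟨⟨l', hl'⟩, hlb, rfl⟩ := hl
          have hlb' : l' • b = b := hlb
          rw [mul_smul, hxb, mul_smul, mul_smul, mul_smul, inv_smul_smul]
          show x⁻¹ • (n : G) • l' • b = b
          rw [hlb', inv_smul_eq_iff, hxb]
      exact Nat.card_le_card_of_injective (fun l : L => (⟨_, hmem l⟩ : S)) fun l l' e => by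
        have h1 : x⁻¹ * ((n : G) * l * (n : G)⁻¹) * x = x⁻¹ * ((n : G) * l' * (n : G)⁻¹) * x := congrArg Subtype.val e
        exact Subtype.ext (by simpa using h1)
    have hlow : q * Nat.card S ≤ Nat.card ((T : Subgroup G) ⊓ centralizer ({u} : Set G) : Subgroup G) := by
      have hmem : ∀ es : E × S, (es.1 : G) * es.2 ∈ (T : Subgroup G) ⊓ centralizer ({u} : Set G) := fun es =>
        mul_mem ⟨hPT (M.E_le_P es.1.2), mem_centralizer_singleton_iff.2 ((M.centE M.uP es.1.2).symm).eq⟩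
          ⟨es.2.2.1, mem_centralizer_singleton_iff.2 (hSu es.2 es.2.2).eq⟩
      have := Nat.card_le_card_of_injective (fun es : E × S => (⟨_, hmem es⟩ :
        ((T : Subgroup G) ⊓ centralizer ({u} : Set G) : Subgroup G))) (fun es es' e => by
        have h1 : (es.1 : G) * es.2 = es'.1 * es'.2 := congrArg Subtype.val e
        have h2 : es.2 = es'.2 := huniq ((es.1 : G) * es.2) _ _
          (by rw [mul_inv_cancel_right]; exact M.mod.E_X es.1.2)
          (by rw [h1, mul_inv_cancel_right]; exact M.mod.E_X es'.1.2)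
        rw [h2] at h1
        exact Prod.ext (Subtype.ext (mul_right_cancel h1)) h2)
      rwa [Nat.card_prod, M.fr.data.card_E] at this
    refine le_trans ?_ hlow
    rw [← card_mul_index (stabilizer Q₂ b), mul_comm q]
    exact Nat.mul_le_mul hst hidx
  -- move `z` into it
  have hz2 : IsPGroup 2 (zpowers (⟨z, hza, mem_centralizer_singleton_iff.2 hzu.eq⟩ : Xu)) := by
    obtain ⟨j, -, hj⟩ := (Nat.dvd_prime_pow Nat.prime_two).1 (orderOf_dvd_of_pow_eq_one (n := 2 ^ 2)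
      (x := (⟨z, hza, mem_centralizer_singleton_iff.2 hzu.eq⟩ : Xu)) (Subtype.ext (by
        rw [SubgroupClass.coe_pow, show (2 : ℕ) ^ 2 = 2 * 2 by norm_num, pow_mul, pow_two, pow_two, hzz, M.usq]
        rfl)))
    exact IsPGroup.of_card (n := j) (by rw [Nat.card_zpowers, hj])
  obtain ⟨Q', hQ'⟩ := hz2.exists_le_sylow
  obtain ⟨c, hcQ⟩ := MulAction.exists_smul_eq Xu Q' Q
  have hz'Q : (c : G) * z * (c : G)⁻¹ ∈ Q₂ := by
    refine ⟨c * ⟨z, hza, mem_centralizer_singleton_iff.2 hzu.eq⟩ * c⁻¹, ?_, rfl⟩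
    rw [← hcQ, SetLike.mem_coe, Sylow.coe_subgroup_smul, Subgroup.mem_pointwise_smul_iff_inv_smul_mem]
    show (MulAut.conj c)⁻¹ _ ∈ _
    rw [← map_inv, MulAut.conj_apply, show c⁻¹ * (c * (⟨z, hza, mem_centralizer_singleton_iff.2 hzu.eq⟩ : Xu) * c⁻¹) *
      c⁻¹⁻¹ = (⟨z, hza, mem_centralizer_singleton_iff.2 hzu.eq⟩ : Xu) by group]
    exact hQ' (mem_zpowers _)
  rw [← heq] at hz'Q
  have hcu : Commute (c : G) u := mem_centralizer_singleton_iff.1 c.2.2
  have h1 : π (⟨_, hz'Q.1⟩ * ⟨_, hz'Q.1⟩) = u' := by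
    refine Eq.trans (congrArg π (Subtype.ext ?_)) (hπS u u'.2)
    show (c : G) * z * (c : G)⁻¹ * ((c : G) * z * (c : G)⁻¹) = u
    rw [show (c : G) * z * (c : G)⁻¹ * ((c : G) * z * (c : G)⁻¹) = (c : G) * (z * z) * (c : G)⁻¹ by group, hzz, hcu.eq,
      mul_inv_cancel_right]
  rw [map_mul] at h1
  obtain ⟨j, hj | hj⟩ := hform (π ⟨_, hz'Q.1⟩) <;> rw [hj] at h1
  · exact hσu' (j + j) (by rw [pow_add]; exact h1)
  · refine hσu' (j + j) ?_
    rwa [(hcomm.symm.pow_right j).mul_mul_mul_comm, hu'u, mul_one, ← pow_add] at h1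

end OneModel

end CfsgLib.AschCrit
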