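import Cfsg.Agent.Lib.Invol.AschCrit.EndOne.Affine
import Cfsg.Agent.Lib.Invol.AschCrit.EndOne.Square

/-!
Owner: helper8. Aschbacher's criterion: the end game of type one.

`Crit.endGame_one`: no frame of type one has a model. The model gives `q ^ 2 ∣ n - 1`, so there are `q ^ 3` or
`q ^ 2` other points; see `notes/aschbacher_proof_v3.md`, section 3, for the plan.
-/

set_option autoImplicit false
set_option linter.unusedSectionVars false

namespace CfsgLib.AschCrit

universe u v

variable {G : Type u} [Group G] [Finite G] {Ω : Type v} [MulAction G Ω]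

namespace Crit

variable {D : Set G} (h : Crit Ω D)
include h

/-- The end game of type one. -/
theorem endGame_one (hf : Faithful G Ω) (htop : Subgroup.closure D = ⊤) (IH : Below.{v, v} (Nat.card G))
    (hld : LocalDichotomy Ω D) (hform : Formula Ω D) (horb : OrbitBound Ω D) (hsz : SuzukiBound Ω D)
    (htc : TorusCent Ω D) (hhp : HyperplaneProduct.{u}) (hxt : ExtremalTransfer.{u}) : EndGame Ω D 1 := by
  intro u a b E q P R X Q η hfr _ hmod
  have hQ : E = Q := Subgroup.eq_of_le_of_card_ge hmod.E_Q (by rw [hmod.Q_card, pow_one, hfr.data.card_E])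
  subst hQ
  have M : OneModel D u a b E q P R X η :=
    ⟨⟨h, hf, htop, hld, hform, horb, hsz, htc, hhp, hxt, IH⟩, hfr, hmod⟩
  rcases M.count with ⟨hn, hg4⟩ | ⟨hn, -⟩
  · exact M.case_cube hn hg4
  · exact M.case_square hn

end Crit

end CfsgLib.AschCrit
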