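import Cfsg.Agent.Lib.Invol.AschCrit.EndOne.Four
import Mathlib.Data.Finset.Card

/-!
Owner: helper8. Aschbacher's criterion, end game of type one with `q ^ 2` other points: a Sylow group over `P`
normalises it.

Otherwise a conjugate `w` of `u` fixes `b`, commutes with `u` and moves `E`, and `u w` centralises a group of
members of order `q` (in `X` if it is elementary, in `⟨x², u x⟩` with `q = 4` if not).
-/

set_option autoImplicit false
set_option linter.unusedSectionVars false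
set_option linter.style.haveILetI false

namespace CfsgLib.AschCrit

open Subgroup MulAction

universe u v

variable {G : Type u} [Group G] [Finite G] {Ω : Type v} [MulAction G Ω]

theorem pow_eq_of_sq {H : Type u} [Group H] [Finite H] (c : H) {i j : ℕ} (hi : (c ^ i) ^ 2 = 1) (hj : (c ^ j) ^ 2 = 1)
    (hi1 : c ^ i ≠ 1) (hj1 : c ^ j ≠ 1) : c ^ i = c ^ j := by
  have key : ∀ i, (c ^ i) ^ 2 = 1 → c ^ i ≠ 1 → 2 * (i % orderOf c) = orderOf c := by
    intro i hi hi1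
    rw [← pow_mul, ← orderOf_dvd_iff_pow_eq_one] at hi
    have hlt := Nat.mod_lt i (orderOf_pos c)
    have hne : i % orderOf c ≠ 0 := fun e => hi1 (orderOf_dvd_iff_pow_eq_one.1 (Nat.dvd_of_mod_eq_zero e))
    obtain ⟨k, hk⟩ : orderOf c ∣ i % orderOf c * 2 := by
      rw [Nat.dvd_iff_mod_eq_zero, Nat.mul_mod, Nat.mod_mod, ← Nat.mul_mod, ← Nat.dvd_iff_mod_eq_zero]
      exact hi
    rcases k with _ | _ | k
    · omega
    · omega
    · have : orderOf c * 2 ≤ orderOf c * (k + 1 + 1) := Nat.mul_le_mul_left _ (by omega)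
      omega
  have h1 := key i hi hi1
  have h2 := key j hj hj1
  rw [← pow_mod_orderOf c i, ← pow_mod_orderOf c j, show i % orderOf c = j % orderOf c by omega]

namespace OneModel

variable {D : Set G} {u : G} {a b : Ω} {E : Subgroup G} {q : ℕ} {P R X : Subgroup G} {η : G}
  (M : OneModel D u a b E q P R X η)
include M

/-- `u x` is a member when it is an involution and `x` is outside `E`. -/
theorem ux_member (hn : Nat.card Ω - 1 = q ^ 2) {x : G} (hx : x ∈ X) (hxE : x ∉ E)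
    (hsq : br u x * (x * x) = 1) : u * x ∈ D := by
  by_contra hD
  have hP : u * x ∈ P := mul_mem M.uP (M.mod.X_le hx)
  have ho : orderOf (u * x) = 2 := orderOf_eq_prime (by rw [pow_two, M.sq_rx M.mod.u_mem]; exact hsq)
    fun e => M.u_not_X (by rw [show u = x⁻¹ from eq_inv_of_mul_eq_one_left e]; exact inv_mem hx)
  obtain ⟨e, he, hee⟩ := M.multi_P hn (M.crit.singleMem M.inp.faith _ ho ⟨a, M.fixP hP⟩ hD) hP
  exact hxE (mul_left_cancel hee ▸ he)

/-- An element normalising `P` is one fixing `b` and commuting with `u`, times one of `X`. -/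
theorem decomp (hn : Nat.card Ω - 1 = q ^ 2) {g : G} (hga : g • a = a) (hg : g ∈ normalizer (P : Set G)) :
    ∃ x ∈ X, (x⁻¹ * g) • b = b ∧ Commute (x⁻¹ * g) u ∧ x⁻¹ * g ∈ normalizer (P : Set G) := by
  have hgb : g • b ≠ a := fun e => M.fr.data.ne (MulAction.injective g (e.trans hga.symm)).symm
  obtain ⟨x, hx, hxb⟩ := M.X_trans hn hgb
  have hN : x⁻¹ * g ∈ normalizer (P : Set G) := mul_mem (le_normalizer (inv_mem (M.mod.X_le hx))) hg
  have hb : (x⁻¹ * g) • b = b := by rw [mul_smul, ← hxb, inv_smul_smul]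
  refine ⟨x, hx, hb, ?_, hN⟩
  have he := M.norm_class hn hN
  have h1 := M.semiregE he M.fr.data.ne.symm (by
    rw [mul_smul, mul_smul, mul_smul, inv_smul_eq_iff.2 hb.symm, M.fr.data.fix_b, hb, M.fr.data.fix_b])
  have h2 : x⁻¹ * g * u * (x⁻¹ * g)⁻¹ = u := by
    calc x⁻¹ * g * u * (x⁻¹ * g)⁻¹ = u * (u * (x⁻¹ * g * u * (x⁻¹ * g)⁻¹)) := M.conj_u_eq _
      _ = u := by rw [h1, mul_one]
  exact mul_inv_eq_iff_eq_mul.1 h2

/-- Squares cover `E` when only `E` has square one in `X`. -/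
theorem exists_root (hinj : ∀ x ∈ X, x * x = 1 → x ∈ E) {e : G} (he : e ∈ E) : ∃ x ∈ X, x * x = e := by
  classical
  let sq : X →* E := MonoidHom.mk' (fun x : X => (⟨(x : G) * x, M.mod.X_sq x x.2⟩ : E))
    fun x y => Subtype.ext (M.sq_mul x.2 y.2)
  have hker : sq.ker ≤ E.subgroupOf X := fun x hx =>
    mem_subgroupOf.2 (hinj x x.2 (congrArg Subtype.val (MonoidHom.mem_ker.1 hx)))
  have h1 : Nat.card sq.ker ≤ q := by
    rw [← M.fr.data.card_E, ← Nat.card_congr (subgroupOfEquivOfLe M.mod.E_X).toEquiv]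
    exact card_le_of_le hker
  have h2 := card_mul_index sq.ker
  rw [index_ker, M.mod.X_card] at h2
  have hq4 := M.q4
  have h3 : q ≤ Nat.card sq.range := by
    refine Nat.le_of_mul_le_mul_left ?_ (show 0 < q by omega)
    calc q * q = Nat.card sq.ker * Nat.card sq.range := h2.symm
      _ ≤ q * Nat.card sq.range := Nat.mul_le_mul_right _ h1
  have htop : sq.range = ⊤ := eq_top_of_le_card _ (by rw [M.fr.data.card_E]; exact h3)
  obtain ⟨x, hx⟩ : (⟨e, he⟩ : E) ∈ sq.range := htop ▸ mem_top _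
  exact ⟨x, x.2, congrArg Subtype.val hx⟩

set_option maxHeartbeats 1000000 in
/-- A Sylow group at `a` over `P` normalises it. -/
theorem sylow_normalises (hn : Nat.card Ω - 1 = q ^ 2) (T : Sylow 2 G) (hTa : ∀ g ∈ (T : Subgroup G), g • a = a)
    (hPT : P ≤ (T : Subgroup G)) : ∀ g ∈ (T : Subgroup G), g ∈ normalizer (P : Set G) := by
  classical
  haveI := Fact.mk Nat.prime_two
  haveI := M.crit.finite_points
  intro g₀ hg₀
  by_contra hg₀N
  have hq4 := M.q4
  have hR := M.card_R_two_sq hn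
  have hC := M.cent_eq_sq hn _ T.2 hTa hPT
  have hET : E ≤ (T : Subgroup G) := M.E_le_P.trans hPT
  set T₁ : Subgroup G := (T : Subgroup G) ⊓ normalizer (P : Set G)
  have hPT₁ : P ≤ T₁ := le_inf hPT le_normalizer
  have hlt : T₁ < (T : Subgroup G) := lt_of_le_not_ge inf_le_left fun h => hg₀N (h hg₀).2
  obtain ⟨g, hg, hgT₁⟩ := SetLike.exists_of_lt (CfsgLib.Transfer.lt_inf_normalizer T.2 hlt)
  obtain ⟨hgT, hgN⟩ := mem_inf.1 hg
  have hw₀ : g * u * g⁻¹ ∈ T₁ := (mem_normalizer_iff.1 hgN u).1 (hPT₁ M.uP)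
  have hw₀P : g * u * g⁻¹ ∉ P := by
    intro hP
    obtain ⟨e, he, hge⟩ := M.multi_P hn (M.fr.multi.conj g) hP
    obtain ⟨y, hy, hye⟩ := M.exists_conj_u he
    have hyP := M.mod.X_le hy
    have hg'T : y⁻¹ * g ∈ (T : Subgroup G) := mul_mem (inv_mem (hPT hyP)) hgT
    have hg'u : Commute (y⁻¹ * g) u := by
      show y⁻¹ * g * u = u * (y⁻¹ * g)
      calc y⁻¹ * g * u = y⁻¹ * (g * u * g⁻¹) * g := by group
        _ = y⁻¹ * (y * u * y⁻¹) * g := by rw [hge, hye]
        _ = u * (y⁻¹ * g) := by group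
    have hg'N : y⁻¹ * g ∈ normalizer (P : Set G) := mem_normalizer_of_mapsTo fun x hx => by
      refine hC _ (mul_mem (mul_mem hg'T (hPT hx)) (inv_mem hg'T)) fun f hf => ?_
      have h1 : (y⁻¹ * g)⁻¹ * f * (y⁻¹ * g) ∈ E := by
        have := M.norm_E_of_commute _ T.2 hTa hET (inv_mem hg'T) hg'u.inv_left hf
        rwa [inv_inv] at this
      have h2 := (Commute.conj_iff (y⁻¹ * g)).2 (M.centE hx h1)
      rwa [show y⁻¹ * g * ((y⁻¹ * g)⁻¹ * f * (y⁻¹ * g)) * (y⁻¹ * g)⁻¹ = f by group] at h2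
    exact hgT₁ ⟨hgT, by simpa using mul_mem (le_normalizer hyP : y ∈ normalizer (P : Set G)) hg'N⟩
  -- move it to `b`
  obtain ⟨-, c, d, hcd, hc, hd⟩ := M.fr.multi.conj g
  obtain ⟨p, hp, hwp⟩ : ∃ p, p ≠ a ∧ (g * u * g⁻¹) • p = p := by
    rcases eq_or_ne c a with rfl | hca
    · exact ⟨d, hcd.symm, hd⟩
    · exact ⟨c, hca, hc⟩
  obtain ⟨x₁, hx₁, rfl⟩ := M.X_trans hn hp
  have hx₁P := M.mod.X_le hx₁
  obtain ⟨w, hw⟩ : ∃ w, w = (x₁⁻¹ * g) * u * (x₁⁻¹ * g)⁻¹ := ⟨_, rfl⟩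
  have hwT₁ : w ∈ T₁ := by
    rw [hw, show x₁⁻¹ * g * u * (x₁⁻¹ * g)⁻¹ = x₁⁻¹ * (g * u * g⁻¹) * x₁ by group]
    exact mul_mem (mul_mem (inv_mem (hPT₁ hx₁P)) hw₀) (hPT₁ hx₁P)
  have hwP : w ∉ P := fun hP => hw₀P (by
    have := mul_mem (mul_mem hx₁P hP) (inv_mem hx₁P)
    rwa [hw, show x₁ * (x₁⁻¹ * g * u * (x₁⁻¹ * g)⁻¹) * x₁⁻¹ = g * u * g⁻¹ by group] at this)
  have hwa : w • a = a := hTa w hwT₁.1
  have hwb : w • b = b := by
    rw [hw, show x₁⁻¹ * g * u * (x₁⁻¹ * g)⁻¹ = x₁⁻¹ * (g * u * g⁻¹) * x₁ by group, mul_smul, mul_smul, hwp,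
      inv_smul_smul]
  have hwm : IsMulti Ω w := hw ▸ M.fr.multi.conj _
  have hww : w * w = 1 := by rw [← pow_two, ← hwm.1, pow_orderOf_eq_one]
  have hwu : Commute u w := by
    have h1 := M.semiregE (M.norm_class hn hwT₁.2) M.fr.data.ne.symm (by
      rw [mul_smul, mul_smul, mul_smul, inv_smul_eq_iff.2 hwb.symm, M.fr.data.fix_b, hwb, M.fr.data.fix_b])
    have h2 : w * u * w⁻¹ = u := by
      calc w * u * w⁻¹ = u * (u * (w * u * w⁻¹)) := M.conj_u_eq w
        _ = u := by rw [h1, mul_one]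
    exact (mul_inv_eq_iff_eq_mul.1 h2).symm
  have hwE : ∀ e ∈ E, w * e * w⁻¹ ∈ E := fun e he => M.norm_E hR hwT₁.2 he
  have hmv : ∃ e ∈ E, w * e * w⁻¹ ≠ e := by
    by_contra hall
    push Not at hall
    exact hwP (hC w hwT₁.1 fun e he => mul_inv_eq_iff_eq_mul.1 (hall e he))
  obtain ⟨c₁, F₁, h₁⟩ := M.top_conj (g := x₁⁻¹ * g) (by rw [← hw]; exact hwa)
  rw [← hw] at h₁
  have hvm : IsMulti Ω (u * w) := by
    refine ⟨orderOf_eq_prime (by rw [hwu.mul_pow, pow_two, pow_two, M.usq, hww, one_mul]) fun e => hwP ?_, a, b,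
      M.fr.data.ne, by rw [mul_smul, hwa, M.fr.data.fix_a], by rw [mul_smul, hwb, M.fr.data.fix_b]⟩
    rw [← inv_eq_of_mul_eq_one_right e]
    exact inv_mem M.uP
  have hva : (u * w) • a = a := by rw [mul_smul, hwa, M.fr.data.fix_a]
  suffices hF : ∃ F : Subgroup G, MemGroup D (u * w) a F ∧ Nat.card F = q by
    obtain ⟨F, hF, hFq⟩ := hF
    obtain ⟨c₂, h₂⟩ := M.top_one hvm hva hF hFq
    exact M.no_four hn hwm.1 hwu hwa hwb hwE hmv h₁ h₂
  have hvX : ∀ y ∈ X, u * w * y * (u * w)⁻¹ ∈ X := fun y hy =>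
    M.norm_X hR (mul_mem (le_normalizer M.uP) hwT₁.2) hy
  rcases M.dichotomy (fun x => x * x) (fun x hx y hy => M.sq_mul hx hy) (fun e he => M.sqE he)
    (fun x _ j => by group) with hinj | helem
  swap
  · -- `X` is elementary and consists of members
    set F : Subgroup G := X ⊓ centralizer ({u * w} : Set G)
    have hmem : MemGroup D (u * w) a F := ⟨fun e he he1 => ⟨M.X_member hn he.1
      (orderOf_eq_prime (by rw [pow_two]; exact helem e he.1) he1), M.fixP (M.mod.X_le he.1),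
      mem_centralizer_singleton_iff.1 he.2⟩, fun e he f hf => M.mod.X_comm e he.1 f hf.1⟩
    refine ⟨F, hmem, le_antisymm (M.fr.top _ a F hvm hva hmem) ?_⟩
    letI : CommGroup X := { (inferInstance : Group X) with mul_comm := fun x y => Subtype.ext (M.mod.X_comm x x.2 y y.2).eq }
    let f : X →* X := MonoidHom.mk' (fun y : X => (⟨(y : G) * (u * w * y * (u * w)⁻¹), mul_mem y.2 (hvX y y.2)⟩ : X))
      fun y z => Subtype.ext (by
        push_cast
        rw [show (y : G) * z * (u * w * ((y : G) * z) * (u * w)⁻¹) =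
          y * (z * (u * w * y * (u * w)⁻¹)) * (u * w * z * (u * w)⁻¹) by group,
          (M.mod.X_comm z z.2 _ (hvX y y.2)).eq]
        simp only [mul_assoc])
    have hv2 : u * w * (u * w) = 1 := by rw [← pow_two, ← hvm.1, pow_orderOf_eq_one]
    have hfker : ∀ y : X, f y = 1 → (y : G) ∈ F := fun y hy => by
      have h1 : (y : G) * (u * w * y * (u * w)⁻¹) = 1 := congrArg Subtype.val hy
      have h2 : u * w * y * (u * w)⁻¹ = y := by
        rw [eq_inv_of_mul_eq_one_right h1, inv_eq_of_mul_eq_one_right (helem y y.2)]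
      exact ⟨y.2, mem_centralizer_singleton_iff.2 (mul_inv_eq_iff_eq_mul.1 h2).symm⟩
    have hfrange : ∀ z ∈ f.range, (z : G) ∈ F := by
      rintro _ ⟨y, rfl⟩
      refine ⟨(f y).2, mem_centralizer_singleton_iff.2 ?_⟩
      have h2 : u * w * ((y : G) * (u * w * y * (u * w)⁻¹)) * (u * w)⁻¹ = (y : G) * (u * w * y * (u * w)⁻¹) := by
        calc u * w * ((y : G) * (u * w * y * (u * w)⁻¹)) * (u * w)⁻¹
            = u * w * y * (u * w)⁻¹ * (u * w * (u * w) * y * (u * w * (u * w))⁻¹) := by group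
          _ = _ := by rw [hv2, one_mul, inv_one, mul_one, ← (M.mod.X_comm y y.2 _ (hvX y y.2)).eq]
      exact (mul_inv_eq_iff_eq_mul.1 h2).symm
    have h1 : Nat.card f.ker ≤ Nat.card F :=
      Nat.card_le_card_of_injective (fun y : f.ker => (⟨((y : X) : G), hfker y (MonoidHom.mem_ker.1 y.2)⟩ : F))
        fun y z e => Subtype.ext (Subtype.ext (congrArg Subtype.val e :))
    have h2 : Nat.card f.range ≤ Nat.card F :=
      Nat.card_le_card_of_injective (fun y : f.range => (⟨((y : X) : G), hfrange _ y.2⟩ : F))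
        fun y z e => Subtype.ext (Subtype.ext (congrArg Subtype.val e :))
    have h3 := card_mul_index f.ker
    rw [index_ker, M.mod.X_card] at h3
    by_contra hlt
    push Not at hlt
    have := Nat.mul_le_mul h1 h2
    nlinarith
  -- `X` has no involutions outside `E`: then `q = 4`
  obtain ⟨τ, hτ, -, -, -, -, hτn⟩ := M.exists_torus
  have hw0u : ∀ e ∈ E, w * (w * e * w⁻¹) * w⁻¹ = e := fun e _ => by
    rw [show w * (w * e * w⁻¹) * w⁻¹ = (w * w) * e * (w * w)⁻¹ by group, hww]; simp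
  have hhalf := hτ.half_fix (M.fr.data.pow.imp fun _ h => h.2) M.fr.data.card_E (hτn w hwu.symm hwa hwE) hw0u hmv
  set W₀ : Subgroup G := E ⊓ centralizer ({w} : Set G)
  set C : Subgroup G := X ⊓ centralizer ({w} : Set G)
  have hwX : ∀ y ∈ X, w * y * w⁻¹ ∈ X := fun y hy => M.norm_X hR hwT₁.2 hy
  have hCcard : Nat.card C = q := by
    have h1 : ({p : Ω | w • p = p} : Set Ω).ncard = q + 1 := by
      rw [← Nat.card_coe_set_eq]; exact (h₁.data.card_fix.trans (by rw [pow_one]) :)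
    have h2 : Nat.card C = ({p : Ω | w • p = p} \ {a} : Set Ω).ncard := by
      rw [← Nat.card_coe_set_eq]
      refine Nat.card_eq_of_bijective (fun x : C => ⟨(x : G) • b, ?_, fun e => M.fr.data.ne.symm
        (MulAction.injective (x : G) ((Set.mem_singleton_iff.1 e).trans (M.fixP (M.mod.X_le x.2.1)).symm))⟩) ⟨?_, ?_⟩
      · show w • (x : G) • b = (x : G) • b
        rw [← mul_smul, ← (mem_centralizer_singleton_iff.1 x.2.2), mul_smul, hwb]
      · intro x y e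
        refine Subtype.ext (inv_mul_eq_one.1 (M.semiregX hn (mul_mem (inv_mem y.2.1) x.2.1) M.fr.data.ne.symm ?_)).symm
        rw [mul_smul, inv_smul_eq_iff]
        exact congrArg Subtype.val e
      · rintro ⟨p, hwp', hpa⟩
        obtain ⟨x, hx, rfl⟩ := M.X_trans hn hpa
        have h3 : x⁻¹ * (w * x * w⁻¹) = 1 := M.semiregX hn (mul_mem (inv_mem hx) (hwX x hx)) M.fr.data.ne.symm (by
          rw [mul_smul, mul_smul, mul_smul, inv_smul_eq_iff.2 hwb.symm, hwp', inv_smul_smul])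
        exact ⟨⟨x, hx, mem_centralizer_singleton_iff.2 (mul_inv_eq_iff_eq_mul.1 (inv_mul_eq_one.1 h3).symm).symm⟩, rfl⟩
    rw [h2, Set.ncard_sdiff (by simpa using hwa), Set.ncard_singleton, h1, Nat.add_sub_cancel]
  -- the squares in `C` take one value
  obtain ⟨m, hma, hm⟩ := M.crit.fus M.usq M.fr.data.fix_a (g := x₁⁻¹ * g) (by rw [← hw]; exact hwa)
  rw [← hw] at hm
  have hone : ∀ c ∈ C, ∀ d ∈ C, c * c ≠ 1 → d * d ≠ 1 → c * c = d * d := by
    intro c₀ hc₀ d₀ hd₀ hc1 hd1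
    set Xu : Subgroup G := stabilizer G a ⊓ centralizer ({u} : Set G)
    have hTu : (T : Subgroup G) ⊓ centralizer ({u} : Set G) ≤ Xu := inf_le_inf_right _ fun x hx => hTa x hx
    obtain ⟨S, hS⟩ := ((T.2.to_le (inf_le_left : (T : Subgroup G) ⊓ centralizer ({u} : Set G) ≤ (T : Subgroup G))).comap_subtype
      (K := Xu)).exists_le_sylow
    set C' : Subgroup G := C.map (MulAut.conj m⁻¹).toMonoidHom
    have hC'X : C' ≤ Xu := by
      rintro _ ⟨x, hx, rfl⟩
      refine ⟨?_, mem_centralizer_singleton_iff.2 ?_⟩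
      · show (m⁻¹ * x * m⁻¹⁻¹) • a = a
        rw [inv_inv, mul_smul, mul_smul, hma, M.fixP (M.mod.X_le hx.1), inv_smul_eq_iff, hma]
      · have h1 := (Commute.conj_iff m⁻¹).2 (show Commute x w from mem_centralizer_singleton_iff.1 hx.2)
        rw [← hm, inv_inv, show m⁻¹ * (m * u * m⁻¹) * m = u by group] at h1
        show m⁻¹ * x * m⁻¹⁻¹ * u = u * (m⁻¹ * x * m⁻¹⁻¹)
        rw [inv_inv]; exact h1.eq
    obtain ⟨S', hS'⟩ := (((M.mod.two.to_le (inf_le_left.trans M.mod.X_le : C ≤ P)).map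
      (MulAut.conj m⁻¹).toMonoidHom).comap_subtype (K := Xu)).exists_le_sylow
    obtain ⟨k, hk⟩ := MulAction.exists_smul_eq Xu S' S
    set S₂ : Subgroup G := (S : Subgroup Xu).map Xu.subtype
    have hS₂2 : IsPGroup 2 S₂ := S.isPGroup'.map _
    have hS₂a : ∀ x ∈ S₂, x • a = a := fun x hx => (map_subtype_le _ hx).1
    have hS₂u : ∀ x ∈ S₂, Commute x u := fun x hx => mem_centralizer_singleton_iff.1 (map_subtype_le _ hx).2
    have hin : ∀ x ∈ (T : Subgroup G), Commute x u → x ∈ S₂ := fun x hx hxu =>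
      ⟨⟨x, hTu ⟨hx, mem_centralizer_singleton_iff.2 hxu.eq⟩⟩, hS ⟨hx, mem_centralizer_singleton_iff.2 hxu.eq⟩, rfl⟩
    have hES₂ : E ≤ S₂ := fun x hx => hin x (hET hx) ((M.centE M.uP hx).symm)
    let φ : G →* G := (MulAut.conj ((k : G) * m⁻¹)).toMonoidHom
    have hφS : ∀ x ∈ C, φ x ∈ S₂ := by
      intro x hx
      refine ⟨k * ⟨m⁻¹ * x * m⁻¹⁻¹, hC'X ⟨x, hx, rfl⟩⟩ * k⁻¹, ?_, by
        show (k : G) * (m⁻¹ * x * m⁻¹⁻¹) * (k : G)⁻¹ = (k : G) * m⁻¹ * x * ((k : G) * m⁻¹)⁻¹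
        group⟩
      rw [← hk, SetLike.mem_coe, Sylow.coe_subgroup_smul, Subgroup.mem_pointwise_smul_iff_inv_smul_mem]
      show (MulAut.conj k)⁻¹ _ ∈ _
      rw [← map_inv, MulAut.conj_apply, show k⁻¹ * (k * ⟨m⁻¹ * x * m⁻¹⁻¹, hC'X ⟨x, hx, rfl⟩⟩ * k⁻¹) * k⁻¹⁻¹ =
        (⟨m⁻¹ * x * m⁻¹⁻¹, hC'X ⟨x, hx, rfl⟩⟩ : Xu) by group]
      exact hS' (show (⟨m⁻¹ * x * m⁻¹⁻¹, hC'X ⟨x, hx, rfl⟩⟩ : Xu) ∈ C'.comap Xu.subtype from ⟨x, hx, rfl⟩)
    have hsqE : ∀ x ∈ C, φ x * φ x ∈ E := by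
      intro x hx
      rcases eq_or_ne (x * x) 1 with h1 | h1
      · rw [← map_mul, h1, map_one]; exact one_mem E
      obtain ⟨hD, -, -⟩ := M.memE (M.mod.X_sq x hx.1) h1
      refine M.fr.data.maximal S₂ hS₂2 hES₂ _ (mul_mem (hφS x hx) (hφS x hx))
        ⟨?_, hS₂a _ (mul_mem (hφS x hx) (hφS x hx)), hS₂u _ (mul_mem (hφS x hx) (hφS x hx))⟩
      rw [← map_mul]
      exact M.crit.conj _ hD _
    have hnorm : ∀ x ∈ S₂, NormTorus E τ x := fun x hx => hτn x (hS₂u x hx) (hS₂a x hx)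
      fun e he => M.norm_E_of_commute S₂ hS₂2 hS₂a hES₂ hx (hS₂u x hx) he
    obtain ⟨σ, hσ, hgen⟩ := hτ.cyclic_on S₂ hS₂2 hnorm M.two_dvd_E
    have hnc : ∀ x ∈ C, x * x ≠ 1 → ∃ e ∈ E, φ x * e * (φ x)⁻¹ ≠ e := by
      intro x hx hx1
      by_contra hall
      push Not at hall
      have h1 := M.sq_eq_one_of_cent hR S₂ hS₂2 hS₂a hES₂ M.fr.multi (hin u (hPT M.uP) (Commute.refl u))
        (fun e he => M.centE M.uP he) (hφS x hx) (hS₂u _ (hφS x hx))
        (fun e he => mul_inv_eq_iff_eq_mul.1 (hall e he))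
      exact hx1 ((MulEquiv.injective (MulAut.conj ((k : G) * m⁻¹))) (by
        show φ (x * x) = φ 1
        rw [map_mul, h1, map_one]))
    have hNσ : σ ∈ normalizer (E : Set G) := (hnorm σ hσ).1
    set ψ : MulAut E := E.normalizerMonoidHom ⟨σ, hNσ⟩
    have hψ : ∀ (i : ℕ) (e : E), (((ψ ^ i) e : E) : G) = σ ^ i * e * (σ ^ i)⁻¹ := fun i e => by
      rw [← map_pow]; rfl
    have hpow : ∀ x ∈ C, x * x ≠ 1 → ∃ i : ℕ, (ψ ^ i) ^ 2 = 1 ∧ ψ ^ i ≠ 1 ∧
        ∀ e ∈ E, φ x * e * (φ x)⁻¹ = σ ^ i * e * (σ ^ i)⁻¹ := by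
      intro x hx hx1
      obtain ⟨i, hi⟩ := hgen _ (hφS x hx)
      obtain ⟨e₀, he₀, hne₀⟩ := hnc x hx hx1
      refine ⟨i, MulEquiv.ext fun e => Subtype.ext ?_, fun e1 => hne₀ ?_, hi⟩
      · rw [pow_two, MulAut.mul_apply, hψ, hψ, ← hi e e.2,
          ← hi _ (by rw [hi e e.2, ← hψ]; exact ((ψ ^ i) e).2),
          show φ x * (φ x * (e : G) * (φ x)⁻¹) * (φ x)⁻¹ = φ x * φ x * (e : G) * (φ x * φ x)⁻¹ by group,
          (M.commE (hsqE x hx) e.2).eq, mul_inv_cancel_right]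
        rfl
      · have h1 := hψ i ⟨e₀, he₀⟩
        rw [e1] at h1
        rw [hi e₀ he₀]
        exact h1.symm
    obtain ⟨i, hi2, hi1, hi⟩ := hpow c₀ hc₀ hc1
    obtain ⟨j, hj2, hj1, hj⟩ := hpow d₀ hd₀ hd1
    have hij := pow_eq_of_sq ψ hi2 hj2 hi1 hj1
    have hsame : ∀ e ∈ E, φ c₀ * e * (φ c₀)⁻¹ = φ d₀ * e * (φ d₀)⁻¹ := fun e he => by
      rw [hi e he, hj e he]
      have h1 := hψ i ⟨e, he⟩
      rw [hij, hψ j ⟨e, he⟩] at h1
      exact h1.symm
    have hcdC : c₀⁻¹ * d₀ ∈ C := mul_mem (inv_mem hc₀) hd₀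
    by_contra hne'
    obtain ⟨e, he, hee⟩ := hnc _ hcdC (fun h1 => hne' (by
      rw [M.sq_mul (inv_mem hc₀.1) hd₀.1, ← mul_inv_rev, inv_mul_eq_one] at h1
      exact h1))
    refine hee ?_
    calc φ (c₀⁻¹ * d₀) * e * (φ (c₀⁻¹ * d₀))⁻¹ = (φ c₀)⁻¹ * (φ d₀ * e * (φ d₀)⁻¹) * φ c₀ := by
          rw [map_mul, map_inv]; group
      _ = e := by rw [← hsame e he]; group
  have hq : q = 4 := by
    letI : CommGroup C := { (inferInstance : Group C) with mul_comm := fun x y => Subtype.ext (M.mod.X_comm x x.2.1 y y.2.1).eq }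
    let f : C →* G := MonoidHom.mk' (fun x : C => (x : G) * x) fun x y => M.sq_mul x.2.1 y.2.1
    have hker : Nat.card f.ker ≤ Nat.card W₀ :=
      Nat.card_le_card_of_injective (fun x : f.ker => (⟨((x : C) : G),
        hinj _ (x : C).2.1 (MonoidHom.mem_ker.1 x.2), (x : C).2.2⟩ : W₀))
        fun y z e => Subtype.ext (Subtype.ext (congrArg Subtype.val e :))
    have hrange : Nat.card f.range ≤ 2 := by
      let B : f.range → Bool := fun y => decide ((y : G) = 1)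
      refine (Nat.card_le_card_of_injective B ?_).trans_eq (by simp)
      rintro ⟨y, c', hc'⟩ ⟨z, d', hd'⟩ e
      simp only [B, decide_eq_decide] at e
      refine Subtype.ext ?_
      show y = z
      rcases eq_or_ne y 1 with h1 | h1
      · rw [h1, e.1 h1]
      · have hc'' : ((c' : G) * c') = y := hc'
        have hd'' : ((d' : G) * d') = z := hd'
        rw [← hc'', ← hd'']
        exact hone c' c'.2 d' d'.2 (hc''.symm ▸ h1) (hd''.symm ▸ fun h2 => h1 (e.2 h2))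
    have h3 := card_mul_index f.ker
    rw [index_ker, hCcard] at h3
    have h5 := Nat.mul_le_mul hker hrange
    have h6 : Nat.card W₀ * Nat.card W₀ ≤ Nat.card W₀ * 2 := by rw [hhalf, ← h3]; exact h5
    have h7 := Nat.le_of_mul_le_mul_left h6 Nat.card_pos
    have := Nat.mul_le_mul h7 h7
    omega
  -- so `u` inverts `X`
  have hW₀2 : Nat.card W₀ = 2 := by
    rw [hq] at hhalf
    rcases Nat.lt_trichotomy (Nat.card W₀) 2 with h1 | h1 | h1
    · have := Nat.mul_le_mul (show Nat.card W₀ ≤ 1 by omega) (show Nat.card W₀ ≤ 1 by omega); omega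
    · exact h1
    · have := Nat.mul_le_mul (show 3 ≤ Nat.card W₀ by omega) (show 3 ≤ Nat.card W₀ by omega); omega
  have hbr_mul : ∀ x ∈ X, br u (w * x * w⁻¹) = w * br u x * w⁻¹ := fun x _ => by
    have h1 : w⁻¹ * u = u * w⁻¹ := hwu.symm.inv_left.eq
    calc u * (w * x * w⁻¹) * u⁻¹ * (w * x * w⁻¹)⁻¹ = (u * w) * x * (w⁻¹ * u⁻¹) * w * x⁻¹ * w⁻¹ := by group
      _ = (w * u) * x * (u⁻¹ * w⁻¹) * w * x⁻¹ * w⁻¹ := by
        rw [hwu.eq, show w⁻¹ * u⁻¹ = u⁻¹ * w⁻¹ from hwu.symm.inv_left.inv_right.eq]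
      _ = _ := by rw [br]; group
  have hinv : ∀ x ∈ X, br u x * (x * x) = 1 := by
    refine (M.dichotomy (fun z => br u z * (z * z)) (fun z hz y hy => ?_) (fun e he => ?_) (fun z hz j => ?_)
      ).resolve_left fun hno => ?_
    · have hc : Commute (br u y) (z * z) := M.commE (M.br_mem M.mod.u_mem hy) (M.mod.X_sq z hz)
      calc br u (z * y) * (z * y * (z * y)) = br u z * (br u y * (z * z)) * (y * y) := by
            rw [M.br_mul M.mod.u_mem hz hy, M.sq_mul hz hy]; simp only [mul_assoc]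
        _ = br u z * (z * z) * (br u y * (y * y)) := by rw [hc.eq]; simp only [mul_assoc]
    · show br u e * (e * e) = 1
      rw [M.br_E M.mod.u_mem he, M.sqE he, one_mul]
    · show br u (η ^ j * z * (η ^ j)⁻¹) * _ = _
      rw [M.br_eta M.mod.u_mem]; group
    obtain ⟨z, hz, hz1⟩ := W₀.bot_or_exists_ne_one.resolve_left fun hb => by
      rw [hb, card_bot] at hW₀2; omega
    obtain ⟨x₀, hx₀, hx₀z⟩ := M.exists_root hinj hz.1
    have hx₀E : x₀ ∉ E := fun h1 => hz1 (hx₀z ▸ M.sqE h1)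
    have hzw : w * z * w⁻¹ = z := by
      rw [← (show z * w = w * z from mem_centralizer_singleton_iff.1 hz.2), mul_inv_cancel_right]
    have hd : (w * x₀ * w⁻¹)⁻¹ * x₀ ∈ E := by
      refine hinj _ (mul_mem (inv_mem (hwX x₀ hx₀)) hx₀) ?_
      rw [M.sq_mul (inv_mem (hwX x₀ hx₀)) hx₀, hx₀z,
        show (w * x₀ * w⁻¹)⁻¹ * (w * x₀ * w⁻¹)⁻¹ = (w * (x₀ * x₀) * w⁻¹)⁻¹ by group, hx₀z, hzw, inv_mul_cancel]
    have hbw : w * br u x₀ * w⁻¹ = br u x₀ := by
      rw [← hbr_mul x₀ hx₀]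
      conv_rhs => rw [show x₀ = w * x₀ * w⁻¹ * ((w * x₀ * w⁻¹)⁻¹ * x₀) by group]
      rw [M.br_mul M.mod.u_mem (hwX x₀ hx₀) (M.mod.E_X hd), M.br_E M.mod.u_mem hd, mul_one]
    have hbW : br u x₀ ∈ W₀ :=
      ⟨M.br_mem M.mod.u_mem hx₀, mem_centralizer_singleton_iff.2 (mul_inv_eq_iff_eq_mul.1 hbw).symm⟩
    have hb1 : br u x₀ ≠ 1 := fun e => hx₀E (M.E_of_commute_u hx₀ (commute_of_br e))
    obtain ⟨y₁, y₂, hy12, huniv⟩ := Nat.card_eq_two_iff.mp hW₀2
    have htwo : ∀ y : W₀, y = y₁ ∨ y = y₂ := fun y => by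
      have : y ∈ ({y₁, y₂} : Set W₀) := huniv ▸ Set.mem_univ y
      simpa using this
    have hbz : br u x₀ = z := by
      rcases htwo ⟨_, hbW⟩ with e1 | e1 <;> rcases htwo ⟨z, hz⟩ with e2 | e2 <;>
        rcases htwo 1 with e3 | e3 <;>
        first
          | exact congrArg Subtype.val (e1.trans e2.symm)
          | exact absurd (congrArg Subtype.val (e1.trans e3.symm)) hb1
          | exact absurd (congrArg Subtype.val (e2.trans e3.symm)) hz1
    exact hx₀E (hno x₀ hx₀ (by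
      show br u x₀ * (x₀ * x₀) = 1
      rw [hbz, hx₀z, M.sqE hz.1]))
  obtain ⟨e, he, hee⟩ := hmv
  obtain ⟨y₀, hy₀, hy₀e⟩ := M.exists_root hinj he
  set x := y₀ * (w * y₀ * w⁻¹)⁻¹ with hx
  have hxX : x ∈ X := mul_mem hy₀ (inv_mem (hwX y₀ hy₀))
  have hxsq : x * x ≠ 1 := by
    rw [hx, M.sq_mul hy₀ (inv_mem (hwX y₀ hy₀)), hy₀e,
      show (w * y₀ * w⁻¹)⁻¹ * (w * y₀ * w⁻¹)⁻¹ = (w * (y₀ * y₀) * w⁻¹)⁻¹ by group, hy₀e]
    exact fun h1 => hee (mul_inv_eq_one.1 h1).symm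
  have hxw : w * x * w⁻¹ = x⁻¹ := by
    calc w * x * w⁻¹ = w * y₀ * w⁻¹ * ((w * w) * y₀ * (w * w)⁻¹)⁻¹ := by rw [hx]; group
      _ = w * y₀ * w⁻¹ * y₀⁻¹ := by rw [hww, one_mul, inv_one, mul_one]
      _ = x⁻¹ := by rw [hx, mul_inv_rev, inv_inv]
  have hux : ∀ y ∈ X, u * y * u⁻¹ = y⁻¹ := fun y hy => by
    rw [M.conj_eq_br, eq_inv_of_mul_eq_one_left (hinv y hy)]; group
  have hxv : Commute (u * w) x := by
    have h1 : u * w * x * (u * w)⁻¹ = x := by
      rw [show u * w * x * (u * w)⁻¹ = u * (w * x * w⁻¹) * u⁻¹ by group, hxw, hux _ (inv_mem hxX), inv_inv]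
    exact mul_inv_eq_iff_eq_mul.1 h1
  obtain ⟨z, hz⟩ : ∃ z, z = x * x := ⟨_, rfl⟩
  have hzE : z ∈ E := hz ▸ M.mod.X_sq x hxX
  have hxE : x ∉ E := fun h1 => hxsq (M.sqE h1)
  have hzxE : z * x ∉ E := fun h1 => hxE (by
    have := mul_mem (inv_mem hzE) h1
    rwa [inv_mul_cancel_left] at this)
  have hs1 : u * x * (u * x) = 1 := by rw [M.sq_rx M.mod.u_mem]; exact hinv x hxX
  have hzz : z * z = 1 := M.sqE hzE
  have hcz : Commute z (u * x) := (M.centE (mul_mem M.uP (M.mod.X_le hxX)) hzE).symm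
  have hsz : z * (u * x) = u * (z * x) := by rw [← mul_assoc, ← (M.centE M.uP hzE).eq, mul_assoc]
  let F : Subgroup G :=
    { carrier := {1, z, u * x, z * (u * x)}
      one_mem' := Or.inl rfl
      mul_mem' := by
        intro c d hc hd
        have h1 : u * x * z = z * (u * x) := hcz.eq.symm
        have h2 : ∀ r, z * (z * r) = r := fun r => by rw [← mul_assoc, hzz, one_mul]
        simp only [Set.mem_insert_iff, Set.mem_singleton_iff] at hc hd ⊢
        rcases hc with e1 | e1 | e1 | e1 <;> rcases hd with e2 | e2 | e2 | e2 <;> rw [e1, e2] <;>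
          simp only [one_mul, mul_one, true_or, or_true, h2, hzz, hs1, h1, mul_assoc z (u * x) z,
            mul_assoc z (u * x) (z * (u * x)), mul_assoc z (u * x) (u * x),
            show u * x * (z * (u * x)) = z by rw [← mul_assoc, h1, mul_assoc, hs1, mul_one]]
      inv_mem' := by
        intro c hc
        simp only [Set.mem_insert_iff, Set.mem_singleton_iff] at hc ⊢
        have hzs : z * (u * x) * (z * (u * x)) = 1 := by
          rw [mul_assoc, ← mul_assoc (u * x), ← hcz.eq, mul_assoc z (u * x), hs1, mul_one, hzz]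
        rcases hc with e | e | e | e <;> rw [e]
        · exact Or.inl inv_one
        · exact Or.inr (Or.inl (inv_eq_of_mul_eq_one_right hzz))
        · exact Or.inr (Or.inr (Or.inl (inv_eq_of_mul_eq_one_right hs1)))
        · exact Or.inr (Or.inr (Or.inr (inv_eq_of_mul_eq_one_right hzs))) }
  have hFmem : ∀ {r}, r ∈ F → r = 1 ∨ r = z ∨ r = u * x ∨ r = z * (u * x) := fun hr => hr
  have hv_u : Commute u (u * w) := (Commute.refl u).mul_right hwu
  have hv_z : Commute (u * w) z := hz ▸ hxv.mul_right hxv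
  have hz1 : z ≠ 1 := hz ▸ hxsq
  have hinvzx : br u (z * x) * (z * x * (z * x)) = 1 := hinv _ (mul_mem (M.mod.E_X hzE) hxX)
  refine ⟨F, ⟨fun r hr hr1 => ?_, fun r hr t ht => ?_⟩, ?_⟩
  · rcases hFmem hr with e | e | e | e <;> rw [e] at hr1 ⊢
    · exact absurd rfl hr1
    · exact ⟨(M.memE hzE hz1).1, (M.memE hzE hz1).2.1, hv_z.symm⟩
    · exact ⟨M.ux_member hn hxX hxE (hinv x hxX), M.fixP (mul_mem M.uP (M.mod.X_le hxX)),
        hv_u.mul_left hxv.symm⟩
    · refine ⟨hsz ▸ M.ux_member hn (mul_mem (M.mod.E_X hzE) hxX) hzxE hinvzx,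
        M.fixP (mul_mem (M.E_le_P hzE) (mul_mem M.uP (M.mod.X_le hxX))),
        hv_z.symm.mul_left (hv_u.mul_left hxv.symm)⟩
  · rcases hFmem hr with e | e | e | e <;> rcases hFmem ht with e' | e' | e' | e' <;> rw [e, e'] <;>
      first
        | exact Commute.one_left _
        | exact Commute.one_right _
        | exact Commute.refl _
        | exact hcz
        | exact hcz.symm
        | exact (Commute.refl z).mul_right hcz
        | exact ((Commute.refl z).mul_right hcz).symm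
        | exact hcz.symm.mul_right (Commute.refl _)
        | exact (hcz.symm.mul_right (Commute.refl _)).symm
  · rw [hq]
    have hux1 : u * x ≠ 1 := fun e1 => M.u_not_X (by
      rw [show u = x⁻¹ from eq_inv_of_mul_eq_one_left e1]; exact inv_mem hxX)
    have huzX : ∀ r ∈ X, r ≠ u * x := fun r hr e1 => M.u_not_X (by
      have := mul_mem (e1 ▸ hr : u * x ∈ X) (inv_mem hxX)
      rwa [mul_inv_cancel_right] at this)
    rw [show Nat.card F = ({1, z, u * x, z * (u * x)} : Set G).ncard from (Nat.card_coe_set_eq _)]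
    rw [Set.ncard_insert_of_notMem, Set.ncard_insert_of_notMem, Set.ncard_pair]
    · intro e1
      exact hz1 (mul_eq_right.1 e1.symm)
    · simp only [Set.mem_insert_iff, Set.mem_singleton_iff, not_or]
      exact ⟨huzX z (M.mod.E_X hzE), fun e1 => hux1 (mul_eq_left.1 e1.symm)⟩
    · simp only [Set.mem_insert_iff, Set.mem_singleton_iff, not_or]
      refine ⟨hz1.symm, hux1.symm, fun e1 => M.u_not_X ?_⟩
      rw [hsz] at e1
      rw [show u = (z * x)⁻¹ from eq_inv_of_mul_eq_one_left e1.symm]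
      exact inv_mem (mul_mem (M.mod.E_X hzE) hxX)

end OneModel

end CfsgLib.AschCrit
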