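import Cfsg.Agent.Lib.Invol.AschCrit.EndOne.Two

/-!
Owner: helper8. Aschbacher's criterion, end game of type one with `q ^ 3` other points: no element centralising
`E` moves the class `u E` inside `P`.

Otherwise a Sylow group is `C_T(E)` of order `2 q ^ 3`, its factor group over `X` is elementary, and every
involution outside `E` inverts `X`: Thompson transfer at a subgroup over `C(X)`.
-/

set_option autoImplicit false
set_option linter.unusedSectionVars false
set_option linter.style.haveILetI false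

namespace CfsgLib.AschCrit

open Subgroup MulAction

universe u v

variable {G : Type u} [Group G] [Finite G] {Ω : Type v} [MulAction G Ω]

namespace OneModel

variable {D : Set G} {u : G} {a b : Ω} {E : Subgroup G} {q : ℕ} {P R X : Subgroup G} {η : G}
  (M : OneModel D u a b E q P R X η)
include M

theorem br_sq_dichotomy {r : G} (hr : r ∈ R) :
    (∀ x ∈ X, br r x * (x * x) = 1 → x ∈ E) ∨ ∀ x ∈ X, br r x * (x * x) = 1 := by
  refine M.dichotomy (fun z => br r z * (z * z)) (fun z hz w hw => ?_) (fun e he => ?_) (fun z hz j => ?_)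
  · have hc : Commute (br r w) (z * z) := M.commE (M.br_mem hr hw) (M.mod.X_sq z hz)
    calc br r (z * w) * (z * w * (z * w)) = br r z * (br r w * (z * z)) * (w * w) := by
          rw [M.br_mul hr hz hw, M.sq_mul hz hw]; simp only [mul_assoc]
      _ = br r z * (z * z) * (br r w * (w * w)) := by rw [hc.eq]; simp only [mul_assoc]
  · show br r e * (e * e) = 1
    rw [M.br_E hr he, M.sqE he, one_mul]
  · show br r (η ^ j * z * (η ^ j)⁻¹) * _ = _
    rw [M.br_eta hr]; group

/-- A moved class makes `u` invert `X`. -/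
theorem inverts (hR : Nat.card R = 2) {g : G} (hg : g ∈ normalizer (P : Set G))
    (hmv : u * (g * u * g⁻¹) ∉ E) : ∀ x ∈ X, br u x * (x * x) = 1 := by
  refine (M.br_sq_dichotomy M.mod.u_mem).resolve_left fun hno => hmv (hno _ (M.shift_mem hR hg) ?_)
  rw [← M.sq_rx M.mod.u_mem, ← M.conj_u_eq,
    show g * u * g⁻¹ * (g * u * g⁻¹) = g * (u * u) * g⁻¹ by group, M.usq, mul_one, mul_inv_cancel]

theorem mem_E_of_sq (hinv : ∀ x ∈ X, br u x * (x * x) = 1) {y : G} (hy : y ∈ X) (hy2 : y * y = 1) : y ∈ E := by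
  have h := hinv y hy
  rw [hy2, mul_one] at h
  exact M.E_of_commute_u hy (commute_of_br h)

/-- An element normalising `P` and centralising `E` fixes `X` modulo `E`. -/
theorem conj_X_mod (hR : Nat.card R = 2) (hinv : ∀ x ∈ X, br u x * (x * x) = 1) {g : G}
    (hg : g ∈ normalizer (P : Set G)) (hgE : ∀ e ∈ E, Commute g e) {x : G} (hx : x ∈ X) :
    x⁻¹ * (g * x * g⁻¹) ∈ E := by
  have h1 := M.norm_X hR hg hx
  refine M.mem_E_of_sq hinv (mul_mem (inv_mem hx) h1) ?_
  rw [M.sq_mul (inv_mem hx) h1, show g * x * g⁻¹ * (g * x * g⁻¹) = g * (x * x) * g⁻¹ by group,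
    (hgE _ (M.mod.X_sq x hx)).eq, mul_inv_cancel_right]
  group

theorem eta_normalizer : η ∈ normalizer (P : Set G) := by
  refine mem_normalizer_of_mapsTo fun g hg => ?_
  obtain ⟨r, hr, x, hx, rfl⟩ := M.gen' hg
  rw [show η * (r * x) * η⁻¹ = η * r * η⁻¹ * (η * x * η⁻¹) by group, (M.mod.h_cent.2 r hr).eq, mul_inv_cancel_right]
  exact mul_mem (M.mod.R_le hr) (M.mod.X_le (M.mod.h_norm.2.1 x hx))

/-- With `q ^ 3` other points no element centralising `E` moves the class. -/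
theorem no_translation (hR : Nat.card R = 2) (hn : Nat.card Ω - 1 = q ^ 3)
    (hg4 : ∀ x ∈ mems D a, ¬ 4 ∣ orderOf (u * x)) {g₀ : G} (hg₀a : g₀ • a = a)
    (hg₀N : g₀ ∈ normalizer (P : Set G)) (hg₀E : ∀ e ∈ E, Commute g₀ e)
    (hmv : u * (g₀ * u * g₀⁻¹) ∉ E) : False := by
  classical
  haveI := Fact.mk Nat.prime_two
  haveI := M.crit.finite_points
  have hq4 := M.q4
  have hinv := M.inverts hR hg₀N hmv
  -- the group moving the classes
  set K₀ : Subgroup G := stabilizer G a ⊓ centralizer (E : Set G) ⊓ normalizer (P : Set G)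
  have hK₀ : ∀ g, g ∈ K₀ ↔ g • a = a ∧ (∀ e ∈ E, Commute g e) ∧ g ∈ normalizer (P : Set G) := fun g =>
    ⟨fun h => ⟨h.1.1, fun e he => (mem_centralizer_iff.1 h.1.2 e he).symm, h.2⟩,
      fun h => ⟨⟨h.1, mem_centralizer_iff.2 fun e he => (h.2.1 e he).symm.eq⟩, h.2.2⟩⟩
  have hPK₀ : P ≤ K₀ := fun g hg => (hK₀ g).2 ⟨M.fixP hg, fun e he => M.centE hg he, le_normalizer hg⟩
  set L : Subgroup K₀ := (transSubOne u a E).subgroupOf K₀
  have hsel : ∀ e : E, ∃ g ∈ K₀, br u (u * (g * u * g⁻¹)) = e := by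
    rintro ⟨e, he⟩
    rcases eq_or_ne e 1 with rfl | he1
    · refine ⟨1, one_mem _, ?_⟩
      simp [br, M.usq]
    have hx₀ : br u (u * (g₀ * u * g₀⁻¹)) ≠ 1 := fun e1 =>
      hmv (M.E_of_commute_u (M.shift_mem hR hg₀N) (commute_of_br e1))
    obtain ⟨j, hj⟩ := M.mod.h_trans _ (M.br_mem M.mod.u_mem (M.shift_mem hR hg₀N)) e he hx₀ he1
    have hηK : η ^ j * g₀ * (η ^ j)⁻¹ ∈ K₀ := by
      have hja : η ^ j ∈ stabilizer G a := pow_mem (show η ∈ stabilizer G a from M.mod.h_fix.1) j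
      have hjE : η ^ j ∈ normalizer (E : Set G) := pow_mem M.torusOn.mem_normalizer j
      refine (hK₀ _).2 ⟨mul_mem (mul_mem hja (show g₀ ∈ stabilizer G a from hg₀a)) (inv_mem hja),
        fun f hf => ?_, mul_mem (mul_mem (pow_mem M.eta_normalizer j) hg₀N) (inv_mem (pow_mem M.eta_normalizer j))⟩
      have h1 : (η ^ j)⁻¹ * f * η ^ j ∈ E := by
        have := (mem_normalizer_iff.1 (inv_mem hjE) f).1 hf
        rwa [inv_inv] at this
      have h2 := (Commute.conj_iff (η ^ j)).2 (hg₀E _ h1)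
      rwa [show η ^ j * ((η ^ j)⁻¹ * f * η ^ j) * (η ^ j)⁻¹ = f by group] at h2
    refine ⟨_, hηK, ?_⟩
    have hcu : Commute (η ^ j) u := M.mod.h_cent.1.pow_left j
    rw [show u * (η ^ j * g₀ * (η ^ j)⁻¹ * u * (η ^ j * g₀ * (η ^ j)⁻¹)⁻¹) =
      η ^ j * (u * (g₀ * u * g₀⁻¹)) * (η ^ j)⁻¹ from ?_, M.br_eta M.mod.u_mem, hj]
    calc u * (η ^ j * g₀ * (η ^ j)⁻¹ * u * (η ^ j * g₀ * (η ^ j)⁻¹)⁻¹)
        = u * η ^ j * g₀ * ((η ^ j)⁻¹ * u * η ^ j) * g₀⁻¹ * (η ^ j)⁻¹ := by group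
      _ = η ^ j * u * g₀ * u * g₀⁻¹ * (η ^ j)⁻¹ := by
        rw [← hcu.eq, show (η ^ j)⁻¹ * u * η ^ j = u by rw [mul_assoc, ← hcu.eq, inv_mul_cancel_left]]
      _ = η ^ j * (u * (g₀ * u * g₀⁻¹)) * (η ^ j)⁻¹ := by group
  choose f hfK hf using hsel
  let cl : K₀ ⧸ L → E := Quotient.lift
    (fun g : K₀ => (⟨br u (u * ((g : G) * u * (g : G)⁻¹)), M.br_mem M.mod.u_mem
      (M.shift_mem hR ((hK₀ g).1 g.2).2.2)⟩ : E))
    (fun g g' hgg' => by
      have h1 : g⁻¹ * g' ∈ L := QuotientGroup.leftRel_apply.1 hgg'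
      obtain ⟨-, -, hk⟩ := mem_transSub_one.1 (mem_subgroupOf.1 h1)
      obtain ⟨hga, hgE, hgN⟩ := (hK₀ g).1 g.2
      refine Subtype.ext ?_
      show br u (u * ((g : G) * u * (g : G)⁻¹)) = br u (u * ((g' : G) * u * (g' : G)⁻¹))
      simp only [Subgroup.coe_mul, InvMemClass.coe_inv] at hk
      set k := u⁻¹ * ((g : G)⁻¹ * g' * u * ((g : G)⁻¹ * g')⁻¹)
      have h2 : u * ((g' : G) * u * (g' : G)⁻¹) = u * ((g : G) * u * (g : G)⁻¹) * k := by
        calc u * ((g' : G) * u * (g' : G)⁻¹) = u * ((g : G) * u * ((g : G)⁻¹) * ((g : G) * k * (g : G)⁻¹)) := by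
              simp only [k]; group
          _ = _ := by rw [(hgE k hk).eq, mul_inv_cancel_right]; simp only [mul_assoc]
      rw [h2, M.br_mul M.mod.u_mem (M.shift_mem hR hgN) (M.mod.E_X hk), M.br_E M.mod.u_mem hk, mul_one])
  have hcl_inj : Function.Injective cl := by
    intro p p'
    induction p using Quotient.inductionOn with
    | h g =>
    induction p' using Quotient.inductionOn with
    | h g' =>
      intro hgg
      refine Quotient.sound (QuotientGroup.leftRel_apply.2 ?_)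
      obtain ⟨hga, hgE, hgN⟩ := (hK₀ g).1 g.2
      obtain ⟨hga', hgE', hgN'⟩ := (hK₀ g').1 g'.2
      have h0 : br u (u * ((g : G) * u * (g : G)⁻¹)) = br u (u * ((g' : G) * u * (g' : G)⁻¹)) :=
        congrArg Subtype.val hgg
      have hxX := M.shift_mem hR hgN
      have hxX' := M.shift_mem hR hgN'
      set x := u * ((g : G) * u * (g : G)⁻¹)
      set x' := u * ((g' : G) * u * (g' : G)⁻¹)
      have hinvbr : br u x⁻¹ = (br u x)⁻¹ := eq_inv_of_mul_eq_one_left (by
        rw [← M.br_mul M.mod.u_mem (inv_mem hxX) hxX, inv_mul_cancel, M.br_E M.mod.u_mem (one_mem E)])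
      have hd : x⁻¹ * x' ∈ E := M.E_of_commute_u (mul_mem (inv_mem hxX) hxX') (commute_of_br (by
        rw [M.br_mul M.mod.u_mem (inv_mem hxX) hxX', hinvbr, h0, inv_mul_cancel]))
      refine mem_subgroupOf.2 (mem_transSub_one.2 ⟨?_, fun e he => ((hgE e he).inv_left).mul_left (hgE' e he), ?_⟩)
      · show ((g : G)⁻¹ * g') • a = a
        rw [mul_smul, hga', inv_smul_eq_iff, hga]
      · show u⁻¹ * ((g : G)⁻¹ * g' * u * ((g : G)⁻¹ * g')⁻¹) ∈ E
        have e1 : u⁻¹ * ((g : G)⁻¹ * g' * u * ((g : G)⁻¹ * g')⁻¹) = (g : G)⁻¹ * (x⁻¹ * x') * g := by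
          simp only [x, x']; group
        rw [e1, (hgE _ hd).inv_left.eq, inv_mul_cancel_right]
        exact hd
  have hcl_surj : Function.Surjective cl := fun e =>
    ⟨Quotient.mk'' ⟨f e, hfK e⟩, Subtype.ext (hf e)⟩
  have hidx : L.index = q := by
    rw [index_eq_card, Nat.card_eq_of_bijective cl ⟨hcl_inj, hcl_surj⟩, M.fr.data.card_E]
  have hPL : P.subgroupOf K₀ ≤ L := fun g hg => mem_subgroupOf.2 (M.mod.sub _ (mem_subgroupOf.1 hg))
  have hdvd : q * q * 2 * q ∣ Nat.card K₀ := by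
    rw [← card_mul_index L, hidx, ← M.cardP_two hR, ← Nat.card_congr (subgroupOfEquivOfLe hPK₀).toEquiv]
    exact Nat.mul_dvd_mul_right (card_dvd_of_le hPL) q
  obtain ⟨s, hs, hqs⟩ := M.fr.data.pow
  have hpow : q * q * 2 = 2 ^ (s + s + 1) ∧ q * q * 2 * q = 2 ^ (s + s + 1 + s) := by
    rw [hqs]
    constructor <;> ring
  obtain ⟨S₀, hS₀c, hPS₀⟩ := Sylow.exists_subgroup_card_pow_prime_le 2 (hpow.2 ▸ hdvd) (P.subgroupOf K₀)
    ((Nat.card_congr (subgroupOfEquivOfLe hPK₀).toEquiv).trans ((M.cardP_two hR).trans hpow.1)) (by omega)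
  set S : Subgroup G := S₀.map K₀.subtype
  have hScard : Nat.card S = q * q * 2 * q := by
    rw [card_map_of_injective K₀.subtype_injective, hS₀c, hpow.2]
  have hSK₀ : S ≤ K₀ := map_subtype_le _
  have hPS : P ≤ S := fun g hg => ⟨⟨g, hPK₀ hg⟩, hPS₀ (mem_subgroupOf.2 hg), rfl⟩
  have hS2 : IsPGroup 2 S := IsPGroup.of_card (hScard.trans hpow.2)
  obtain ⟨T, hST, hTa⟩ := M.inp.exists_sylow_at S hS2 (fun g hg => ((hK₀ g).1 (hSK₀ hg)).1)
  have hPT : P ≤ (T : Subgroup G) := hPS.trans hST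
  have hET := M.E_le_P.trans hPT
  have hcl' := M.stronglyClosed hg4 T hTa hPT
  -- `S` is the centraliser of `E`
  set C : Subgroup G := (T : Subgroup G) ⊓ centralizer (E : Set G)
  have hSC : S = C := by
    refine Subgroup.eq_of_le_of_card_ge (le_inf hST fun g hg => mem_centralizer_iff.2 fun e he =>
      (((hK₀ g).1 (hSK₀ hg)).2.1 e he).symm.eq) ?_
    refine Nat.le_of_dvd (hScard ▸ by positivity) ?_
    have h1 := M.card_dvd C (T.2.to_le inf_le_left) (fun g hg => hTa g hg.1)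
      (fun g hg e he => (mem_centralizer_iff.1 hg.2 e he).symm)
    rwa [hn, hR, show q ^ 3 * 2 = q * q * 2 * q by ring, ← hScard] at h1
  have hTE : ∀ g ∈ (T : Subgroup G), ∀ e ∈ E, g * e * g⁻¹ ∈ E := fun g hg e he =>
    hcl' g e he (mul_mem (mul_mem hg (hET he)) (inv_mem hg))
  have hSmem : ∀ g ∈ (T : Subgroup G), (∀ e ∈ E, Commute g e) → g ∈ S := fun g hg hgE =>
    hSC.symm ▸ (⟨hg, mem_centralizer_iff.2 fun e he => (hgE e he).symm.eq⟩ : g ∈ C)
  -- `S` is transitive
  have hbS := M.fr.data.ne.symm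
  have hSE : ∀ g ∈ S, ∀ e ∈ E, Commute g e := fun g hg => ((hK₀ g).1 (hSK₀ hg)).2.1
  have hSa : ∀ g ∈ S, g • a = a := fun g hg => hTa g (hST hg)
  have hstab : Nat.card (stabilizer S b) ≤ 2 := hR ▸ M.stab_le S hS2 hSa hSE hbS
  have horb : orbit S b = Set.univ \ {a} := by
    refine Set.eq_of_subset_of_ncard_le ?_ ?_
    · rintro _ ⟨g, rfl⟩
      exact ⟨Set.mem_univ _, fun e => hbS (MulAction.injective (g : G) ((Set.mem_singleton_iff.1 e).trans
        (hSa g g.2).symm))⟩
    · rw [Set.ncard_sdiff (Set.subset_univ _), Set.ncard_univ, Set.ncard_singleton, hn, ← index_stabilizer]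
      have h1 := card_mul_index (stabilizer S b)
      rw [hScard, show q * q * 2 * q = 2 * q ^ 3 by ring] at h1
      exact Nat.le_of_mul_le_mul_left (h1.symm.le.trans (Nat.mul_le_mul_right _ hstab)) two_pos
  have hSb : ∀ x ∈ S, x • b = b → x = 1 ∨ x = u := by
    intro x hx hxb
    by_contra hne
    push Not at hne
    let u' : stabilizer S b := ⟨⟨u, hPS M.uP⟩, M.fr.data.fix_b⟩
    let x' : stabilizer S b := ⟨⟨x, hx⟩, hxb⟩
    haveI := Fintype.ofFinite (stabilizer S b)
    have h3 : ({1, u', x'} : Finset (stabilizer S b)).card = 3 := by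
      rw [Finset.card_eq_three]
      refine ⟨1, u', x', fun e => ?_, fun e => ?_, fun e => ?_, rfl⟩
      · exact M.u_ne (congrArg (fun w : stabilizer S b => ((w : S) : G)) e).symm
      · exact hne.1 (congrArg (fun w : stabilizer S b => ((w : S) : G)) e).symm
      · exact hne.2 (congrArg (fun w : stabilizer S b => ((w : S) : G)) e).symm
    have := Finset.card_le_univ ({1, u', x'} : Finset (stabilizer S b))
    rw [h3, ← Nat.card_eq_fintype_card] at this
    omega
  have hcent := M.centralizes T hTa hET hcl' fun g hg => by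
    have hgb : g • b ∈ orbit S b := by
      rw [horb]
      exact ⟨Set.mem_univ _, fun e => hbS (MulAction.injective g ((Set.mem_singleton_iff.1 e).trans (hTa g hg).symm))⟩
    obtain ⟨⟨c, hc⟩, hcb⟩ := hgb
    set t := c⁻¹ * g
    have htT : t ∈ (T : Subgroup G) := mul_mem (inv_mem (hST hc)) hg
    have htb : t • b = b := by
      show (c⁻¹ * g) • b = b
      rw [mul_smul, inv_smul_eq_iff]; exact hcb.symm
    refine ⟨t, htT, ?_, fun e he => ?_⟩
    · have h1 : t * u * t⁻¹ ∈ S := hSmem _ (mul_mem (mul_mem htT (hPT M.uP)) (inv_mem htT)) fun e he => by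
        have h2 : t⁻¹ * e * t ∈ E := by
          have := hTE t⁻¹ (inv_mem htT) e he
          rwa [inv_inv] at this
        have h3 := (Commute.conj_iff t).2 (M.centE M.uP h2)
        rwa [show t * (t⁻¹ * e * t) * t⁻¹ = e by group] at h3
      have h4 : (t * u * t⁻¹) • b = b := by
        rw [mul_smul, mul_smul, inv_smul_eq_iff.2 htb.symm, M.fr.data.fix_b, htb]
      rcases hSb _ h1 h4 with h5 | h5
      · exact absurd (conj_eq_one_iff.1 h5) M.u_ne
      · exact mul_inv_eq_iff_eq_mul.1 h5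
    · calc g * e * g⁻¹ = c⁻¹ * (g * e * g⁻¹) * c := by
            rw [(hSE _ (inv_mem hc) _ (hTE g hg e he)).eq, inv_mul_cancel_right]
        _ = t * e * t⁻¹ := by simp only [t]; group
  have hTK₀ : ∀ g ∈ (T : Subgroup G), g ∈ K₀ := fun g hg => hSK₀ (hSmem g hg (hcent g hg))
  have hTN : ∀ g ∈ (T : Subgroup G), g ∈ normalizer (P : Set G) := fun g hg => ((hK₀ g).1 (hTK₀ g hg)).2.2
  -- the part fixing the class is `P`
  have hTP : ∀ g ∈ (T : Subgroup G), u⁻¹ * (g * u * g⁻¹) ∈ E → g ∈ P := by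
    intro g hg hgu
    have hle := M.mod.sylow ((T : Subgroup G) ⊓ transSubOne u a E) (T.2.to_le inf_le_left)
      (fun x hx => hx.2)
    have heq : P = (T : Subgroup G) ⊓ transSubOne u a E :=
      Subgroup.eq_of_le_of_card_ge (le_inf hPT fun x hx => M.mod.sub x hx) hle
    exact heq.symm ▸ (⟨hg, mem_transSub_one.2 ⟨hTa g hg, hcent g hg, hgu⟩⟩ : g ∈ (T : Subgroup G) ⊓ transSubOne u a E)
  -- an involution outside `E` is a multi
  have hmultiT : ∀ w ∈ (T : Subgroup G), orderOf w = 2 → w ∉ E → IsMulti Ω w := fun w hw hw2 hwE =>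
    M.crit.singleMem M.inp.faith w hw2 ⟨a, hTa w hw⟩ fun hD =>
      hwE (M.mem_E_of_member hg4 _ T.2 hTa hET (hPT M.uP) hw hD)
  -- squares lie in `X`
  have hsqX : ∀ n ∈ (T : Subgroup G), n * n ∈ X := by
    intro n hn
    have hxX := M.shift_mem hR (hTN n hn)
    set x := u * (n * u * n⁻¹) with hx
    have hnn : n * n ∈ P := hTP _ (mul_mem hn hn) (by
      have e1 : u⁻¹ * (n * n * u * (n * n)⁻¹) = x * x * (x⁻¹ * (n * x * n⁻¹)) := by
        calc u⁻¹ * (n * n * u * (n * n)⁻¹) = u⁻¹ * (n * (n * u * n⁻¹) * n⁻¹) := by group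
          _ = u⁻¹ * (n * (u * x) * n⁻¹) := by rw [hx, ← M.conj_u_eq]
          _ = u⁻¹ * (n * u * n⁻¹) * (n * x * n⁻¹) := by group
          _ = x * (n * x * n⁻¹) := by rw [M.uinv, ← hx]
          _ = x * x * (x⁻¹ * (n * x * n⁻¹)) := by group
      rw [e1]
      exact mul_mem (M.mod.X_sq x hxX) (M.conj_X_mod hR hinv (hTN n hn) (hcent n hn) hxX))
    rcases M.gen_two hR hnn with h1 | h1
    · exact h1
    exfalso
    have hw : n * n * (n * n) = 1 := by
      rw [show n * n = u * (u * (n * n)) by rw [← mul_assoc, M.usq, one_mul], M.sq_rx M.mod.u_mem, hinv _ h1]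
    have hwnX : n * n ∉ X := fun hX => M.u_not_X (by
      have := mul_mem h1 (inv_mem hX)
      rwa [mul_inv_cancel_right] at this)
    have hw1 : n * n ≠ 1 := fun e => hwnX (e ▸ one_mem X)
    have hwm := hmultiT _ (mul_mem hn hn) (orderOf_eq_prime (by rw [pow_two]; exact hw) hw1)
      (fun hE => hwnX (M.mod.E_X hE))
    exact hw1 (M.sq_eq_one_of_cent hR _ T.2 hTa hET hwm (mul_mem hn hn) (hcent _ (mul_mem hn hn)) hn
      ((Commute.refl n).mul_right (Commute.refl n)) (hcent n hn))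
  have hcommX : ∀ c ∈ (T : Subgroup G), ∀ d ∈ (T : Subgroup G), c * d * c⁻¹ * d⁻¹ ∈ X := fun c hc d hd => by
    have h1 := mul_mem (mul_mem (hsqX c hc) (hsqX _ (mul_mem (inv_mem hc) hd))) (hsqX _ (inv_mem hd))
    rwa [show c * c * (c⁻¹ * d * (c⁻¹ * d)) * (d⁻¹ * d⁻¹) = c * d * c⁻¹ * d⁻¹ by group] at h1
  -- involutions outside `E` invert `X`
  have hinvert : ∀ w ∈ (T : Subgroup G), orderOf w = 2 → w ∉ E → ∀ y ∈ X, w * y * w⁻¹ = y⁻¹ := by
    intro w hw hw2 hwE
    have hwm := hmultiT w hw hw2 hwE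
    have hww : w * w = 1 := by rw [← pow_two, ← hw2, pow_orderOf_eq_one]
    have hwinv : w⁻¹ = w := inv_eq_of_mul_eq_one_right hww
    letI : MulAction (T : Subgroup G) G :=
      { smul := fun t x => (t : G) * x * (t : G)⁻¹
        one_smul := fun x => by show (1 : G) * x * (1 : G)⁻¹ = x; simp
        mul_smul := fun t t' x => by
          show ((t : G) * t') * x * ((t : G) * t')⁻¹ = (t : G) * ((t' : G) * x * (t' : G)⁻¹) * (t : G)⁻¹
          group }
    have hsub : orbit (T : Subgroup G) w ⊆ (fun y => w * y) '' (X : Set G) := by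
      rintro _ ⟨t, rfl⟩
      refine ⟨w * ((t : G) * w * (t : G)⁻¹), ?_, ?_⟩
      · have := hcommX w hw t t.2
        rw [hwinv] at this
        simpa [mul_assoc, hwinv] using this
      · show w * (w * ((t : G) * w * (t : G)⁻¹)) = (t : G) * w * (t : G)⁻¹
        rw [← mul_assoc, hww, one_mul]
    have hKle : Nat.card (stabilizer (T : Subgroup G) w) ≤ q * 2 := by
      have hK := M.card_cent_le hwm (hTa w hw) (hcent w hw) ((T : Subgroup G) ⊓ centralizer ({w} : Set G))
        (T.2.to_le inf_le_left) (fun g hg => hTa g hg.1) (fun g hg => mem_centralizer_singleton_iff.1 hg.2)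
        (fun g hg => hcent g hg.1)
      rw [hR] at hK
      refine le_trans (le_of_eq ?_) hK
      exact Nat.card_congr
        { toFun := fun t => ⟨t.1.1, t.1.2, mem_centralizer_singleton_iff.2 (mul_inv_eq_iff_eq_mul.1 t.2)⟩
          invFun := fun g => ⟨⟨g.1, g.2.1⟩, mul_inv_eq_iff_eq_mul.2 (mem_centralizer_singleton_iff.1 g.2.2)⟩
          left_inv := fun t => rfl
          right_inv := fun g => rfl }
    have hTc : q * q * 2 * q ≤ Nat.card (T : Subgroup G) := hScard ▸ Subgroup.card_le_of_le hST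
    have hwX : ((fun y => w * y) '' (X : Set G)).ncard = q * q := by
      rw [Set.ncard_image_of_injective _ (mul_right_injective w), ← Nat.card_coe_set_eq]
      exact M.mod.X_card
    have heq : orbit (T : Subgroup G) w = (fun y => w * y) '' (X : Set G) := by
      refine Set.eq_of_subset_of_ncard_le hsub ?_
      rw [hwX, ← index_stabilizer]
      have h1 := card_mul_index (stabilizer (T : Subgroup G) w)
      refine Nat.le_of_mul_le_mul_left ?_ (show 0 < q * 2 by omega)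
      calc q * 2 * (q * q) = q * q * 2 * q := by ring
        _ ≤ _ := hTc
        _ = _ := h1.symm
        _ ≤ _ := Nat.mul_le_mul_right _ hKle
    intro y hy
    obtain ⟨t, ht⟩ : w * y ∈ orbit (T : Subgroup G) w := heq ▸ ⟨y, hy, rfl⟩
    have ht' : (t : G) * w * (t : G)⁻¹ = w * y := ht
    have h2 : w * y * (w * y) = 1 := by
      rw [← ht', show (t : G) * w * (t : G)⁻¹ * ((t : G) * w * (t : G)⁻¹) = (t : G) * (w * w) * (t : G)⁻¹ by group,
        hww, mul_one, mul_inv_cancel]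
    rw [hwinv]
    refine eq_inv_of_mul_eq_one_left ?_
    simpa [mul_assoc] using h2
  -- transfer
  set C₀ : Subgroup G := (T : Subgroup G) ⊓ centralizer (X : Set G)
  have hXC₀ : X ≤ C₀ := le_inf (M.mod.X_le.trans hPT) fun x hx => mem_centralizer_iff.2 fun y hy =>
    (M.mod.X_comm y hy x hx).eq
  obtain ⟨N, hC₀N, hNT, huN, hNi⟩ := CfsgLib.ThreeTrans.SylowSmallFrattini.exists_index_two (R := (T : Subgroup G))
    (D := C₀) inf_le_left (hPT M.uP) (fun huC => by
      obtain ⟨y, hy, hyE⟩ := M.exists_not_E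
      exact hyE (M.E_of_commute_u hy (mem_centralizer_iff.1 huC.2 y hy).symm))
    (fun c hc => hXC₀ (hsqX c hc)) (fun c hc d hd => hXC₀ (hcommX c hc d hd))
  obtain ⟨d, d', hd, hd', hne, hc⟩ := M.exists_pair
  obtain ⟨g, hg⟩ := M.crit.exists_conj_mem (M.crit.commMul M.inp.faith) M.inp.top hd hd' hne hc T N hNi
    M.fr.multi.1
  set w := g * u * g⁻¹
  have hwT := hNT hg
  have hwm : IsMulti Ω w := M.fr.multi.conj g
  have hwE : w ∉ E := fun hE => M.not_mem_D hwm (M.memE hE fun e => by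
    have := hwm.1
    rw [e, orderOf_one] at this
    omega).1
  have huw : u * w ∈ C₀ := by
    refine ⟨mul_mem (hPT M.uP) hwT, mem_centralizer_iff.2 fun y hy => ?_⟩
    have h1 := hinvert w hwT hwm.1 hwE y hy
    have h2 := hinvert u (hPT M.uP) M.fr.multi.1 M.u_not_E y⁻¹ (inv_mem hy)
    rw [inv_inv] at h2
    have h3 : u * w * y * (u * w)⁻¹ = y := by
      rw [show u * w * y * (u * w)⁻¹ = u * (w * y * w⁻¹) * u⁻¹ by group, h1, h2]
    exact (mul_inv_eq_iff_eq_mul.1 h3).symm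
  exact huN (by simpa using mul_mem (hC₀N huw) (inv_mem hg))

end OneModel

end CfsgLib.AschCrit
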